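import Groth.Agent.Books.AlgPtsGrp
import Groth.Agent.Sga3B.DSPts
import Groth.Agent.S0348

/-!
# Geometric points of group schemes

`kp s : Over S` is the spectrum of an algebraic closure of `κ(s)`.  `exists_mul`: if the geometric
fibre of `G` at `s` is irreducible and `Ω` is open in `G` and contains the unit at `s`, then every
`kp s`-valued point of `G` is a product of two such points lying in `Ω`.
-/

set_option autoImplicit false
universe u
open CategoryTheory MonoidalCategory CartesianMonoidalCategory MonObj GrpObj AlgebraicGeometry Limits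

namespace K212.Kpt

open Groth.Agent.Sga3B.DSPts Groth.Agent.Books.AlgPts

variable {S : Scheme.{u}} (s : S)

/-- an algebraic closure of the residue field -/
abbrev K : Type u := AlgebraicClosure (S.residueField s)

/-- `Spec` of it over `S` -/
noncomputable abbrev kp : Over S := (Over.map (Red.geomPt s)).obj (𝟙_ (Over (Spec (CommRingCat.of (K s)))))

variable {s}

/-- the topological point under a geometric point -/
noncomputable def pt {X : Over S} (x : kp s ⟶ X) : X.left := x.left (IsLocalRing.closedPoint (K s))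

lemma pt_comp {X Y : Over S} (x : kp s ⟶ X) (f : X ⟶ Y) : pt (x ≫ f) = f.left (pt x) := by
  rw [pt, Over.comp_left, Scheme.Hom.comp_apply]
  rfl

lemma eq_pt {X : Over S} (x : kp s ⟶ X) (z : (kp s).left) : x.left z = pt x := by
  have : Subsingleton (PrimeSpectrum (K s)) := inferInstance
  have h : z = IsLocalRing.closedPoint (K s) := this.elim _ _
  rw [h]; rfl

lemma range_eq {X : Over S} (x : kp s ⟶ X) : Set.range x.left = {pt x} := by
  ext y
  constructor
  · rintro ⟨z, rfl⟩
    exact eq_pt x z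
  · rintro rfl
    exact ⟨_, rfl⟩

lemma geomPt_apply (z : Spec (CommRingCat.of (K s))) : Red.geomPt s z = s := by
  change (Spec.map _ ≫ S.fromSpecResidueField s) _ = s
  rw [Scheme.Hom.comp_apply]
  exact Scheme.fromSpecResidueField_apply _ _

lemma hom_pt {X : Over S} (x : kp s ⟶ X) : X.hom (pt x) = s := by
  have h1 : X.hom (pt x) = (kp s).hom (IsLocalRing.closedPoint (K s)) := by
    rw [pt, ← Scheme.Hom.comp_apply, Over.w]
  rw [h1]
  change (𝟙 _ ≫ Red.geomPt s) _ = s
  rw [Category.id_comp]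
  exact geomPt_apply _

lemma pt_symm {G : Over S} [GrpObj G] (x : 𝟙_ (Over (Spec (CommRingCat.of (K s)))) ⟶ Red.geomFibre s G) :
    pt ((bcEquiv (Red.geomPt s) _ G).symm x) = pullback.fst G.hom (Red.geomPt s) (Groth.Agent.Books.AlgPts.pt x) := by
  rw [pt, bcEquiv_symm_left, Scheme.Hom.comp_apply]
  rfl

/-- every nonempty locally closed subset meeting the fibre contains a geometric point -/
lemma exists_pt' {G : Over S} [GrpObj G] [LocallyOfFiniteType G.hom] {U : Set G.left}
    (hU : IsLocallyClosed U) {u : G.left} (hu : u ∈ U) (hs : G.hom u = s) :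
    ∃ x : kp s ⟶ G, pt x ∈ U := by
  obtain ⟨w, hw1, -⟩ := Scheme.Pullback.exists_preimage_pullback (f := G.hom) (g := Red.geomPt s) u
    (IsLocalRing.closedPoint (K s)) (hs.trans (geomPt_apply _).symm)
  have : LocallyOfFiniteType (Red.geomFibre s G).hom :=
    inferInstanceAs (LocallyOfFiniteType (pullback.snd G.hom (Red.geomPt s)))
  obtain ⟨x, hx⟩ := exists_pt_mem (X := Red.geomFibre s G)
    (U := (pullback.fst G.hom (Red.geomPt s)) ⁻¹' U) ⟨w, by rw [Set.mem_preimage, hw1]; exact hu⟩
    (hU.preimage (pullback.fst G.hom (Red.geomPt s)).continuous)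
  refine ⟨(bcEquiv (Red.geomPt s) _ G).symm x, ?_⟩
  rw [pt_symm]
  exact hx

/-- every geometric point is a product of two geometric points in a given open neighbourhood of
the unit section -/
theorem exists_mul {G : Over S} [GrpObj G] [LocallyOfFiniteType G.hom]
    [IrreducibleSpace (Red.geomFibre s G).left] {Ω : Set G.left} (hΩ : IsOpen Ω)
    (h1 : pt (1 : kp s ⟶ G) ∈ Ω) (g : kp s ⟶ G) : ∃ a b : kp s ⟶ G, pt a ∈ Ω ∧ pt b ∈ Ω ∧ g = a * b := by
  have : LocallyOfFiniteType (Red.geomFibre s G).hom :=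
    inferInstanceAs (LocallyOfFiniteType (pullback.snd G.hom (Red.geomPt s)))
  let e := bcEquiv (Red.geomPt s) (𝟙_ (Over (Spec (CommRingCat.of (K s))))) G
  let Ω' : Set (Red.geomFibre s G).left := (pullback.fst G.hom (Red.geomPt s)) ⁻¹' Ω
  have hΩ' : IsOpen Ω' := hΩ.preimage (pullback.fst G.hom (Red.geomPt s)).continuous
  have mem : ∀ x : 𝟙_ (Over (Spec (CommRingCat.of (K s)))) ⟶ Red.geomFibre s G,
      Groth.Agent.Books.AlgPts.pt x ∈ Ω' ↔ pt (e.symm x) ∈ Ω := by
    intro x
    rw [pt_symm]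
    rfl
  have h1' : Groth.Agent.Books.AlgPts.pt (1 : 𝟙_ (Over (Spec (CommRingCat.of (K s)))) ⟶ Red.geomFibre s G) ∈ Ω' := by
    rw [mem, map_one]
    exact h1
  let g' := e g
  -- the morphism `h ↦ h⁻¹ g`
  let φ : Red.geomFibre s G ⟶ Red.geomFibre s G :=
    (𝟙 (Red.geomFibre s G))⁻¹ * (toUnit _ ≫ g')
  have hφ : ∀ x : 𝟙_ (Over (Spec (CommRingCat.of (K s)))) ⟶ Red.geomFibre s G, x ≫ φ = x⁻¹ * g' := by
    intro x
    change x ≫ ((𝟙 (Red.geomFibre s G))⁻¹ * (toUnit _ ≫ g')) = _
    rw [MonObj.comp_mul, GrpObj.comp_inv, Category.comp_id, ← Category.assoc,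
      toUnit_unique (x ≫ toUnit _) (𝟙 _), Category.id_comp]
  let U₂ : Set (Red.geomFibre s G).left := φ.left ⁻¹' Ω'
  have hU₂ : IsOpen U₂ := hΩ'.preimage φ.left.continuous
  have hne : (Ω' ∩ U₂).Nonempty := by
    have hirr := IrreducibleSpace.toPreirreducibleSpace (X := (Red.geomFibre s G).left)
    obtain ⟨z, -, hz⟩ := hirr.isPreirreducible_univ Ω' U₂ hΩ' hU₂ ⟨_, trivial, h1'⟩
      ⟨Groth.Agent.Books.AlgPts.pt g', trivial, by
        change φ.left (Groth.Agent.Books.AlgPts.pt g') ∈ Ω'
        rw [← Groth.Agent.Books.AlgPts.pt_comp, hφ, inv_mul_cancel]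
        exact h1'⟩
    exact ⟨z, hz⟩
  obtain ⟨x, hx1, hx2⟩ := exists_pt_mem hne (hΩ'.inter hU₂).isLocallyClosed
  refine ⟨e.symm x, (e.symm x)⁻¹ * g, (mem x).1 hx1, ?_, by rw [mul_inv_cancel_left]⟩
  have h2 : φ.left (Groth.Agent.Books.AlgPts.pt x) ∈ Ω' := hx2
  rw [← Groth.Agent.Books.AlgPts.pt_comp, hφ, mem, map_mul, map_inv] at h2
  have h3 : e.symm g' = g := e.symm_apply_apply g
  rwa [h3] at h2

/-- the geometric fibres of a reductive group are irreducible -/
lemma irreducible_of_isReductive {G : Over S} [GrpObj G] (hG : Red.IsReductive G) (s : S) :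
    IrreducibleSpace (Red.geomFibre s G).left := by
  have := (hG.2.2 s).2.2.1
  exact Groth.Agent.S0348.result _ (Red.geomFibre s G)

end K212.Kpt
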