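import Mathlib.Algebra.Ring.Units
import Mathlib.Tactic.Ring
import Mathlib.Tactic.Group
import Mathlib.Tactic.LinearCombination

/-!
# Rank one commutation relations on points: pure algebra

`R1 B Gr Tr`: a group `Gr`, two one-parameter subgroups `p q : B → Gr`, a torus `t : Tr →* Gr`
acting through `ch`, `ch⁻¹`, a coroot `av` with `ch ∘ av = (·)^2`, and the commutation rule
`p x * q y = q (y/z) * t (av z) * p (x/z)` for `z = 1 + x y` invertible.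
-/

set_option autoImplicit false

namespace K212.R1Alg

/-- Rank one commutation data on points over a fixed ring. -/
structure R1 (B Gr Tr : Type*) [CommRing B] [Group Gr] [Group Tr] where
  /-- the positive root group -/
  p : B → Gr
  /-- the negative root group -/
  q : B → Gr
  /-- the torus -/
  t : Tr →* Gr
  /-- the root -/
  ch : Tr →* Bˣ
  /-- the coroot -/
  av : Bˣ →* Tr
  tcomm : ∀ s s' : Tr, s * s' = s' * s
  p_add : ∀ x y, p (x + y) = p x * p y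
  q_add : ∀ x y, q (x + y) = q x * q y
  tp : ∀ s x, t s * p x = p (ch s * x) * t s
  tq : ∀ s y, t s * q y = q (((ch s)⁻¹ : Bˣ) * y) * t s
  ch_av : ∀ z, ch (av z) = z ^ 2
  F : ∀ (x y : B) (z : Bˣ), (z : B) = 1 + x * y →
    p x * q y = q ((z⁻¹ : Bˣ) * y) * t (av z) * p ((z⁻¹ : Bˣ) * x)

namespace R1

variable {B Gr Tr : Type*} [CommRing B] [Group Gr] [Group Tr] (D : R1 B Gr Tr)

/-- the coroot as a homomorphism to the group -/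
def h : Bˣ →* Gr := D.t.comp D.av

lemma h_apply (z : Bˣ) : D.h z = D.t (D.av z) := rfl

lemma p_zero : D.p 0 = 1 := by
  have h := D.p_add 0 0
  rw [add_zero] at h
  exact mul_eq_left.mp h.symm

lemma q_zero : D.q 0 = 1 := by
  have h := D.q_add 0 0
  rw [add_zero] at h
  exact mul_eq_left.mp h.symm

lemma p_neg (x : B) : D.p (-x) = (D.p x)⁻¹ := by
  rw [eq_inv_iff_mul_eq_one, ← D.p_add, neg_add_cancel, D.p_zero]

lemma q_neg (x : B) : D.q (-x) = (D.q x)⁻¹ := by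
  rw [eq_inv_iff_mul_eq_one, ← D.q_add, neg_add_cancel, D.q_zero]

lemma hp (z : Bˣ) (x : B) : D.h z * D.p x = D.p ((z : B) ^ 2 * x) * D.h z := by
  rw [h_apply, D.tp, D.ch_av, Units.val_pow_eq_pow_val]

lemma hq (z : Bˣ) (x : B) : D.h z * D.q x = D.q (((z⁻¹ : Bˣ) : B) ^ 2 * x) * D.h z := by
  rw [h_apply, D.tq, D.ch_av, ← inv_pow, Units.val_pow_eq_pow_val]

lemma ph (z : Bˣ) (x : B) : D.p x * D.h z = D.h z * D.p (((z⁻¹ : Bˣ) : B) ^ 2 * x) := by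
  rw [hp, ← mul_assoc, ← mul_pow, Units.mul_inv, one_pow, one_mul]

lemma qh (z : Bˣ) (x : B) : D.q x * D.h z = D.h z * D.q ((z : B) ^ 2 * x) := by
  rw [hq, ← mul_assoc, ← mul_pow, Units.inv_mul, one_pow, one_mul]

lemma pt (s : Tr) (x : B) : D.p x * D.t s = D.t s * D.p (((D.ch s)⁻¹ : Bˣ) * x) := by
  rw [D.tp, ← mul_assoc, Units.mul_inv, one_mul]

lemma qt (s : Tr) (x : B) : D.q x * D.t s = D.t s * D.q (D.ch s * x) := by
  rw [D.tq, ← mul_assoc, Units.inv_mul, one_mul]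

lemma F' (x y : B) (z : Bˣ) (hz : (z : B) = 1 + x * y) :
    D.p x * D.q y = D.q ((z⁻¹ : Bˣ) * y) * D.h z * D.p ((z⁻¹ : Bˣ) * x) := D.F x y z hz

/-- the reversed commutation rule -/
lemma rev (x y : B) (z : Bˣ) (hz : (z : B) = 1 + x * y) :
    D.q y * D.p x = D.p ((z⁻¹ : Bˣ) * x) * (D.h z)⁻¹ * D.q ((z⁻¹ : Bˣ) * y) := by
  have h1 := D.F' ((z⁻¹ : Bˣ) * x) ((z : B) * y) z (by
    have := Units.inv_mul z
    linear_combination hz - x * y * this)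
  have e1 : ((z⁻¹ : Bˣ) : B) * (z * y) = y := by rw [← mul_assoc, Units.inv_mul, one_mul]
  rw [e1, mul_assoc, ← mul_assoc ((z⁻¹ : Bˣ) : B), ← pow_two] at h1
  have h2 : D.h z * D.p (((z⁻¹ : Bˣ) : B) ^ 2 * x) = D.p x * D.h z := (D.ph z x).symm
  rw [h2] at h1
  have h3 : (D.h z)⁻¹ * D.q ((z⁻¹ : Bˣ) * y) = D.q ((z : B) * y) * (D.h z)⁻¹ := by
    rw [inv_mul_eq_iff_eq_mul, ← mul_assoc, eq_mul_inv_iff_mul_eq, D.qh]
    congr 2
    have := Units.mul_inv z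
    linear_combination (z * y) * this
  rw [mul_assoc, h3, ← mul_assoc, h1]
  group

/-- the Weyl element `w(x) = p(x) q(-x⁻¹) p(x)` -/
def w (x : Bˣ) : Gr := D.p x * D.q (-((x⁻¹ : Bˣ) : B)) * D.p x

lemma w_def (x : Bˣ) : D.w x = D.p x * D.q (-((x⁻¹ : Bˣ) : B)) * D.p x := rfl

/-- `w(z x) = h(z) w(x)` -/
lemma w_mul (z x : Bˣ) : D.w (z * x) = D.h z * D.w x := by
  -- `q(-1/x) p(x - z x) = p((x - z x)/z) h(z)⁻¹ q(-1/(z x))`
  have h1 := D.rev (x - z * x) (-((x⁻¹ : Bˣ) : B)) z (by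
    have := Units.mul_inv x
    linear_combination (1 - (z : B)) * this)
  have h2 : D.p (x - z * x) = D.p x * (D.p (z * x))⁻¹ := by
    rw [sub_eq_add_neg, D.p_add, D.p_neg]
  have h3 : ((z⁻¹ : Bˣ) : B) * (x - z * x) = (z⁻¹ : Bˣ) * x - x := by
    have := Units.inv_mul z
    linear_combination (-(x : B)) * this
  rw [h2, h3] at h1
  have h4 : D.p ((z⁻¹ : Bˣ) * x - x) = (D.p x)⁻¹ * D.p ((z⁻¹ : Bˣ) * x) := by
    rw [sub_eq_add_neg, add_comm, D.p_add, D.p_neg]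
  rw [h4] at h1
  -- so `w(x) = p(x/z) h(z)⁻¹ q(-1/(zx)) p(zx)`
  have h5 : D.w x = D.p ((z⁻¹ : Bˣ) * x) * (D.h z)⁻¹ * D.q ((z⁻¹ : Bˣ) * -((x⁻¹ : Bˣ) : B)) *
      D.p (z * x) := by
    rw [w_def]
    have : D.q (-((x⁻¹ : Bˣ) : B)) * D.p x = (D.p x)⁻¹ * D.p ((z⁻¹ : Bˣ) * x) * (D.h z)⁻¹ *
        D.q ((z⁻¹ : Bˣ) * -((x⁻¹ : Bˣ) : B)) * D.p (z * x) := by
      rw [← h1]; group
    rw [mul_assoc, this]
    group
  rw [h5, w_def, Units.val_mul]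
  have h6 : D.h z * D.p ((z⁻¹ : Bˣ) * x) = D.p (z * x) * D.h z := by
    rw [hp]
    congr 2
    have := Units.mul_inv z
    linear_combination (z * x) * this
  have h7 : ((z⁻¹ : Bˣ) : B) * -((x⁻¹ : Bˣ) : B) = -(((z * x)⁻¹ : Bˣ) : B) := by
    rw [mul_inv_rev, Units.val_mul]; ring
  rw [h7]
  have h8 : D.h z * (D.p ((z⁻¹ : Bˣ) * x) * (D.h z)⁻¹ * D.q (-(((z * x)⁻¹ : Bˣ) : B)) * D.p (z * x)) =
      (D.h z * D.p ((z⁻¹ : Bˣ) * x)) * (D.h z)⁻¹ * D.q (-(((z * x)⁻¹ : Bˣ) : B)) * D.p (z * x) := by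
    group
  rw [h8, h6]
  group

/-- conjugation of `w(x)` by the torus -/
lemma t_w (s : Tr) (x : Bˣ) : D.t s * D.w x = D.w (D.ch s * x) * D.t s := by
  rw [w_def, w_def, ← mul_assoc, ← mul_assoc, D.tp, mul_assoc (D.p _) (D.t s), D.tq, mul_assoc,
    mul_assoc (D.q _) (D.t s), D.tp, mul_inv_rev]
  simp only [Units.val_mul, mul_neg]
  rw [mul_comm ((x⁻¹ : Bˣ) : B)]
  group

lemma t_h (s : Tr) (z : Bˣ) : D.t s * D.h z = D.h z * D.t s := by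
  rw [h_apply, ← map_mul, ← map_mul, D.tcomm]

/-- `w(x) t w(x)⁻¹ = h(α(t))⁻¹ t` -/
lemma w_t (s : Tr) (x : Bˣ) : D.w x * D.t s * (D.w x)⁻¹ = (D.h (D.ch s))⁻¹ * D.t s := by
  have h1 := D.t_w s x
  rw [w_mul] at h1
  rw [mul_inv_eq_iff_eq_mul, mul_assoc, h1]
  group

lemma w_h (x z : Bˣ) : D.w x * D.h z = (D.h z)⁻¹ * D.w x := by
  have h1 := D.w_t (D.av z) x
  rw [D.ch_av, ← h_apply, mul_inv_eq_iff_eq_mul] at h1
  rw [h1, ← map_inv, ← map_inv, ← map_mul]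
  congr 2
  rw [pow_two]
  group

/-- `w(z x) = w(x) h(z)⁻¹` -/
lemma w_mul' (z x : Bˣ) : D.w (z * x) = D.w x * (D.h z)⁻¹ := by
  have h1 := D.w_h x z⁻¹
  rw [map_inv, inv_inv] at h1
  rw [w_mul, h1]

lemma w_neg (x : Bˣ) : D.w (-x) = (D.w x)⁻¹ := by
  rw [w_def, w_def, inv_neg, Units.val_neg, Units.val_neg, D.p_neg, neg_neg, D.q_neg]
  group

lemma h_neg_one_sq : D.h (-1) * D.h (-1) = 1 := by
  rw [← map_mul, neg_mul_neg, mul_one, map_one]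

lemma w_sq (x : Bˣ) : D.w x * D.w x = D.h (-1) := by
  have h1 := D.w_mul (-1) x
  rw [neg_one_mul, w_neg, inv_eq_iff_mul_eq_one] at h1
  have h2 : D.h (-1) = (D.h (-1))⁻¹ := by
    rw [eq_inv_iff_mul_eq_one, D.h_neg_one_sq]
  have h3 : D.w x * D.h (-1) = D.h (-1) * D.w x := by
    rw [w_h, ← h2]
  rw [← mul_assoc, h3, mul_assoc, mul_eq_one_iff_inv_eq, ← h2] at h1
  exact h1.symm

/-- `w(x) w(y) = h(-x/y)` -/
lemma w_mul_w (x y : Bˣ) : D.w x * D.w y = D.h (-x * y⁻¹) := by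
  have h1 := D.w_mul (x * y⁻¹) y
  rw [inv_mul_cancel_right] at h1
  rw [h1, mul_assoc, w_sq, ← map_mul]
  congr 1
  rw [mul_neg_one, neg_mul]

/-- `w(x) q(Y)` in the cell, under the assumption that `1 + x Y` is a unit -/
lemma w_q_aux (x Y v : Bˣ) (hv : (v : B) = 1 + x * Y) :
    D.w x * D.q Y = D.q (-((x⁻¹ ^ 2 * Y⁻¹ : Bˣ) : B)) * D.h (x * Y) * D.p ((Y⁻¹ : Bˣ) : B) := by
  have hvi := Units.mul_inv v
  have hxi := Units.mul_inv x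
  have hYi := Units.mul_inv Y
  -- first `p(x) q(Y) = q(Y/v) h(v) p(x/v)`
  have h1 := D.F' x Y v hv
  -- `q(-1/x) q(Y/v) = q(-1/(x v))`
  have h2 : D.q (-((x⁻¹ : Bˣ) : B)) * D.q ((v⁻¹ : Bˣ) * Y) = D.q (-((x⁻¹ * v⁻¹ : Bˣ) : B)) := by
    rw [← D.q_add, Units.val_mul]
    congr 1
    linear_combination (((x⁻¹ : Bˣ) : B)) * hvi - ((v⁻¹ : Bˣ) : B) * ((x⁻¹ : Bˣ) : B) * hv
      - ((v⁻¹ : Bˣ) : B) * Y * hxi
  -- `p(x) q(-1/(x v)) = q(-1/(x² Y)) h(xY/v) p(v/Y)`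
  have h3 := D.F' x (-((x⁻¹ * v⁻¹ : Bˣ) : B)) (x * Y * v⁻¹) (by
    push_cast
    linear_combination hvi - ((v⁻¹ : Bˣ) : B) * hv + ((v⁻¹ : Bˣ) : B) * hxi)
  have e1 : (((x * Y * v⁻¹)⁻¹ : Bˣ) : B) * -((x⁻¹ * v⁻¹ : Bˣ) : B) =
      -((x⁻¹ ^ 2 * Y⁻¹ : Bˣ) : B) := by
    push_cast [mul_inv_rev, inv_inv]
    linear_combination (-(((x⁻¹ : Bˣ) : B) ^ 2 * ((Y⁻¹ : Bˣ) : B))) * hvi
  have e2 : (((x * Y * v⁻¹)⁻¹ : Bˣ) : B) * (x : B) = ((v * Y⁻¹ : Bˣ) : B) := by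
    rw [← Units.val_mul]
    congr 1
    rw [mul_inv_rev, mul_inv_rev, inv_inv, mul_assoc, mul_assoc, inv_mul_cancel, mul_one]
  rw [e1, e2] at h3
  have e3 : D.w x * D.q Y = D.p x * (D.q (-((x⁻¹ : Bˣ) : B)) * D.q ((v⁻¹ : Bˣ) * Y)) *
      D.h v * D.p ((v⁻¹ : Bˣ) * x) := by
    rw [w_def, mul_assoc, h1]; group
  rw [e3, h2, h3, mul_assoc _ (D.p _) (D.h v), D.ph]
  have e4 : D.p (((v⁻¹ : Bˣ) : B) ^ 2 * ((v * Y⁻¹ : Bˣ) : B)) * D.p ((v⁻¹ : Bˣ) * x) =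
      D.p ((Y⁻¹ : Bˣ) : B) := by
    rw [← D.p_add]
    congr 1
    rw [Units.val_mul]
    linear_combination (((v⁻¹ : Bˣ) : B) * ((Y⁻¹ : Bˣ) : B) + ((Y⁻¹ : Bˣ) : B)) * hvi
      - ((v⁻¹ : Bˣ) : B) * ((Y⁻¹ : Bˣ) : B) * hv - ((v⁻¹ : Bˣ) : B) * x * hYi
  have e5 : D.h (x * Y * v⁻¹) * D.h v = D.h (x * Y) := by
    rw [← map_mul, inv_mul_cancel_right]
  rw [← e4, ← e5]
  group

/-- `w(x) q(Y)` in the cell, when some multiple `1 + r x Y` is a unit -/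
lemma w_q_of (x Y r v : Bˣ) (hv : (v : B) = 1 + r * x * Y) :
    D.w x * D.q Y = D.q (-((x⁻¹ ^ 2 * Y⁻¹ : Bˣ) : B)) * D.h (x * Y) * D.p ((Y⁻¹ : Bˣ) : B) := by
  have h1 := D.w_q_aux (r * x) Y v (by rw [Units.val_mul]; exact hv)
  rw [w_mul, mul_assoc] at h1
  rw [← mul_right_inj (D.h r), h1]
  have h2 : D.h r * D.q (-((x⁻¹ ^ 2 * Y⁻¹ : Bˣ) : B)) =
      D.q (-(((r * x)⁻¹ ^ 2 * Y⁻¹ : Bˣ) : B)) * D.h r := by
    rw [hq]
    congr 2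
    push_cast [mul_inv_rev]
    ring
  rw [← mul_assoc, ← mul_assoc, h2, mul_assoc r x Y, map_mul D.h r]
  group

/-- conjugation by `w(x)` on the negative root group: units, under an auxiliary assumption -/
lemma w_conj_q_of (x Y r v : Bˣ) (hv : (v : B) = 1 + r * x * Y) :
    D.w x * D.q Y = D.p (-((x : B) ^ 2 * Y)) * D.w x := by
  rw [D.w_q_of x Y r v hv]
  have hxi := Units.mul_inv x
  have hYi := Units.mul_inv Y
  have h1 := D.F' (x - (x : B) ^ 2 * Y) (-((x⁻¹ : Bˣ) : B)) (x * Y) (by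
    rw [Units.val_mul]
    linear_combination (1 - x * (Y : B)) * hxi)
  have e1 : (((x * Y)⁻¹ : Bˣ) : B) * -((x⁻¹ : Bˣ) : B) = -((x⁻¹ ^ 2 * Y⁻¹ : Bˣ) : B) := by
    push_cast [mul_inv_rev]
    ring
  have e2 : (((x * Y)⁻¹ : Bˣ) : B) * (x - (x : B) ^ 2 * Y) = ((Y⁻¹ : Bˣ) : B) - x := by
    push_cast [mul_inv_rev]
    linear_combination (((Y⁻¹ : Bˣ) : B) - (Y * ((Y⁻¹ : Bˣ) : B)) * (x : B)) * hxi - (x : B) * hYi
  rw [e1, e2] at h1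
  have e3 : D.p (x - (x : B) ^ 2 * Y) = D.p (-((x : B) ^ 2 * Y)) * D.p x := by
    rw [← D.p_add]; congr 1; ring
  have e4 : D.p (((Y⁻¹ : Bˣ) : B) - x) = D.p ((Y⁻¹ : Bˣ) : B) * (D.p x)⁻¹ := by
    rw [sub_eq_add_neg, D.p_add, D.p_neg]
  rw [e3, e4] at h1
  have h2 : D.p (-((x : B) ^ 2 * Y)) * D.w x =
      (D.p (-((x : B) ^ 2 * Y)) * D.p x * D.q (-((x⁻¹ : Bˣ) : B))) * D.p x := by
    rw [w_def]; group
  rw [h2, h1]
  group

end R1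

end K212.R1Alg
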