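import Groth.Agent.Sga3.H811.Pts
import Groth.Agent.Red.K212.R1Alg

/-!
# The rank one commutation data of a scheme-theoretic rank one system, on `X`-points
-/

set_option autoImplicit false
universe u
open CategoryTheory MonoidalCategory CartesianMonoidalCategory MonObj GrpObj AlgebraicGeometry Limits

namespace K212.R1Mk

open Groth.Agent.Sga3B.DSPts Groth.Agent.Sga3B.GaPts Groth.Agent.Sga3.H811.Pts K212.R1Alg

variable {S : Scheme.{u}}

/-- the unit of a point of `𝔾_m` -/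
noncomputable def uPt {X : Over S} (z : X ⟶ Red.Gm S) : Γ(X.left, ⊤)ˣ := (isUnit_gmFn z).unit

@[simp] lemma uPt_val {X : Over S} (z : X ⟶ Red.Gm S) : ((uPt z : Γ(X.left, ⊤)ˣ) : Γ(X.left, ⊤)) = Red.gmFn z := rfl

@[simp] lemma gmPt_uPt {X : Over S} (z : X ⟶ Red.Gm S) : gmPt X (uPt z) = z := by
  apply gmFn_injective
  rw [gmFn_gmPt, uPt_val]

@[simp] lemma uPt_gmPt {X : Over S} (z : Γ(X.left, ⊤)ˣ) : uPt (gmPt X z : X ⟶ Red.Gm S) = z := by
  apply Units.ext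
  rw [uPt_val, gmFn_gmPt]

lemma gmPt_mul (X : Over S) (z z' : Γ(X.left, ⊤)ˣ) :
    (gmPt X (z * z') : X ⟶ Red.Gm S) = gmPt X z * gmPt X z' := by
  apply gmFn_injective
  rw [gmFn_mul, gmFn_gmPt, gmFn_gmPt, gmFn_gmPt, Units.val_mul]

lemma gmPt_one (X : Over S) : (gmPt X 1 : X ⟶ Red.Gm S) = 1 := by
  apply gmFn_injective
  rw [gmFn_one, gmFn_gmPt, Units.val_one]

lemma uPt_mul {X : Over S} (z z' : X ⟶ Red.Gm S) : uPt (z * z') = uPt z * uPt z' := by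
  apply Units.ext
  rw [uPt_val, gmFn_mul, Units.val_mul, uPt_val, uPt_val]

lemma uPt_one {X : Over S} : uPt (1 : X ⟶ Red.Gm S) = 1 := by
  apply Units.ext
  rw [uPt_val, gmFn_one, Units.val_one]

lemma comp_gmPt {X X' : Over S} (f : X' ⟶ X) (z : Γ(X.left, ⊤)ˣ) :
    f ≫ (gmPt X z : X ⟶ Red.Gm S) = gmPt X' (Units.map (f.left.appTop.hom : Γ(X.left, ⊤) →* _) z) := by
  apply gmFn_injective
  rw [gmFn_comp, gmFn_gmPt, gmFn_gmPt]
  rfl

variable {G T : Over S} [GrpObj G] [GrpObj T]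

/-- The hypotheses of the rank one rows: a torus (only commutativity of its points is used), a
character and a cocharacter, two root homomorphisms, and the commutation rule. -/
structure R1Hyp (i : T ⟶ G) (α : T ⟶ Red.Gm S) (pp pm : Red.Ga S ⟶ G) (av : Red.Gm S ⟶ T) : Prop where
  mi : IsMonHom i
  ma : IsMonHom α
  mpp : IsMonHom pp
  mpm : IsMonHom pm
  mav : IsMonHom av
  tcomm : ∀ (X : Over S) (t t' : X ⟶ T), t * t' = t' * t
  hpp : NormP i α pp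
  hpm : NormM i α pm
  h2 : av ≫ α = (𝟙 (Red.Gm S)) ^ 2
  hF : ∀ (X : Over S) (x y : X ⟶ Red.Ga S), IsUnit (1 + Red.gaFn x * Red.gaFn y) →
      ∃ (x' y' : X ⟶ Red.Ga S) (z : X ⟶ Red.Gm S), Red.gmFn z = 1 + Red.gaFn x * Red.gaFn y ∧
        Red.gaFn x' * Red.gmFn z = Red.gaFn x ∧ Red.gaFn y' * Red.gmFn z = Red.gaFn y ∧
        (x ≫ pp) * (y ≫ pm) = (y' ≫ pm) * (z ≫ av ≫ i) * (x' ≫ pp)

variable {i : T ⟶ G} {α : T ⟶ Red.Gm S} {pp pm : Red.Ga S ⟶ G} {av : Red.Gm S ⟶ T}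

omit [GrpObj T] in
lemma uPt_hom_one [GrpObj T] [hα : IsMonHom α] {X : Over S} : uPt ((1 : X ⟶ T) ≫ α) = 1 := by
  have h1 := MonObj.one_comp (X := X) α
  rw [h1, uPt_one]

omit [GrpObj T] in
lemma uPt_hom_mul [GrpObj T] [hα : IsMonHom α] {X : Over S} (t t' : X ⟶ T) :
    uPt ((t * t') ≫ α) = uPt (t ≫ α) * uPt (t' ≫ α) := by
  have h1 := MonObj.mul_comp t t' α
  rw [h1, uPt_mul]

/-- the commutation data on `X`-points -/
noncomputable def R1Hyp.sys (H : R1Hyp i α pp pm av) (X : Over S) :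
    R1 Γ(X.left, ⊤) (X ⟶ G) (X ⟶ T) where
  p x := gaPt X x ≫ pp
  q y := gaPt X y ≫ pm
  t :=
    { toFun := fun s => s ≫ i
      map_one' := by have := H.mi; exact MonObj.one_comp i
      map_mul' := fun s s' => by have := H.mi; exact MonObj.mul_comp s s' i }
  ch :=
    { toFun := fun s => uPt (s ≫ α)
      map_one' := by have := H.ma; exact uPt_hom_one
      map_mul' := fun s s' => by have := H.ma; exact uPt_hom_mul s s' }
  av :=
    { toFun := fun z => gmPt X z ≫ av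
      map_one' := by have := H.mav; rw [gmPt_one, MonObj.one_comp]
      map_mul' := fun z z' => by have := H.mav; rw [gmPt_mul, MonObj.mul_comp] }
  tcomm := H.tcomm X
  p_add x y := by have := H.mpp; rw [gaPt_add, MonObj.mul_comp]
  q_add x y := by have := H.mpm; rw [gaPt_add, MonObj.mul_comp]
  tp s x := H.hpp.comm s x _ rfl
  tq s y := H.hpm.comm s y _ (by
    change _ * ((uPt (s ≫ α) : Γ(X.left, ⊤)ˣ) : Γ(X.left, ⊤)) = _
    change ((uPt (s ≫ α))⁻¹ : Γ(X.left, ⊤)ˣ) * y * _ = _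
    rw [mul_right_comm, Units.inv_mul, _root_.one_mul])
  ch_av z := by
    have h2 := H.h2
    apply Units.ext
    change Red.gmFn ((gmPt X z ≫ av) ≫ α) = _
    rw [Category.assoc, h2, MonObj.comp_pow, Category.comp_id, gmFn_pow, gmFn_gmPt,
      Units.val_pow_eq_pow_val]
  F x y z hz := by
    obtain ⟨x', y', z', h1, h3, h4, h5⟩ := H.hF X (gaPt X x) (gaPt X y) (by
      rw [gaFn_gaPt, gaFn_gaPt, ← hz]; exact z.isUnit)
    rw [gaFn_gaPt] at h3 h4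
    rw [gaFn_gaPt, gaFn_gaPt, ← hz] at h1
    have e1 : z' = gmPt X z := by
      apply gmFn_injective
      rw [h1, gmFn_gmPt]
    have e2 : x' = gaPt X ((z⁻¹ : Γ(X.left, ⊤)ˣ) * x) := by
      apply gaFn_injective
      rw [gaFn_gaPt, ← h3, h1, mul_comm (Red.gaFn x'), Units.inv_mul_cancel_left]
    have e3 : y' = gaPt X ((z⁻¹ : Γ(X.left, ⊤)ˣ) * y) := by
      apply gaFn_injective
      rw [gaFn_gaPt, ← h4, h1, mul_comm (Red.gaFn y'), Units.inv_mul_cancel_left]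
    rw [h5, e1, e2, e3]
    simp only [MonoidHom.coe_mk, OneHom.coe_mk, Category.assoc]

section dict

variable (H : R1Hyp i α pp pm av) {X : Over S}

lemma comp_pp (x : X ⟶ Red.Ga S) : x ≫ pp = (H.sys X).p (Red.gaFn x) := by
  change _ = gaPt X (Red.gaFn x) ≫ pp
  rw [gaPt_gaFn]

lemma comp_pm (x : X ⟶ Red.Ga S) : x ≫ pm = (H.sys X).q (Red.gaFn x) := by
  change _ = gaPt X (Red.gaFn x) ≫ pm
  rw [gaPt_gaFn]

lemma comp_i (t : X ⟶ T) : t ≫ i = (H.sys X).t t := rfl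

lemma ch_val (t : X ⟶ T) : (((H.sys X).ch t : Γ(X.left, ⊤)ˣ) : Γ(X.left, ⊤)) = Red.gmFn (t ≫ α) := rfl

lemma ch_eq (t : X ⟶ T) : (H.sys X).ch t = uPt (t ≫ α) := rfl

lemma comp_av (z : X ⟶ Red.Gm S) : z ≫ av = (H.sys X).av (uPt z) := by
  change _ = gmPt X (uPt z) ≫ av
  rw [gmPt_uPt]

lemma comp_av_i (z : X ⟶ Red.Gm S) : z ≫ av ≫ i = (H.sys X).h (uPt z) := by
  change _ = (gmPt X (uPt z) ≫ av) ≫ i
  rw [gmPt_uPt, Category.assoc]

/-- the Weyl element -/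
lemma w_eq (x x' : X ⟶ Red.Ga S) (z : Γ(X.left, ⊤)ˣ) (hz : (z : Γ(X.left, ⊤)) = Red.gaFn x)
    (hx : Red.gaFn x' * Red.gaFn x = -1) :
    (x ≫ pp) * (x' ≫ pm) * (x ≫ pp) = (H.sys X).w z := by
  rw [comp_pp H, comp_pm H, R1.w_def, ← hz]
  have h1 : Red.gaFn x' = -((z⁻¹ : Γ(X.left, ⊤)ˣ) : Γ(X.left, ⊤)) := by
    rw [← hz] at hx
    have := Units.mul_inv z
    linear_combination ((z⁻¹ : Γ(X.left, ⊤)ˣ) : Γ(X.left, ⊤)) * hx - Red.gaFn x' * this
  rw [h1]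

/-- the coordinate of `x` is a unit -/
noncomputable def unitOf {x x' : X ⟶ Red.Ga S} (hx : Red.gaFn x' * Red.gaFn x = -1) : Γ(X.left, ⊤)ˣ where
  val := Red.gaFn x
  inv := -Red.gaFn x'
  val_inv := by linear_combination -hx
  inv_val := by linear_combination -hx

@[simp] lemma unitOf_val {x x' : X ⟶ Red.Ga S} (hx : Red.gaFn x' * Red.gaFn x = -1) :
    ((unitOf hx : Γ(X.left, ⊤)ˣ) : Γ(X.left, ⊤)) = Red.gaFn x := rfl

lemma w_eq' {x x' : X ⟶ Red.Ga S} (hx : Red.gaFn x' * Red.gaFn x = -1) :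
    (x ≫ pp) * (x' ≫ pm) * (x ≫ pp) = (H.sys X).w (unitOf hx) :=
  w_eq H x x' _ rfl hx

end dict

end K212.R1Mk
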