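import Groth.Agent.Sga3B.TorusAlgClosed
import Groth.Agent.Sga3B.Pts
import Groth.Agent.Red.K212.Kpt
import Groth.Agent.Red.K212.R1Mk

/-!
# `𝔾_m` is a torus; the squaring map of `𝔾_m` is non-trivial on geometric fibres
-/

set_option autoImplicit false
universe u
open CategoryTheory MonoidalCategory CartesianMonoidalCategory MonObj GrpObj AlgebraicGeometry Limits

namespace K212.GmTor

open Groth.Agent.Sga3B Groth.Agent.Sga3B.DSPts Groth.Agent.Sga3B.GaPts Groth.Agent.Sga3.H811.Pts K212.R1Mk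
open K212.Kpt

/-- `DSmap` is a homomorphism. -/
lemma isMonHom_DSmap (S : Scheme.{u}) {M N : Type} [AddCommGroup M] [AddCommGroup N] (φ : M →+ N) :
    IsMonHom (Red.DSmap S φ) := by
  refine Pts.isMonHom_of_points _ fun X x y => ?_
  refine (dsEquiv X M).symm.injective ?_
  change dsChar _ = dsChar _
  rw [dsChar_DSmap, dsChar_mul, dsChar_mul, dsChar_DSmap, dsChar_DSmap]
  rfl

lemma DSmap_comp_DSmap (S : Scheme.{u}) {M N L : Type} [AddCommGroup M] [AddCommGroup N] [AddCommGroup L]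
    (φ : M →+ N) (ψ : L →+ M) : Red.DSmap S φ ≫ Red.DSmap S ψ = Red.DSmap S (φ.comp ψ) := by
  have h : ∀ (T : Over S) (x : T ⟶ Red.DS S N), x ≫ Red.DSmap S φ ≫ Red.DSmap S ψ =
      x ≫ Red.DSmap S (φ.comp ψ) := by
    intro T x
    refine (DSPts.dsEquiv T L).symm.injective ?_
    change DSPts.dsChar _ = DSPts.dsChar _
    rw [← Category.assoc, DSPts.dsChar_DSmap, DSPts.dsChar_DSmap, DSPts.dsChar_DSmap]
    rfl
  rw [← Category.id_comp (Red.DSmap S (φ.comp ψ)), ← h, Category.id_comp]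

lemma DSmap_id (S : Scheme.{u}) (M : Type) [AddCommGroup M] :
    Red.DSmap S (AddMonoidHom.id M) = 𝟙 (Red.DS S M) := by
  have h : ∀ (T : Over S) (x : T ⟶ Red.DS S M), x ≫ Red.DSmap S (AddMonoidHom.id M) = x := by
    intro T x
    refine (DSPts.dsEquiv T M).symm.injective ?_
    change DSPts.dsChar _ = DSPts.dsChar _
    rw [DSPts.dsChar_DSmap]
    rfl
  rw [← h _ (𝟙 _), Category.id_comp]

/-- Isomorphic character groups give isomorphic diagonalisable groups. -/
theorem exists_iso_DS (S : Scheme.{u}) {M N : Type} [AddCommGroup M] [AddCommGroup N] (e : M ≃+ N) :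
    Nonempty (Grp.mk (Red.DS S N) ≅ Grp.mk (Red.DS S M)) := by
  let E : Red.DS S N ≅ Red.DS S M :=
    { hom := Red.DSmap S e.toAddMonoidHom
      inv := Red.DSmap S e.symm.toAddMonoidHom
      hom_inv_id := by
        rw [DSmap_comp_DSmap, ← DSmap_id]
        congr 1
        ext x
        exact e.apply_symm_apply x
      inv_hom_id := by
        rw [DSmap_comp_DSmap, ← DSmap_id]
        congr 1
        ext x
        exact e.symm_apply_apply x }
  have : IsMonHom E.hom := isMonHom_DSmap S _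
  exact ⟨Grp.mkIso' E⟩

/-- `𝔾_m` is a torus. -/
theorem isTorus_Gm (S : Scheme.{u}) : Red.IsTorus (Red.Gm S) := by
  obtain ⟨E⟩ := exists_iso_DS S (AddEquiv.piUnique (fun _ : Fin 1 => ℤ))
  refine ⟨S, 𝟙 S, inferInstance, inferInstance, fun V hV => ⟨V, hV.isCompact, by simp⟩, fun s => ?_⟩
  exact ⟨⊤, trivial, 1, TorusAlgClosed.isSplitTorusWith_bc _ ⟨E⟩⟩

/-- The squaring map of `𝔾_m` is non-trivial on geometric fibres. -/
theorem map_sq_ne_one {S : Scheme.{u}} (s : S) :
    (Over.pullback (Red.geomPt s)).map ((𝟙 (Red.Gm S)) ^ 2) ≠ 1 := by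
  intro h
  have hinf : Infinite (K s) := IsAlgClosed.instInfinite
  -- an element with square different from one
  obtain ⟨a, ha0, ha⟩ : ∃ a : K s, a ≠ 0 ∧ a ^ 2 ≠ 1 := by
    by_contra hcon
    push Not at hcon
    have hsub : (Set.univ : Set (K s)) ⊆ ({0, 1, -1} : Set (K s)) := by
      intro a _
      by_cases h0 : a = 0
      · simp [h0]
      · have h2 : (a - 1) * (a + 1) = 0 := by
          have := hcon a h0
          linear_combination this
        rcases (mul_eq_zero.mp h2).imp sub_eq_zero.mp eq_neg_of_add_eq_zero_left with h1 | h1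
        · simp [h1]
        · simp [h1]
    exact Set.infinite_univ ((Set.toFinite _).subset hsub)
  let φ : K s →+* Γ((kp s).left, ⊤) := (Scheme.ΓSpecIso (CommRingCat.of (K s))).inv.hom
  let z : Γ((kp s).left, ⊤)ˣ := Units.map (φ : K s →* Γ((kp s).left, ⊤)) (Units.mk0 a ha0)
  have h1 := bcEquiv_comp (Red.geomPt s) (𝟙_ (Over (Spec (CommRingCat.of (K s))))) (gmPt (kp s) z)
    ((𝟙 (Red.Gm S)) ^ 2)
  rw [h, MonObj.comp_one, ← map_one (bcEquiv (Red.geomPt s) (𝟙_ (Over (Spec (CommRingCat.of (K s)))))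
    (Red.Gm S))] at h1
  have h2 := (bcEquiv (Red.geomPt s) _ (Red.Gm S)).injective h1
  rw [MonObj.comp_pow, Category.comp_id] at h2
  have h3 := congrArg Red.gmFn h2
  rw [gmFn_one, gmFn_pow, gmFn_gmPt] at h3
  apply ha
  let ψ : Γ((kp s).left, ⊤) →+* K s := (Scheme.ΓSpecIso (CommRingCat.of (K s))).hom.hom
  have h4 : (1 : K s) = ψ (z : Γ((kp s).left, ⊤)) ^ 2 := by
    rw [← map_pow, ← h3, map_one]
  have h5 : ψ (z : Γ((kp s).left, ⊤)) = a := by
    change ((Scheme.ΓSpecIso (CommRingCat.of (K s))).inv ≫ (Scheme.ΓSpecIso (CommRingCat.of (K s))).hom) a = a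
    rw [Iso.inv_hom_id]; rfl
  rw [h5] at h4
  exact h4.symm

end K212.GmTor
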