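import Groth.Agent.Red.K212.R1Mk
import Groth.Agent.Sga3B.Pts

/-!
# Rescaling a root homomorphism
-/

set_option autoImplicit false
universe u
open CategoryTheory MonoidalCategory CartesianMonoidalCategory MonObj GrpObj AlgebraicGeometry Limits

namespace K212.Rescale

open Groth.Agent.Sga3B.DSPts Groth.Agent.Sga3B.GaPts Groth.Agent.Sga3.H811.Pts K212.R1Alg K212.R1Mk

variable {S : Scheme.{u}}

/-- the unit of an `S`-point of `𝔾_m` over `X` -/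
noncomputable def cst (c : 𝟙_ (Over S) ⟶ Red.Gm S) (X : Over S) : Γ(X.left, ⊤)ˣ := uPt (toUnit X ≫ c)

lemma cst_val (c : 𝟙_ (Over S) ⟶ Red.Gm S) (X : Over S) :
    ((cst c X : Γ(X.left, ⊤)ˣ) : Γ(X.left, ⊤)) = Red.gmFn (toUnit X ≫ c) := rfl

lemma cst_nat (c : 𝟙_ (Over S) ⟶ Red.Gm S) {X X' : Over S} (f : X' ⟶ X) :
    f.left.appTop (cst c X : Γ(X.left, ⊤)) = cst c X' := by
  rw [cst_val, cst_val, ← gmFn_comp, ← Category.assoc, toUnit_unique (f ≫ toUnit X) (toUnit X')]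

lemma cst_inv_nat (c : 𝟙_ (Over S) ⟶ Red.Gm S) {X X' : Over S} (f : X' ⟶ X) :
    f.left.appTop (((cst c X)⁻¹ : Γ(X.left, ⊤)ˣ) : Γ(X.left, ⊤)) = ((cst c X')⁻¹ : Γ(X'.left, ⊤)ˣ) := by
  have h1 := cst_nat c f
  rw [← _root_.mul_one (f.left.appTop _), ← Units.mul_inv (cst c X'), ← _root_.mul_assoc, ← h1, ← map_mul,
    Units.inv_mul, map_one, _root_.one_mul]

/-- the `S`-point with the given unit -/
noncomputable def mkc (a : Γ((𝟙_ (Over S)).left, ⊤)ˣ) : 𝟙_ (Over S) ⟶ Red.Gm S := gmPt _ a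

/-- the inverse constant -/
lemma cst_inv (c : 𝟙_ (Over S) ⟶ Red.Gm S) (X : Over S) : cst c⁻¹ X = (cst c X)⁻¹ := by
  rw [eq_inv_iff_mul_eq_one, cst, cst, ← uPt_mul, ← MonObj.comp_mul, inv_mul_cancel, MonObj.comp_one,
    uPt_one]

lemma cst_one (X : Over S) : cst (1 : 𝟙_ (Over S) ⟶ Red.Gm S) X = 1 := by
  rw [cst, MonObj.comp_one, uPt_one]

/-- multiplication by a constant on `𝔾_a` -/
noncomputable def scale (c : 𝟙_ (Over S) ⟶ Red.Gm S) : Red.Ga S ⟶ Red.Ga S :=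
  gaPt _ (cst c (Red.Ga S) * Red.gaFn (𝟙 (Red.Ga S)))

lemma comp_scale (c : 𝟙_ (Over S) ⟶ Red.Gm S) {X : Over S} (x : X ⟶ Red.Ga S) :
    x ≫ scale c = gaPt X (cst c X * Red.gaFn x) := by
  rw [scale, comp_gaPt, map_mul, cst_nat, ← gaFn_comp, Category.comp_id]

lemma gaPt_scale (c : 𝟙_ (Over S) ⟶ Red.Gm S) {X : Over S} (x : Γ(X.left, ⊤)) :
    gaPt X x ≫ scale c = gaPt X (cst c X * x) := by
  rw [comp_scale, gaFn_gaPt]

lemma gaFn_scale (c : 𝟙_ (Over S) ⟶ Red.Gm S) {X : Over S} (x : X ⟶ Red.Ga S) :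
    Red.gaFn (x ≫ scale c) = cst c X * Red.gaFn x := by
  rw [comp_scale, gaFn_gaPt]

lemma ga_hom_ext {Y : Over S} {f g : Red.Ga S ⟶ Y}
    (h : ∀ (X : Over S) (x : Γ(X.left, ⊤)), gaPt X x ≫ f = gaPt X x ≫ g) : f = g := by
  have := h (Red.Ga S) (Red.gaFn (𝟙 _))
  rwa [gaPt_gaFn, Category.id_comp, Category.id_comp] at this

instance (c : 𝟙_ (Over S) ⟶ Red.Gm S) : IsMonHom (scale c) :=
  Groth.Agent.Sga3B.Pts.isMonHom_of_points _ fun X x y => by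
    apply gaFn_injective
    rw [gaFn_scale, gaFn_mul, gaFn_mul, gaFn_scale, gaFn_scale, mul_add]

lemma scale_scale (c c' : 𝟙_ (Over S) ⟶ Red.Gm S) (h : ∀ X, cst c' X * cst c X = 1) :
    scale c ≫ scale c' = 𝟙 _ := by
  refine ga_hom_ext fun X x => ?_
  rw [← Category.assoc, gaPt_scale, gaPt_scale, ← _root_.mul_assoc, ← Units.val_mul, h, Units.val_one,
    _root_.one_mul, Category.comp_id]

instance (c : 𝟙_ (Over S) ⟶ Red.Gm S) : IsIso (scale c) :=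
  ⟨⟨scale c⁻¹, scale_scale _ _ fun X => by rw [cst_inv, inv_mul_cancel],
    scale_scale _ _ fun X => by rw [cst_inv, mul_inv_cancel]⟩⟩

variable {G T : Over S} [GrpObj G] [GrpObj T] {i : T ⟶ G} {α : T ⟶ Red.Gm S} {pp pm : Red.Ga S ⟶ G}

omit [GrpObj T] in
lemma cell_scale (c : 𝟙_ (Over S) ⟶ Red.Gm S) :
    cell i pp (scale c ≫ pm) = ((scale c ⊗ₘ 𝟙 T) ⊗ₘ 𝟙 (Red.Ga S)) ≫ cell i pp pm := by
  unfold cell
  rw [MonoidalCategory.tensorHom_comp_tensorHom_assoc, MonoidalCategory.tensorHom_comp_tensorHom,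
    Category.id_comp, Category.id_comp]

omit [GrpObj T] in
lemma isOpenImmersion_cell_scale (c : 𝟙_ (Over S) ⟶ Red.Gm S) (h : IsOpenImmersion (cell i pp pm).left) :
    IsOpenImmersion (cell i pp (scale c ≫ pm)).left := by
  rw [cell_scale, Over.comp_left]
  have h1 : IsIso ((scale c ⊗ₘ 𝟙 T) ⊗ₘ 𝟙 (Red.Ga S)) := inferInstance
  have h2 : IsIso ((scale c ⊗ₘ 𝟙 T) ⊗ₘ 𝟙 (Red.Ga S)).left :=
    inferInstanceAs (IsIso ((Over.forget _).map ((scale c ⊗ₘ 𝟙 T) ⊗ₘ 𝟙 (Red.Ga S))))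
  infer_instance

omit [GrpObj T] in
lemma normM_scale (c : 𝟙_ (Over S) ⟶ Red.Gm S) (h : NormM i α pm) : NormM i α (scale c ≫ pm) := by
  intro X t y
  obtain ⟨y', h1, h2⟩ := h X t (y ≫ scale c)
  refine ⟨gaPt X (((cst c X)⁻¹ : Γ(X.left, ⊤)ˣ) * Red.gaFn y'), ?_, ?_⟩
  · rw [← Category.assoc, gaPt_scale, ← _root_.mul_assoc, Units.mul_inv, _root_.one_mul, gaPt_gaFn, h1,
      Category.assoc]
  · rw [gaFn_gaPt, _root_.mul_assoc, h2, gaFn_scale, ← _root_.mul_assoc, Units.inv_mul, _root_.one_mul]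

end K212.Rescale
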