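import Groth.Agent.Red.K212.R1Cent
import Groth.Agent.Red.K212.Rescale

/-!
# The centre of a rank one group; normalising the negative root homomorphism
-/

set_option autoImplicit false
universe u
open CategoryTheory MonoidalCategory CartesianMonoidalCategory MonObj GrpObj AlgebraicGeometry Limits

namespace K212.Centre

open Groth.Agent.Sga3B.DSPts Groth.Agent.Sga3B.GaPts Groth.Agent.Sga3.H811.Pts K212.R1Alg K212.R1Mk
open K212.R1Conj K212.R1Geo K212.Rescale K212.R1Cent

variable {S : Scheme.{u}} {G T : Over S} [GrpObj G] [GrpObj T]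
  {i : T ⟶ G} {α : T ⟶ Red.Gm S} {pp pm : Red.Ga S ⟶ G} {av : Red.Gm S ⟶ T}

/-- the rank one system obtained from an unnormalised one -/
lemma r1Hyp_scale [IsMonHom i] [IsMonHom α] [IsMonHom pp] [IsMonHom pm] [IsMonHom av]
    (hcomm : ∀ (X : Over S) (t t' : X ⟶ T), t * t' = t' * t)
    (hpp : NormP i α pp) (hpm : NormM i α pm) (h2 : av ≫ α = (𝟙 (Red.Gm S)) ^ 2)
    (a : 𝟙_ (Over S) ⟶ Red.Gm S)
    (h : ∀ (X : Over S) (x y : X ⟶ Red.Ga S),
      IsUnit (1 + Red.gmFn (toUnit X ≫ a) * Red.gaFn x * Red.gaFn y) →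
          ∃ (x' y' : X ⟶ Red.Ga S) (z : X ⟶ Red.Gm S),
            Red.gmFn z = 1 + Red.gmFn (toUnit X ≫ a) * Red.gaFn x * Red.gaFn y ∧
            Red.gaFn x' * Red.gmFn z = Red.gaFn x ∧ Red.gaFn y' * Red.gmFn z = Red.gaFn y ∧
            (x ≫ pp) * (y ≫ pm) = (y' ≫ pm) * (z ≫ av ≫ i) * (x' ≫ pp)) :
    R1Hyp i α pp (scale a⁻¹ ≫ pm) av where
  mi := inferInstance
  ma := inferInstance
  mpp := inferInstance
  mpm := inferInstance
  mav := inferInstance
  tcomm := hcomm
  hpp := hpp
  hpm := normM_scale _ hpm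
  h2 := h2
  hF X x y hu := by
    have e1 : Red.gmFn (toUnit X ≫ a) * Red.gaFn x * Red.gaFn (y ≫ scale a⁻¹) = Red.gaFn x * Red.gaFn y := by
      rw [gaFn_scale, cst_inv, ← cst_val]
      have := Units.mul_inv (cst a X)
      linear_combination (Red.gaFn x * Red.gaFn y) * this
    obtain ⟨x', y', z, h1, h3, h4, h5⟩ := h X x (y ≫ scale a⁻¹) (by rw [e1]; exact hu)
    refine ⟨x', y' ≫ scale a, z, by rw [h1, e1], h3, ?_, ?_⟩
    · rw [gaFn_scale, _root_.mul_assoc, h4, gaFn_scale, cst_inv, ← _root_.mul_assoc, Units.mul_inv,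
        _root_.one_mul]
    · have e2 : (y' ≫ scale a) ≫ scale a⁻¹ ≫ pm = y' ≫ pm := by
        rw [← Category.assoc, Category.assoc y', scale_scale _ _ fun X => by rw [cst_inv, inv_mul_cancel],
          Category.comp_id]
      rw [e2, ← h5, Category.assoc]

variable (H : R1Hyp i α pp pm av) (hΩ : IsOpenImmersion (cell i pp pm).left)
  [LocallyOfFiniteType G.hom] (hirr : ∀ s : S, IrreducibleSpace (Red.geomFibre s G).left)

include H hΩ hirr in
/-- **The centre is the kernel of the root.** -/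
theorem central_iff [Mono pp] {X : Over S} (g : X ⟶ G) :
    (∀ (X' : Over S) (x : X' ⟶ X) (k : X' ⟶ G), (x ≫ g) * k = k * (x ≫ g)) ↔
      ∃ t : X ⟶ T, t ≫ i = g ∧ t ≫ α = 1 := by
  constructor
  · intro h
    obtain ⟨t, ht⟩ := exists_of_comm H hΩ hirr (m := 1) one_ne_zero (g := g) fun X' f u => h X' f _
    refine ⟨t, ht, ?_⟩
    have h1 := h X (𝟙 X) ((H.sys X).p 1)
    rw [Category.id_comp, ← ht, comp_i H, (H.sys X).tp, mul_left_inj, _root_.mul_one] at h1
    have h2 := (cancel_mono pp).mp h1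
    have h3 := congrArg Red.gaFn h2
    rw [gaFn_gaPt, gaFn_gaPt, ch_val] at h3
    apply gmFn_injective
    rw [h3, gmFn_one]
  · rintro ⟨t, rfl, ht⟩
    -- points commuting with `t` after all base changes
    intro X' x k
    have key : ∀ {Y : Over S} (y : Y ⟶ X'), (InCell H Y (y ≫ k) ∨ InW H Y (y ≫ k)) →
        y ≫ ((x ≫ t ≫ i) * k) = y ≫ (k * (x ≫ t ≫ i)) := by
      intro Y y hy
      rw [MonObj.comp_mul, MonObj.comp_mul]
      have e1 : y ≫ x ≫ t ≫ i = (H.sys Y).t (y ≫ x ≫ t) := by
        simp only [← comp_i H, Category.assoc]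
      have hch : (H.sys Y).ch (y ≫ x ≫ t) = 1 := by
        apply Units.ext
        rw [ch_val, Category.assoc, Category.assoc, ht, MonObj.comp_one, MonObj.comp_one, gmFn_one,
          Units.val_one]
      rw [e1]
      set s := y ≫ x ≫ t
      have hp : ∀ b, Commute ((H.sys Y).t s) ((H.sys Y).p b) := by
        intro b
        have := (H.sys Y).tp s b
        rw [hch, Units.val_one, _root_.one_mul] at this
        exact this
      have hq : ∀ b, Commute ((H.sys Y).t s) ((H.sys Y).q b) := by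
        intro b
        have := (H.sys Y).tq s b
        rw [hch, inv_one, Units.val_one, _root_.one_mul] at this
        exact this
      have ht : ∀ s', Commute ((H.sys Y).t s) ((H.sys Y).t s') := by
        intro s'
        change _ * _ = _ * _
        rw [← map_mul, ← map_mul, (H.sys Y).tcomm]
      have hw : Commute ((H.sys Y).t s) ((H.sys Y).w 1) := by
        rw [R1.w_def]
        exact ((hp _).mul_right (hq _)).mul_right (hp _)
      have hc : ∀ g : Y ⟶ G, InCell H Y g → Commute ((H.sys Y).t s) g := by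
        rintro g ⟨a, t', b, rfl⟩
        exact ((hq _).mul_right (ht _)).mul_right (hp _)
      rcases hy with hy | hy
      · exact hc _ hy
      · have h1 := hw.mul_right (hc _ hy)
        rw [mul_inv_cancel_left] at h1
        exact h1
    refine K212.Gen.eq_of_flat _ _ fun pt => ?_
    obtain ⟨Y, y, hy, hpt, h⟩ := exists_open H hΩ hirr k pt
    exact ⟨Y, y, inferInstance, hpt, key y h⟩

end K212.Centre
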