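import Groth.Agent.Red.K212.Twist
import Groth.Agent.Sga3C.SchemImage

/-!
# Faithfully flat homomorphisms between rank one systems
-/

set_option autoImplicit false
universe u
open CategoryTheory MonoidalCategory CartesianMonoidalCategory MonObj GrpObj AlgebraicGeometry Limits

namespace K212.Ff

open Groth.Agent.Sga3B.DSPts Groth.Agent.Sga3B.GaPts Groth.Agent.Sga3.H811.Pts K212.R1Alg K212.R1Mk
open K212.R1Conj K212.R1Geo K212.Rescale K212.R1Hom K212.R1Ext K212.Twist K212.Fn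

variable {S : Scheme.{u}}

lemma flat_whiskerRight {A B : Over S} (f : A ⟶ B) (Z : Over S) (h : Flat f.left) : Flat (f ▷ Z).left :=
  MorphismProperty.of_isPullback
    (Groth.Agent.Sga3C.SchemImage.isPullback_whiskerRight_left f Z).flip h

lemma flat_whiskerLeft {A B : Over S} (f : A ⟶ B) (Z : Over S) (h : Flat f.left) : Flat (Z ◁ f).left :=
  MorphismProperty.of_isPullback
    (Groth.Agent.Sga3C.SchemImage.isPullback_whiskerLeft_left f Z).flip h

lemma flat_tensorHom {A B A' B' : Over S} (f : A ⟶ B) (g : A' ⟶ B') (h : Flat f.left) (h' : Flat g.left) :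
    Flat (f ⊗ₘ g).left := by
  rw [MonoidalCategory.tensorHom_def, Over.comp_left]
  have := flat_whiskerRight f A' h
  have := flat_whiskerLeft g B h'
  infer_instance

variable {G T : Over S} [GrpObj G] [GrpObj T]
  {i : T ⟶ G} {α : T ⟶ Red.Gm S} {pp pm : Red.Ga S ⟶ G} {av : Red.Gm S ⟶ T}
  {H : R1Hyp i α pp pm av}
  {G' T' : Over S} [GrpObj G'] [GrpObj T']
  {i' : T' ⟶ G'} {α' : T' ⟶ Red.Gm S} {pp' pm' : Red.Ga S ⟶ G'} {av' : Red.Gm S ⟶ T'}
  {H' : R1Hyp i' α' pp' pm' av'}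
  {c : 𝟙_ (Over S) ⟶ Red.Gm S} {fT : T ⟶ T'} {f : G ⟶ G'} [IsMonHom f]

lemma hom_ext_pts {A B : Over S} {f g : A ⟶ B} (h : ∀ (X : Over S) (x : X ⟶ A), x ≫ f = x ≫ g) : f = g := by
  have := h A (𝟙 A)
  rwa [Category.id_comp, Category.id_comp] at this

/-- the homomorphism on the cell -/
lemma cell_comp (h : Good H H' 1 f c) (hT : i ≫ f = fT ≫ i') :
    cell i pp pm ≫ f = ((scale c⁻¹ ⊗ₘ fT) ⊗ₘ scale c) ≫ cell i' pp' pm' := by
  refine hom_ext_pts fun X x => ?_
  rw [← Category.assoc, comp_cell, MonObj.mul_comp, MonObj.mul_comp]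
  have e1 : x ≫ ((scale c⁻¹ ⊗ₘ fT) ⊗ₘ scale c) = lift (lift ((x ≫ fst _ _ ≫ fst _ _) ≫ scale c⁻¹)
      ((x ≫ fst _ _ ≫ snd _ _) ≫ fT)) ((x ≫ snd _ _) ≫ scale c) := by
    apply CartesianMonoidalCategory.hom_ext
    · apply CartesianMonoidalCategory.hom_ext <;> simp
    · simp
  have e0 : x ≫ (((scale c⁻¹ ⊗ₘ fT) ⊗ₘ scale c) ≫ cell i' pp' pm') =
      lift (lift ((x ≫ fst _ _ ≫ fst _ _) ≫ scale c⁻¹)
      ((x ≫ fst _ _ ≫ snd _ _) ≫ fT)) ((x ≫ snd _ _) ≫ scale c) ≫ cell i' pp' pm' := by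
    rw [← Category.assoc, e1]
  rw [e0, lift_cell]
  have e2 : ∀ y : X ⟶ Red.Ga S, (y ≫ pm) ≫ f = (y ≫ scale c⁻¹) ≫ pm' := by
    intro y
    rw [comp_pm H, h.q, comp_scale, cst_inv, pow_one]
    rfl
  have e3 : ∀ y : X ⟶ Red.Ga S, (y ≫ pp) ≫ f = (y ≫ scale c) ≫ pp' := by
    intro y
    rw [comp_pp H, h.p, comp_scale, pow_one]
    rfl
  rw [e2, e3, Category.assoc _ i, hT, Category.assoc _ fT]

variable (hΩ : IsOpenImmersion (cell i pp pm).left)
  [LocallyOfFiniteType G.hom] (hirr : ∀ s : S, IrreducibleSpace (Red.geomFibre s G).left)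
  (hΩ' : IsOpenImmersion (cell i' pp' pm').left)

omit [LocallyOfFiniteType G.hom] [IsMonHom f] in
/-- left translation by the image of the Weyl element -/
lemma lw_comp [IsMonHom f] : lw H ≫ f = f ≫ ((toUnit _ ≫ (w₀ H ≫ f)) * 𝟙 G') := by
  refine hom_ext_pts fun X x => ?_
  rw [← Category.assoc, comp_lw, MonObj.mul_comp, ← Category.assoc, MonObj.comp_mul, Category.comp_id,
    ← Category.assoc (x ≫ f), toUnit_unique ((x ≫ f) ≫ toUnit _) (toUnit X), ← Category.assoc, toUnit_w₀]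

/-- left translations are isomorphisms -/
lemma isIso_ltrans {K : Over S} [GrpObj K] (w : 𝟙_ (Over S) ⟶ K) : IsIso ((toUnit K ≫ w) * 𝟙 K) := by
  have h : ∀ (w : 𝟙_ (Over S) ⟶ K) (X : Over S) (x : X ⟶ K), x ≫ ((toUnit K ≫ w) * 𝟙 K) =
      (toUnit X ≫ w) * x := by
    intro w X x
    rw [MonObj.comp_mul, Category.comp_id, ← Category.assoc, toUnit_unique (x ≫ toUnit _) (toUnit X)]
  refine ⟨⟨(toUnit K ≫ w⁻¹) * 𝟙 K, ?_, ?_⟩⟩
  · refine hom_ext_pts fun X x => ?_
    rw [← Category.assoc, h, h, GrpObj.comp_inv, inv_mul_cancel_left, Category.comp_id]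
  · refine hom_ext_pts fun X x => ?_
    rw [← Category.assoc, h, h, GrpObj.comp_inv, mul_inv_cancel_left, Category.comp_id]

include hΩ hirr hΩ' in
/-- flatness -/
theorem flat (h : Good H H' 1 f c) (hT : i ≫ f = fT ≫ i') (hfl : Flat fT.left) : Flat f.left := by
  have h1 : Flat ((cell i pp pm).left ≫ f.left) := by
    have e1 : (cell i pp pm).left ≫ f.left =
        ((scale c⁻¹ ⊗ₘ fT) ⊗ₘ scale c).left ≫ (cell i' pp' pm').left := by
      rw [← Over.comp_left, cell_comp h hT, Over.comp_left]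
    rw [e1]
    have hs : ∀ d : 𝟙_ (Over S) ⟶ Red.Gm S, Flat (scale d).left := fun d => by
      have : IsIso (scale d).left := inferInstanceAs (IsIso ((Over.forget _).map (scale d)))
      infer_instance
    have := flat_tensorHom _ _ (flat_tensorHom _ _ (hs c⁻¹) hfl) (hs c)
    infer_instance
  have h2 : Flat ((cell i pp pm ≫ lw H).left ≫ f.left) := by
    have e2 : (cell i pp pm ≫ lw H).left ≫ f.left =
        ((cell i pp pm).left ≫ f.left) ≫ ((toUnit _ ≫ (w₀ H ≫ f)) * 𝟙 G').left := by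
      rw [← Over.comp_left, ← Over.comp_left, ← Over.comp_left, Category.assoc, Category.assoc, lw_comp]
    rw [e2]
    have := isIso_ltrans (w₀ H ≫ f)
    have : IsIso ((toUnit _ ≫ (w₀ H ≫ f)) * 𝟙 G').left :=
      inferInstanceAs (IsIso ((Over.forget _).map ((toUnit _ ≫ (w₀ H ≫ f)) * 𝟙 G')))
    infer_instance
  have hlw : IsIso (lw H) := (lwIso H).isIso_hom
  have hlw' : IsIso (lw H).left := inferInstanceAs (IsIso ((Over.forget _).map (lw H)))
  let 𝒰 : G.left.OpenCover := Scheme.Cover.mkOfCovers Bool (fun _ => ((Red.Ga S ⊗ T) ⊗ Red.Ga S).left)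
    (fun b => if b then (cell i pp pm).left else (cell i pp pm ≫ lw H).left) (by
      intro x
      rcases cover H hΩ hirr x with ⟨y, hy⟩ | ⟨y, hy⟩
      · exact ⟨true, y, hy⟩
      · refine ⟨false, y, ?_⟩
        change (cell i pp pm ≫ lw H).left y = x
        rw [Over.comp_left, Scheme.Hom.comp_apply, hy, ← Scheme.Hom.comp_apply, ← Over.comp_left, lw'_lw]
        rfl) (by
      rintro (_ | _)
      · change IsOpenImmersion (cell i pp pm ≫ lw H).left
        rw [Over.comp_left]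
        infer_instance
      · exact hΩ)
  refine (IsZariskiLocalAtSource.iff_of_openCover (P := @Flat) 𝒰).mpr ?_
  rintro (_ | _)
  · exact h2
  · exact h1

end K212.Ff
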