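import Groth.Agent.Red.K212.Ff

/-!
# Faithfully flat homomorphisms between rank one systems: surjectivity and kernel
-/

set_option autoImplicit false
universe u
open CategoryTheory MonoidalCategory CartesianMonoidalCategory MonObj GrpObj AlgebraicGeometry Limits

namespace K212.Ff

open Groth.Agent.Sga3B.DSPts Groth.Agent.Sga3B.GaPts Groth.Agent.Sga3.H811.Pts K212.R1Alg K212.R1Mk
open K212.R1Conj K212.R1Geo K212.Rescale K212.R1Hom K212.R1Ext K212.Twist K212.Fn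

variable {S : Scheme.{u}}

lemma exists_lift_T {T T' : Over S} {fT : T ⟶ T'} (hs : Surjective fT.left) {X : Over S} (t : X ⟶ T')
    (z : X.left) : ∃ (Y : Over S) (y : Y ⟶ X) (s : Y ⟶ T) (z' : Y.left), y.left z' = z ∧ s ≫ fT = y ≫ t := by
  obtain ⟨w, hw⟩ := hs.surj (t.left z)
  obtain ⟨v, hv1, hv2⟩ := Scheme.Pullback.exists_preimage_pullback (f := t.left) (g := fT.left) z w hw.symm
  refine ⟨Over.mk (pullback.fst t.left fT.left ≫ X.hom), Over.homMk (pullback.fst t.left fT.left) rfl,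
    Over.homMk (pullback.snd t.left fT.left) ?_, v, hv1, ?_⟩
  · change _ = pullback.fst t.left fT.left ≫ X.hom
    rw [← Over.w t, ← Over.w fT, pullback.condition_assoc]
  · apply Over.OverMorphism.ext
    exact pullback.condition.symm

variable {G T : Over S} [GrpObj G] [GrpObj T]
  {i : T ⟶ G} {α : T ⟶ Red.Gm S} {pp pm : Red.Ga S ⟶ G} {av : Red.Gm S ⟶ T}
  {H : R1Hyp i α pp pm av}
  {G' T' : Over S} [GrpObj G'] [GrpObj T']
  {i' : T' ⟶ G'} {α' : T' ⟶ Red.Gm S} {pp' pm' : Red.Ga S ⟶ G'} {av' : Red.Gm S ⟶ T'}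
  {H' : R1Hyp i' α' pp' pm' av'}
  {c : 𝟙_ (Over S) ⟶ Red.Gm S} {fT : T ⟶ T'} {f : G ⟶ G'} [IsMonHom f]

lemma t_comp (hT : i ≫ f = fT ≫ i') {X : Over S} (t : X ⟶ T) : (H.sys X).t t ≫ f = (H'.sys X).t (t ≫ fT) := by
  rw [← comp_i H, ← comp_i H', Category.assoc, Category.assoc, hT]

include H in
/-- surjectivity -/
theorem surjective (hΩ' : IsOpenImmersion (cell i' pp' pm').left)
    [LocallyOfFiniteType G'.hom] (hirr' : ∀ s : S, IrreducibleSpace (Red.geomFibre s G').left)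
    (h : Good H H' 1 f c) (hT : i ≫ f = fT ≫ i')
    (hh : ∀ (X : Over S) (z : Γ(X.left, ⊤)ˣ), (H.sys X).h z ≫ f = (H'.sys X).h (z ^ 1))
    (hsu : Surjective fT.left) : Surjective f.left := by
  have key : ∀ u : G'.left, ∃ (Y : Over S) (g : Y ⟶ G) (z : Y.left), (g ≫ f).left z = u := by
    intro u
    obtain ⟨z⟩ := (isFld_rp G' u).ne
    have hz : (rf G' u).left z = u := rf_apply z
    rcases inCell_or_wB H' hΩ' hirr' (isFld_rp G' u) (rf G' u) with ⟨a, t, b, hg⟩ | ⟨t, b, hg⟩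
    · obtain ⟨Y, y, s, z', hz', hs⟩ := exists_lift_T hsu t z
      refine ⟨Y, (H.sys Y).q (cst c Y * y.left.appTop a) * (H.sys Y).t s *
        (H.sys Y).p (((cst c Y)⁻¹ : Γ(Y.left, ⊤)ˣ) * y.left.appTop b), z', ?_⟩
      have e1 : ((H.sys Y).q (cst c Y * y.left.appTop a) * (H.sys Y).t s *
        (H.sys Y).p (((cst c Y)⁻¹ : Γ(Y.left, ⊤)ˣ) * y.left.appTop b)) ≫ f = y ≫ rf G' u := by
        rw [MonObj.mul_comp, MonObj.mul_comp, h.q, h.p, t_comp hT (H' := H'), hs, hg, MonObj.comp_mul,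
          MonObj.comp_mul, q_nat, t_nat, p_nat, pow_one, pow_one, ← _root_.mul_assoc ((cst c Y : Γ(Y.left, ⊤)ˣ) : Γ(Y.left, ⊤)),
          Units.mul_inv, _root_.one_mul, ← _root_.mul_assoc (((cst c Y)⁻¹ : Γ(Y.left, ⊤)ˣ) : Γ(Y.left, ⊤)),
          Units.inv_mul, _root_.one_mul]
      rw [e1, Over.comp_left, Scheme.Hom.comp_apply, hz', hz]
    · obtain ⟨Y, y, s, z', hz', hs⟩ := exists_lift_T hsu t z
      refine ⟨Y, (H.sys Y).w 1 * (H.sys Y).h (cst c Y) * (H.sys Y).t s *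
        (H.sys Y).p (((cst c Y)⁻¹ : Γ(Y.left, ⊤)ˣ) * y.left.appTop b), z', ?_⟩
      have e2 : (H'.sys Y).w (cst c Y * 1 ^ 1) * (H'.sys Y).h (cst c Y) = (H'.sys Y).w 1 := by
        rw [one_pow, R1.w_mul', inv_mul_cancel_right]
      have e3 : (H.sys Y).w 1 ≫ f = (H'.sys Y).w (cst c Y * 1 ^ 1) :=
        h.map_w one_pos (fun X a b => by rw [pow_one, pow_one, pow_one]) 1
      have e1 : ((H.sys Y).w 1 * (H.sys Y).h (cst c Y) * (H.sys Y).t s *
        (H.sys Y).p (((cst c Y)⁻¹ : Γ(Y.left, ⊤)ˣ) * y.left.appTop b)) ≫ f = y ≫ rf G' u := by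
        rw [MonObj.mul_comp, MonObj.mul_comp, MonObj.mul_comp, e3, hh, pow_one (cst c Y), e2, h.p,
          t_comp hT (H' := H'), hs, hg, MonObj.comp_mul,
          MonObj.comp_mul, w_nat, t_nat, p_nat, pow_one, map_one,
          ← _root_.mul_assoc ((cst c Y : Γ(Y.left, ⊤)ˣ) : Γ(Y.left, ⊤)), Units.mul_inv, _root_.one_mul]
      rw [e1, Over.comp_left, Scheme.Hom.comp_apply, hz', hz]
  constructor
  intro u
  obtain ⟨Y, g, z, hz⟩ := key u
  rw [Over.comp_left, Scheme.Hom.comp_apply] at hz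
  exact ⟨_, hz⟩

include H' in
/-- the kernel, on points -/
theorem kernel (hΩ : IsOpenImmersion (cell i pp pm).left)
    [LocallyOfFiniteType G.hom] (hirr : ∀ s : S, IrreducibleSpace (Red.geomFibre s G).left)
    (hΩ' : IsOpenImmersion (cell i' pp' pm').left)
    (h : Good H H' 1 f c) (hT : i ≫ f = fT ≫ i') {X : Over S} {g : X ⟶ G} (hg : g ≫ f = 1) :
    ∃ t : X ⟶ T, t ≫ i = g ∧ t ≫ fT = 1 := by
  have hcell : InCell H X g := by
    rw [inCell_iff H hΩ]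
    rintro _ ⟨x, rfl⟩
    obtain ⟨z⟩ := (isFld_rp X x).ne
    rcases inCell_or_wB H hΩ hirr (isFld_rp X x) (rf X x ≫ g) with h2 | ⟨t, b, h2⟩
    · have h3 := (inCell_iff H hΩ _).1 h2 ⟨z, rfl⟩
      rw [Over.comp_left, Scheme.Hom.comp_apply, rf_apply] at h3
      exact h3
    · exfalso
      have h3 : (rf X x ≫ g) ≫ f = 1 := by rw [Category.assoc, hg, MonObj.comp_one]
      have e3 : (H.sys (rp X x)).w 1 ≫ f = (H'.sys (rp X x)).w (cst c (rp X x) * 1 ^ 1) :=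
        h.map_w one_pos (fun X a b => by rw [pow_one, pow_one, pow_one]) 1
      rw [h2, MonObj.mul_comp, MonObj.mul_comp, e3, t_comp hT (H' := H'), h.p, one_pow, R1.w_mul', R1.h_apply,
        ← map_inv, _root_.mul_assoc ((H'.sys (rp X x)).w 1), ← map_mul] at h3
      exact not_both H' hΩ' z inCell_one ⟨_, _, h3.symm⟩
  obtain ⟨a, t, b, rfl⟩ := hcell
  rw [MonObj.mul_comp, MonObj.mul_comp, h.q, h.p, t_comp hT (H' := H')] at hg
  have h1 : (1 : X ⟶ G') = (H'.sys X).q 0 * (H'.sys X).t 1 * (H'.sys X).p 0 := by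
    rw [R1.q_zero, R1.p_zero, map_one, _root_.one_mul, _root_.one_mul]
  rw [h1] at hg
  obtain ⟨h2, h3, h4⟩ := cell_inj H' hΩ' hg
  rw [pow_one] at h2 h4
  have ha : a = 0 := ((cst c X)⁻¹.isUnit.mul_right_eq_zero).mp h2
  have hb : b = 0 := ((cst c X).isUnit.mul_right_eq_zero).mp h4
  refine ⟨t, ?_, h3⟩
  rw [ha, hb, R1.q_zero, R1.p_zero, _root_.one_mul, _root_.mul_one, comp_i H]

include H' in
theorem isKernel [Mono i] (hΩ : IsOpenImmersion (cell i pp pm).left)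
    [LocallyOfFiniteType G.hom] (hirr : ∀ s : S, IrreducibleSpace (Red.geomFibre s G).left)
    (hΩ' : IsOpenImmersion (cell i' pp' pm').left)
    (h : Good H H' 1 f c) (hT : i ≫ f = fT ≫ i') {Q : Over S} (k : Q ⟶ T) (hk : AlgGrp.IsKernel k fT) :
    AlgGrp.IsKernel (k ≫ i) f := by
  have := H'.mi
  have hk' : IsPullback k (toUnit Q) fT η[T'] := hk
  have hw : (k ≫ i) ≫ f = toUnit Q ≫ η[G'] := by
    rw [Category.assoc, hT, ← Category.assoc, hk'.w, Category.assoc, IsMonHom.one_hom]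
  have hkm : Mono k := ⟨fun a b hab => hk'.hom_ext hab (toUnit_unique _ _)⟩
  have key : ∀ s : PullbackCone f η[G'], ∃ t : s.pt ⟶ T, t ≫ i = s.fst ∧ t ≫ fT = toUnit s.pt ≫ η[T'] := by
    intro s
    obtain ⟨t, h1, h2⟩ := kernel (H' := H') hΩ hirr hΩ' h hT (X := s.pt) (g := s.fst) (by
      rw [s.condition]
      have : s.snd = toUnit _ := toUnit_unique _ _
      rw [this]; rfl)
    exact ⟨t, h1, h2⟩
  choose τ h1 h2 using key
  refine ⟨⟨hw⟩, ⟨PullbackCone.IsLimit.mk hw (fun s => hk'.lift (τ s) (toUnit _) (h2 s)) (fun s => ?_)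
    (fun s => toUnit_unique _ _) (fun s m h3 h4 => ?_)⟩⟩
  · rw [← Category.assoc, hk'.lift_fst]
    exact h1 s
  · rw [← cancel_mono k, hk'.lift_fst, ← cancel_mono i, Category.assoc, h3]
    exact (h1 s).symm

end K212.Ff
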