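import Groth.Agent.Red.K212.Gen2
import Mathlib.AlgebraicGeometry.ResidueField

/-!
# Units among global functions; field-valued points
-/

set_option autoImplicit false
universe u
open CategoryTheory MonoidalCategory CartesianMonoidalCategory MonObj GrpObj AlgebraicGeometry Limits

namespace K212.Fn

open Groth.Agent.Sga3B.GaPts

variable {S : Scheme.{u}}

/-- A function which is a unit after pullback to a jointly surjective family is a unit. -/
lemma isUnit_of_cover {X : Over S} {a : Γ(X.left, ⊤)}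
    (h : ∀ x : X.left, ∃ (X' : Over S) (f : X' ⟶ X), x ∈ Set.range f.left ∧ IsUnit (f.left.appTop a)) :
    IsUnit a := by
  refine RingedSpace.isUnit_of_isUnit_germ _ ⊤ _ fun x hx => ?_
  have h1 : x ∈ X.left.basicOpen a := by
    obtain ⟨X', f, ⟨y, hy⟩, hu⟩ := h x
    have h3 : f.left ⁻¹ᵁ X.left.basicOpen a = X'.left.basicOpen (f.left.appTop a) :=
      Scheme.preimage_basicOpen_top _ _
    have h4 : X'.left.basicOpen (f.left.appTop a) = ⊤ := Scheme.basicOpen_of_isUnit _ hu
    rw [h4] at h3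
    have h5 : y ∈ f.left ⁻¹ᵁ X.left.basicOpen a := by rw [h3]; trivial
    rw [← hy]
    exact h5
  exact (Scheme.mem_basicOpen_top _ _ _).mp h1

/-- `0` is not a unit on a nonempty scheme. -/
lemma not_isUnit_zero {X : Over S} (x : X.left) : ¬ IsUnit (0 : Γ(X.left, ⊤)) := by
  intro h
  have h1 : X.left.basicOpen (0 : Γ(X.left, ⊤)) = ⊤ := Scheme.basicOpen_of_isUnit _ h
  have h2 : x ∈ X.left.basicOpen (0 : Γ(X.left, ⊤)) := by rw [h1]; trivial
  rw [Scheme.mem_basicOpen_top, map_zero] at h2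
  exact _root_.not_isUnit_zero h2

/-- A one-point test object all of whose functions are zero or units. -/
structure IsFld (X : Over S) : Prop where
  sub : ∀ x y : X.left, x = y
  ne : Nonempty X.left
  fn : ∀ a : Γ(X.left, ⊤), a = 0 ∨ IsUnit a

lemma isFld_of_spec {X : Over S} (K : Type u) [Field K] (e : X.left = Spec (CommRingCat.of K)) :
    IsFld X := by
  obtain ⟨X, ⟨⟨⟩⟩, g⟩ := X
  change X = _ at e
  subst e
  refine ⟨fun x y => ?_, ?_, fun a => ?_⟩
  · have : Subsingleton (PrimeSpectrum K) := inferInstance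
    exact this.elim x y
  · exact ⟨IsLocalRing.closedPoint K⟩
  · let e := (Scheme.ΓSpecIso (CommRingCat.of K)).commRingCatIsoToRingEquiv
    by_cases h : e a = 0
    · left
      exact (map_eq_zero_iff e e.injective).mp h
    · right
      exact (MulEquiv.isUnit_map e).mp (isUnit_iff_ne_zero.mpr h)

/-- the residue field point -/
noncomputable def rp (X : Over S) (x : X.left) : Over S := Over.mk (X.left.fromSpecResidueField x ≫ X.hom)

/-- its morphism -/
noncomputable def rf (X : Over S) (x : X.left) : rp X x ⟶ X := Over.homMk (X.left.fromSpecResidueField x) rfl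

lemma isFld_rp (X : Over S) (x : X.left) : IsFld (rp X x) :=
  isFld_of_spec (X.left.residueField x) rfl

lemma range_rf (X : Over S) (x : X.left) : Set.range (rf X x).left = {x} :=
  Scheme.range_fromSpecResidueField _

lemma rf_apply {X : Over S} {x : X.left} (z : (rp X x).left) : (rf X x).left z = x := by
  have : (rf X x).left z ∈ Set.range (rf X x).left := ⟨z, rfl⟩
  rw [range_rf] at this
  exact this

lemma mem_range_rf (X : Over S) (x : X.left) : x ∈ Set.range (rf X x).left := by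
  rw [range_rf]; rfl

/-- a function which does not vanish at any residue field point is a unit -/
lemma isUnit_of_ne_zero {X : Over S} {a : Γ(X.left, ⊤)}
    (h : ∀ x : X.left, (rf X x).left.appTop a ≠ 0) : IsUnit a := by
  refine isUnit_of_cover fun x => ⟨rp X x, rf X x, mem_range_rf X x, ?_⟩
  exact ((isFld_rp X x).fn _).resolve_left (h x)

/-- the generic function: powers -/
theorem exists_generic (X : Over S) (x : X.left) :
    ∃ (X' : Over S) (f : X' ⟶ X) (v : Γ(X'.left, ⊤)), Flat f.left ∧ x ∈ Set.range f.left ∧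
      (∀ a : Γ(X.left, ⊤), IsUnit (v - f.left.appTop a)) ∧ (∀ n : ℕ, n ≠ 0 → IsUnit (v ^ n - 1)) ∧
      ∀ (Y : Over S) (φ : X ⊗ Red.Ga S ⟶ Y) (Ω : Set Y.left), IsOpen Ω →
        (lift (𝟙 X) (gaPt X 0) ≫ φ).left x ∈ Ω → Set.range (lift f (gaPt X' v) ≫ φ).left ⊆ Ω := by
  obtain ⟨X', f, v, hf, hx, hv, hgen⟩ := Gen2.exists_generic X x
  refine ⟨X', f, v, hf, hx, hv, fun n hn => ?_, hgen⟩
  let φ : X ⊗ Red.Ga S ⟶ Red.Ga S := gaPt _ (Red.gaFn (snd X (Red.Ga S)) ^ n - 1)
  have hφ : ∀ {Y : Over S} (a : Y ⟶ X) (b : Y ⟶ Red.Ga S),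
      lift a b ≫ φ = gaPt Y (Red.gaFn b ^ n - 1) := by
    intro Y a b
    change lift a b ≫ gaPt _ _ = _
    rw [comp_gaPt, map_sub, map_pow, map_one, ← gaFn_comp, lift_snd]
  let c : Γ((Red.Ga S).left, ⊤) := Red.gaFn (𝟙 (Red.Ga S))
  have hc : ∀ {Y : Over S} (a : Γ(Y.left, ⊤)), (gaPt Y a : Y ⟶ Red.Ga S).left.appTop c = a := by
    intro Y a
    change (gaPt Y a : Y ⟶ Red.Ga S).left.appTop (Red.gaFn (𝟙 (Red.Ga S))) = a
    rw [← gaFn_comp, Category.comp_id, gaFn_gaPt]
  have h1 := hgen (Red.Ga S) φ ((Red.Ga S).left.basicOpen c) ((Red.Ga S).left.basicOpen c).2 (by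
    rw [hφ, gaFn_gaPt, zero_pow hn, zero_sub]
    change x ∈ (gaPt X (-1) : X ⟶ Red.Ga S).left ⁻¹ᵁ (Red.Ga S).left.basicOpen c
    rw [Scheme.preimage_basicOpen_top, hc]
    rw [Scheme.basicOpen_of_isUnit _ isUnit_one.neg]
    trivial)
  rw [hφ, gaFn_gaPt] at h1
  refine isUnit_of_cover fun x' => ⟨rp X' x', rf X' x', mem_range_rf X' x', ?_⟩
  have h2 : x' ∈ (gaPt X' (v ^ n - 1) : X' ⟶ Red.Ga S).left ⁻¹ᵁ (Red.Ga S).left.basicOpen c := h1 ⟨x', rfl⟩
  rw [Scheme.preimage_basicOpen_top, hc] at h2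
  rcases (isFld_rp X' x').fn ((rf X' x').left.appTop (v ^ n - 1)) with h3 | h3
  · exfalso
    obtain ⟨z⟩ := (isFld_rp X' x').ne
    have h4 : z ∈ (rf X' x').left ⁻¹ᵁ X'.left.basicOpen (v ^ n - 1) := by
      change (rf X' x').left z ∈ X'.left.basicOpen (v ^ n - 1)
      rw [rf_apply]; exact h2
    rw [Scheme.preimage_basicOpen_top, h3, Scheme.mem_basicOpen_top, map_zero] at h4
    exact _root_.not_isUnit_zero h4
  · exact h3

end K212.Fn
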