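import Groth.Agent.Red.K212.Gen2
import Groth.Agent.Red.K212.R1Mk

/-!
# Homomorphisms from the additive group with a weight

`exists_nu`: let `i : T ⟶ G` be a torus (points commute), `p₊, p₋` root homomorphisms with open cell,
`Q` a torus with a homomorphism `j : Q ⟶ T` such that `α ∘ j` is non-trivial on all geometric fibres,
and `p : 𝔾_a ⟶ G` a homomorphism with `p(α(t) x) = t^q p(x) t^{-q}` for all points `t` of `Q`.
Then `p(x) = p₊(ν x^q)` for an `S`-point `ν` of `𝔾_a`.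
-/

set_option autoImplicit false
universe u
open CategoryTheory MonoidalCategory CartesianMonoidalCategory MonObj GrpObj AlgebraicGeometry Limits

namespace K212.Weight

open Groth.Agent.Sga3B Groth.Agent.Sga3B.DSPts Groth.Agent.Sga3B.GaPts Groth.Agent.Sga3.H811.Pts
open Groth.Agent.Sga3.H811.Lift K212.R1Mk K212.Gen K212.Gen2

variable {S : Scheme.{u}} {G T : Over S} [GrpObj G] [GrpObj T] {i : T ⟶ G} {α : T ⟶ Red.Gm S}
  {pp pm : Red.Ga S ⟶ G}

omit [GrpObj T] in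
/-- a point of `G` lying set-theoretically in the open cell lifts to the cell -/
lemma exists_lift_cell [IsOpenImmersion (cell i pp pm).left] {X : Over S} (g : X ⟶ G)
    (h : Set.range g.left ⊆ Set.range (cell i pp pm).left) :
    ∃ w : X ⟶ (Red.Ga S ⊗ T) ⊗ Red.Ga S, w ≫ cell i pp pm = g := by
  refine ⟨Over.homMk (IsOpenImmersion.lift (cell i pp pm).left _ h) (by
      rw [← Over.w (cell i pp pm), IsOpenImmersion.lift_fac_assoc, Over.w]), ?_⟩
  apply Over.OverMorphism.ext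
  exact IsOpenImmersion.lift_fac _ _ _

omit [GrpObj T] [GrpObj G] in
lemma range_comp_subset {X Y : Over S} (w : X ⟶ Y) (c : Y ⟶ G) :
    Set.range (w ≫ c).left ⊆ Set.range c.left := by
  rintro _ ⟨z, rfl⟩
  rw [Over.comp_left, Scheme.Hom.comp_apply]
  exact ⟨_, rfl⟩

omit [GrpObj T] in
lemma mem_range_cell {X : Over S} (a b : X ⟶ Red.Ga S) (t : X ⟶ T) (x : X.left) :
    ((a ≫ pm) * (t ≫ i) * (b ≫ pp)).left x ∈ Set.range (cell i pp pm).left := by
  rw [← lift_cell]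
  exact range_comp_subset _ _ ⟨x, rfl⟩

/-- conjugation of a point of the cell by a point of the torus -/
lemma conj_cell (hcomm : ∀ (X : Over S) (t t' : X ⟶ T), t * t' = t' * t) [IsMonHom i]
    (hpp : NormP i α pp) (hpm : NormM i α pm) {X : Over S} (s : X ⟶ T) (a b a' b' : Γ(X.left, ⊤))
    (t : X ⟶ T) (ha : a' * Red.gmFn (s ≫ α) = a) (hb : b' = Red.gmFn (s ≫ α) * b) :
    (s ≫ i) * ((gaPt X a ≫ pm) * (t ≫ i) * (gaPt X b ≫ pp)) * (s ≫ i)⁻¹ =
      (gaPt X a' ≫ pm) * (t ≫ i) * (gaPt X b' ≫ pp) := by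
  have e1 := hpm.comm s a a' ha
  have e2 := hpp.comm s b b' hb
  have e3 : (s ≫ i) * (t ≫ i) = (t ≫ i) * (s ≫ i) := by
    rw [← MonObj.mul_comp, ← MonObj.mul_comp, hcomm]
  rw [mul_inv_eq_iff_eq_mul, _root_.mul_assoc _ (gaPt X b' ≫ pp), ← e2]
  rw [← _root_.mul_assoc, ← _root_.mul_assoc, e1, _root_.mul_assoc (gaPt X a' ≫ pm), e3]
  simp only [_root_.mul_assoc]

section main

variable {Q : Over S} [GrpObj Q] {j : Q ⟶ T} (q : ℕ) {p : Red.Ga S ⟶ G}

/-- the weight condition -/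
def HasWeight (i : T ⟶ G) (α : T ⟶ Red.Gm S) (j : Q ⟶ T) (q : ℕ) (p : Red.Ga S ⟶ G) : Prop :=
  ∀ (X : Over S) (t : X ⟶ Q) (x x' : X ⟶ Red.Ga S), Red.gaFn x' = Red.gmFn (t ≫ j ≫ α) * Red.gaFn x →
      x' ≫ p = ((t ≫ j ≫ i) ^ q) * (x ≫ p) * ((t ≫ j ≫ i) ^ q)⁻¹

variable {q}

omit [GrpObj Q] [GrpObj T] in
lemma gmFn_pow' [GrpObj T] [h : IsMonHom α] {X : Over S} (t : X ⟶ T) (n : ℕ) :
    Red.gmFn ((t ^ n) ≫ α) = Red.gmFn (t ≫ α) ^ n := by
  have h1 := MonObj.pow_comp t n α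
  rw [h1, gmFn_pow]

omit [GrpObj Q] in
lemma pow_i [IsMonHom i] {X : Over S} (t : X ⟶ T) (n : ℕ) : (t ^ n) ≫ i = (t ≫ i) ^ n :=
  MonObj.pow_comp t n i

omit [GrpObj T] in
/-- `p` factors through the open cell. -/
theorem range_subset [GrpObj T] (hcomm : ∀ (X : Over S) (t t' : X ⟶ T), t * t' = t' * t) [IsMonHom i]
    [IsMonHom α] [IsMonHom j] [IsMonHom p] [IsMonHom pp] [IsMonHom pm]
    (hpp : NormP i α pp) (hpm : NormM i α pm) (hΩ : IsOpenImmersion (cell i pp pm).left)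
    (hQ : Red.IsTorus Q) (hβ : ∀ s : S, (Over.pullback (Red.geomPt s)).map (j ≫ α) ≠ 1)
    (hp : HasWeight i α j q p) :
    Set.range p.left ⊆ Set.range (cell i pp pm).left := by
  rintro _ ⟨u, rfl⟩
  -- multiplication of points of `𝔾_a`
  let φ : Red.Ga S ⊗ Red.Ga S ⟶ G :=
    gaPt _ (Red.gaFn (fst (Red.Ga S) (Red.Ga S)) * Red.gaFn (snd (Red.Ga S) (Red.Ga S))) ≫ p
  have hφ : ∀ {X : Over S} (a b : X ⟶ Red.Ga S),
      lift a b ≫ φ = gaPt X (Red.gaFn a * Red.gaFn b) ≫ p := by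
    intro X a b
    change lift a b ≫ gaPt _ _ ≫ p = _
    rw [← Category.assoc, comp_gaPt, map_mul, ← gaFn_comp, ← gaFn_comp, lift_fst, lift_snd]
  obtain ⟨X', f, v, hf, ⟨x', hx'⟩, hv, hgen⟩ := Gen2.exists_generic (Red.Ga S) u
  have h1 := hgen G φ (Set.range (cell i pp pm).left) hΩ.isOpen_range (by
    rw [hφ, gaFn_gaPt, mul_zero]
    have h0 : (gaPt (Red.Ga S) 0 : Red.Ga S ⟶ Red.Ga S) ≫ p = (gaPt _ 0 ≫ pm) *
        ((1 : Red.Ga S ⟶ T) ≫ i) * (gaPt _ 0 ≫ pp) := by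
      have h0 : (gaPt (Red.Ga S) 0 : Red.Ga S ⟶ Red.Ga S) = 1 := by
        apply gaFn_injective
        rw [gaFn_gaPt, gaFn_one]
      rw [h0, MonObj.one_comp, MonObj.one_comp, MonObj.one_comp, MonObj.one_comp, _root_.one_mul, _root_.one_mul]
    rw [h0]
    exact mem_range_cell _ _ _ _)
  rw [hφ, gaFn_gaPt] at h1
  obtain ⟨w, hw⟩ := exists_lift_cell _ h1
  obtain ⟨v, rfl⟩ : IsUnit v := by
    have := hv 0
    rwa [map_zero, sub_zero] at this
  have : IsMonHom (j ≫ α) := inferInstance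
  obtain ⟨X'', g, t, hg, ⟨x'', hx''⟩, ht⟩ := exists_lift hQ (j ≫ α) hβ X' (gmPt X' v⁻¹) x'
  have h2 := hp X'' t (g ≫ gaPt X' (Red.gaFn f * v)) (g ≫ f) (by
    rw [ht, gmFn_comp, gmFn_gmPt, comp_gaPt, gaFn_gaPt, gaFn_comp, map_mul, mul_comm (g.left.appTop (Red.gaFn f)),
      ← _root_.mul_assoc, ← map_mul, Units.inv_mul, map_one, _root_.one_mul])
  have h3 : ((g ≫ f) ≫ p).left x'' = p.left u := by
    rw [Over.comp_left, Over.comp_left, Scheme.Hom.comp_apply, Scheme.Hom.comp_apply, hx'', hx']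
  have e1 : (t ≫ j ≫ i) ^ q = ((t ≫ j) ^ q) ≫ i := by
    rw [pow_i, Category.assoc]
  rw [← h3, h2, e1, Category.assoc g _ p, ← hw, ← Category.assoc g w, comp_cell]
  have hu : IsUnit (Red.gmFn (((t ≫ j) ^ q) ≫ α)) := isUnit_gmFn _
  obtain ⟨c, hc⟩ := hu
  have h4 := conj_cell hcomm hpp hpm ((t ≫ j) ^ q) (Red.gaFn ((g ≫ w) ≫ fst _ _ ≫ fst _ _))
    (Red.gaFn ((g ≫ w) ≫ snd _ _)) ((c⁻¹ : Γ(X''.left, ⊤)ˣ) * Red.gaFn ((g ≫ w) ≫ fst _ _ ≫ fst _ _))
    (Red.gmFn (((t ≫ j) ^ q) ≫ α) * Red.gaFn ((g ≫ w) ≫ snd _ _)) ((g ≫ w) ≫ fst _ _ ≫ snd _ _)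
    (by rw [← hc, mul_right_comm, Units.inv_mul, _root_.one_mul]) rfl
  rw [gaPt_gaFn, gaPt_gaFn] at h4
  rw [h4]
  exact mem_range_cell _ _ _ _

omit [GrpObj T] in
/-- **Homomorphisms from `𝔾_a` of weight `q`.** -/
theorem exists_nu [GrpObj T] (hcomm : ∀ (X : Over S) (t t' : X ⟶ T), t * t' = t' * t) [IsMonHom i]
    [IsMonHom α] [IsMonHom j] [IsMonHom p] [IsMonHom pp] [IsMonHom pm]
    (hpp : NormP i α pp) (hpm : NormM i α pm) (hΩ : IsOpenImmersion (cell i pp pm).left)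
    (hQ : Red.IsTorus Q) (hβ : ∀ s : S, (Over.pullback (Red.geomPt s)).map (j ≫ α) ≠ 1)
    (hp : HasWeight i α j q p) :
    ∃ ν : 𝟙_ (Over S) ⟶ Red.Ga S, ∀ (X : Over S) (x : Γ(X.left, ⊤)),
      gaPt X x ≫ p = gaPt X (Red.gaFn (toUnit X ≫ ν) * x ^ q) ≫ pp := by
  have hmono : Mono (cell i pp pm) := Over.mono_of_mono_left (cell i pp pm)
  obtain ⟨w, hw⟩ := exists_lift_cell p (range_subset hcomm hpp hpm hΩ hQ hβ hp)
  -- the coordinates
  let A : ∀ X : Over S, Γ(X.left, ⊤) → Γ(X.left, ⊤) := fun X x =>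
    Red.gaFn (gaPt X x ≫ w ≫ fst _ _ ≫ fst _ _)
  let C : ∀ X : Over S, Γ(X.left, ⊤) → Γ(X.left, ⊤) := fun X x => Red.gaFn (gaPt X x ≫ w ≫ snd _ _)
  let b : ∀ X : Over S, Γ(X.left, ⊤) → (X ⟶ T) := fun X x => gaPt X x ≫ w ≫ fst _ _ ≫ snd _ _
  have hA : Nat A := fun f x => by
    change _ = Red.gaFn (gaPt _ _ ≫ _)
    rw [← comp_gaPt, Category.assoc, gaFn_comp]
  have hC : Nat C := fun f x => by
    change _ = Red.gaFn (gaPt _ _ ≫ _)
    rw [← comp_gaPt, Category.assoc, gaFn_comp]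
  have hb : ∀ {X X' : Over S} (f : X' ⟶ X) (x : Γ(X.left, ⊤)), f ≫ b X x = b X' (f.left.appTop x) := by
    intro X X' f x
    change _ = gaPt _ _ ≫ _
    rw [← comp_gaPt, Category.assoc]
  have hdec : ∀ (X : Over S) (x : Γ(X.left, ⊤)), gaPt X x ≫ p =
      (gaPt X (A X x) ≫ pm) * (b X x ≫ i) * (gaPt X (C X x) ≫ pp) := by
    intro X x
    rw [← hw, ← Category.assoc, comp_cell, gaPt_gaFn, gaPt_gaFn]
    simp only [Category.assoc, b]
  have huniq : ∀ {X : Over S} {a a' c c' : Γ(X.left, ⊤)} {t t' : X ⟶ T},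
      (gaPt X a ≫ pm) * (t ≫ i) * (gaPt X c ≫ pp) = (gaPt X a' ≫ pm) * (t' ≫ i) * (gaPt X c' ≫ pp) →
      a = a' ∧ t = t' ∧ c = c' := by
    intro X a a' c c' t t' h
    rw [← lift_cell, ← lift_cell, cancel_mono] at h
    have h2 := congrArg (fun k => k ≫ fst _ _ ≫ fst _ _) h
    have h3 := congrArg (fun k => k ≫ fst _ _ ≫ snd _ _) h
    have h4 := congrArg (fun k => k ≫ snd _ _) h
    simp only [lift_fst_assoc, lift_fst, lift_snd] at h2 h3 h4
    refine ⟨?_, h3, ?_⟩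
    · have := congrArg Red.gaFn h2
      simpa using this
    · have := congrArg Red.gaFn h4
      simpa using this
  -- equivariance
  have hequiv : ∀ {X : Over S} (z : Γ(X.left, ⊤)ˣ) (x : Γ(X.left, ⊤)),
      A X (z * x) * z ^ q = A X x ∧ b X (z * x) = b X x ∧ C X (z * x) = z ^ q * C X x := by
    intro X z x
    -- flat locally
    have key : ∀ pt : X.left, ∃ (X' : Over S) (f : X' ⟶ X), Flat f.left ∧ pt ∈ Set.range f.left ∧
        (f.left.appTop (A X (z * x) * z ^ q) = f.left.appTop (A X x)) ∧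
        (f ≫ b X (z * x) = f ≫ b X x) ∧
        (f.left.appTop (C X (z * x)) = f.left.appTop (z ^ q * C X x)) := by
      intro pt
      obtain ⟨X', f, t, hf, hpt, ht⟩ := exists_lift hQ (j ≫ α) hβ X (gmPt X z) pt
      refine ⟨X', f, hf, hpt, ?_⟩
      have hz : Red.gmFn (t ≫ j ≫ α) = f.left.appTop z := by
        rw [ht, gmFn_comp, gmFn_gmPt]
      have h1 := hp X' t (gaPt X' (f.left.appTop x)) (gaPt X' (f.left.appTop (z * x))) (by
        rw [gaFn_gaPt, gaFn_gaPt, hz, map_mul])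
      have e1 : (t ≫ j ≫ i) ^ q = ((t ≫ j) ^ q) ≫ i := by
        rw [pow_i, Category.assoc]
      have e2 : Red.gmFn (((t ≫ j) ^ q) ≫ α) = f.left.appTop z ^ q := by
        rw [gmFn_pow', Category.assoc, hz]
      let c : Γ(X'.left, ⊤)ˣ := Units.map (f.left.appTop.hom : Γ(X.left, ⊤) →* _) z
      have hc : (c : Γ(X'.left, ⊤)) = f.left.appTop z := rfl
      rw [hdec, hdec, e1, conj_cell hcomm hpp hpm ((t ≫ j) ^ q) (A X' (f.left.appTop x))
        (C X' (f.left.appTop x)) ((c⁻¹ ^ q : Γ(X'.left, ⊤)ˣ) * A X' (f.left.appTop x))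
        (f.left.appTop z ^ q * C X' (f.left.appTop x)) (b X' (f.left.appTop x))
        (by rw [e2, ← hc, ← Units.val_pow_eq_pow_val, mul_right_comm, ← Units.val_mul, ← mul_pow,
          inv_mul_cancel, one_pow, Units.val_one, _root_.one_mul]) (by rw [e2])] at h1
      obtain ⟨h2, h3, h4⟩ := huniq h1
      refine ⟨?_, ?_, ?_⟩
      · rw [map_mul, hA, hA, h2, map_pow, ← hc, ← Units.val_pow_eq_pow_val, mul_right_comm,
          ← Units.val_mul, ← mul_pow, inv_mul_cancel, one_pow, Units.val_one, _root_.one_mul]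
      · rw [hb, hb, h3]
      · rw [hC, h4, map_mul, map_pow, hC]
    refine ⟨fn_ext fun pt => ?_, eq_of_flat _ _ fun pt => ?_, fn_ext fun pt => ?_⟩
    · obtain ⟨X', f, hf, hpt, h1, h2, h3⟩ := key pt
      exact ⟨X', f, hf, hpt, h1⟩
    · obtain ⟨X', f, hf, hpt, h1, h2, h3⟩ := key pt
      exact ⟨X', f, hf, hpt, h2⟩
    · obtain ⟨X', f, hf, hpt, h1, h2, h3⟩ := key pt
      exact ⟨X', f, hf, hpt, h3⟩
  -- the value at `0`
  have h0 : ∀ X : Over S, A X 0 = 0 := by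
    intro X
    have h1 := hdec X 0
    have h0 : ∀ {X : Over S}, (gaPt X 0 : X ⟶ Red.Ga S) = 1 := by
      intro X
      apply gaFn_injective
      rw [gaFn_gaPt, gaFn_one]
    have h2 : (gaPt X 0 : X ⟶ Red.Ga S) ≫ p = (gaPt X 0 ≫ pm) * ((1 : X ⟶ T) ≫ i) * (gaPt X 0 ≫ pp) := by
      rw [h0, MonObj.one_comp, MonObj.one_comp, MonObj.one_comp, MonObj.one_comp, _root_.one_mul, _root_.one_mul]
    rw [h2] at h1
    exact (huniq h1).1.symm
  -- `A(x) x^q = A(1)`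
  have hA1 : ∀ (X : Over S) (x : Γ(X.left, ⊤)), A X x * x ^ q = A X 1 := by
    refine ext_units (F := fun X x => A X x * x ^ q) (F' := fun X _ => A X 1) ?_ ?_ ?_
    · intro X X' f x
      change f.left.appTop (A X x * x ^ q) = A X' _ * _ ^ q
      rw [map_mul, map_pow, hA]
    · intro X X' f x
      change f.left.appTop (A X 1) = A X' 1
      rw [hA, map_one]
    · intro X z
      have := (hequiv z (1 : Γ(X.left, ⊤))).1
      rw [_root_.mul_one] at this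
      exact this
  have hA2 : ∀ X : Over S, A X 1 = 0 := by
    intro X
    have h1 := hA1 X 0
    rw [h0, zero_mul] at h1
    exact h1.symm
  have hA3 : ∀ (X : Over S) (x : Γ(X.left, ⊤)), A X x = 0 := by
    refine ext_units (F := A) (F' := fun X _ => 0) hA ?_ ?_
    · intro X X' f x
      exact map_zero _
    · intro X z
      have h1 := hA1 X z
      rw [hA2] at h1
      exact ((z.isUnit.pow q).mul_left_eq_zero).mp h1
  have hC1 : ∀ (X : Over S) (x : Γ(X.left, ⊤)), C X x = C X 1 * x ^ q := by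
    refine ext_units (F := C) (F' := fun X x => C X 1 * x ^ q) hC ?_ ?_
    · intro X X' f x
      change f.left.appTop (C X 1 * x ^ q) = C X' 1 * (f.left.appTop x) ^ q
      rw [map_mul, map_pow, hC, map_one]
    · intro X z
      have := (hequiv z (1 : Γ(X.left, ⊤))).2.2
      rw [_root_.mul_one] at this
      rw [this, mul_comm]
  have hdec' : ∀ (X : Over S) (x : Γ(X.left, ⊤)), gaPt X x ≫ p =
      (gaPt X 0 ≫ pm) * (b X x ≫ i) * (gaPt X (C X x) ≫ pp) := by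
    intro X x
    rw [hdec, hA3]
  have hm0 : ∀ X : Over S, (gaPt X 0 : X ⟶ Red.Ga S) ≫ pm = 1 := by
    intro X
    have h0 : (gaPt X 0 : X ⟶ Red.Ga S) = 1 := by
      apply gaFn_injective
      rw [gaFn_gaPt, gaFn_one]
    rw [h0, MonObj.one_comp]
  -- `b` is additive
  have hbadd : ∀ (X : Over S) (x y : Γ(X.left, ⊤)), b X (x + y) = b X x * b X y := by
    intro X x y
    have h1 : gaPt X (x + y) ≫ p = (gaPt X x ≫ p) * (gaPt X y ≫ p) := by
      rw [gaPt_add, MonObj.mul_comp]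
    rw [hdec', hdec' X x, hdec' X y, hm0, _root_.one_mul, _root_.one_mul, _root_.one_mul] at h1
    have h2 : (gaPt X (C X x) ≫ pp) * (b X y ≫ i) =
        (b X y ≫ i) * (gaPt X ((uPt (b X y ≫ α))⁻¹ * C X x) ≫ pp) := by
      rw [hpp.comm (b X y) _ (C X x) (by
        rw [← _root_.mul_assoc, ← uPt_val, Units.mul_inv, _root_.one_mul])]
    have h3 : (b X x ≫ i) * (gaPt X (C X x) ≫ pp) * ((b X y ≫ i) * (gaPt X (C X y) ≫ pp)) =
        (gaPt X 0 ≫ pm) * ((b X x * b X y) ≫ i) *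
          (gaPt X ((uPt (b X y ≫ α))⁻¹ * C X x + C X y) ≫ pp) := by
      rw [hm0, _root_.one_mul, MonObj.mul_comp, gaPt_add, MonObj.mul_comp]
      have : (b X x ≫ i) * (gaPt X (C X x) ≫ pp) * ((b X y ≫ i) * (gaPt X (C X y) ≫ pp)) =
          (b X x ≫ i) * ((gaPt X (C X x) ≫ pp) * (b X y ≫ i)) * (gaPt X (C X y) ≫ pp) := by
        simp only [_root_.mul_assoc]
      rw [this, h2]
      simp only [_root_.mul_assoc]
    rw [h3] at h1
    have h4 : (b X (x + y) ≫ i) * (gaPt X (C X (x + y)) ≫ pp) =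
        (gaPt X 0 ≫ pm) * (b X (x + y) ≫ i) * (gaPt X (C X (x + y)) ≫ pp) := by
      rw [hm0, _root_.one_mul]
    rw [h4] at h1
    exact (huniq h1).2.1
  have hbz : ∀ (X : Over S) (z : Γ(X.left, ⊤)ˣ), b X z = b X 1 := by
    intro X z
    have := (hequiv z (1 : Γ(X.left, ⊤))).2.1
    rwa [_root_.mul_one] at this
  have hb1 : ∀ X : Over S, b X 1 = 1 := by
    intro X
    refine eq_of_generic _ _ fun X' f v hf hv => ?_
    obtain ⟨v', hv'⟩ := hv 1
    obtain ⟨v, rfl⟩ : IsUnit v := by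
      have := hv 0
      rwa [map_zero, sub_zero] at this
    rw [hb, map_one, MonObj.comp_one]
    have h1 := hbadd X' v' 1
    rw [hv', map_one, sub_add_cancel, hbz, ← map_one f.left.appTop.hom] at h1
    have h2 : b X' (v' : Γ(X'.left, ⊤)) = b X' 1 := hbz X' v'
    rw [hv', map_one] at h2
    change b X' (↑v - 1) = b X' 1 at h2
    simp only [map_one] at h1
    rw [h2] at h1
    exact (mul_eq_left.mp h1.symm)
  have hbu : ∀ (X : Over S) (z : Γ(X.left, ⊤)ˣ), b X z = 1 := fun X z => (hbz X z).trans (hb1 X)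
  have hball : ∀ (X : Over S) (x : Γ(X.left, ⊤)), b X x = 1 := by
    intro X x
    refine eq_of_generic _ _ fun X' f v hf hv => ?_
    obtain ⟨v', hv'⟩ := hv x
    obtain ⟨v, rfl⟩ : IsUnit v := by
      have := hv 0
      rwa [map_zero, sub_zero] at this
    rw [hb, MonObj.comp_one]
    have e1 : f.left.appTop x = v + ((-v' : Γ(X'.left, ⊤)ˣ) : Γ(X'.left, ⊤)) := by
      rw [Units.val_neg, hv']; ring
    rw [e1, hbadd, hbu, hbu, _root_.one_mul]
  refine ⟨gaPt _ (C _ 1), fun X x => ?_⟩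
  rw [hdec', hm0, hball, MonObj.one_comp, _root_.one_mul, _root_.one_mul, hC1, comp_gaPt, gaFn_gaPt, hC, map_one]

end main

end K212.Weight
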