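import Groth.Agent.Sga7.H738.GaBc
import Groth.Agent.S3036
import Groth.Agent.SGA3x.K14.HomGa
import Groth.Agent.Red.K212.Kpt
import Groth.Agent.Red.K212.Weight
import Mathlib.RingTheory.TensorProduct.MvPolynomial

/-!
# The additive group in the geometric fibres of a reductive group

* `hasNoSubtorus_ga`: the fibre of `𝔾_a` contains no non-trivial torus.
* `false_of_normal`: a reductive group over an algebraically closed field has no normal subgroup `𝔾_a`.
* `false_of_comm`: opposite root groups with open cell do not commute on a reductive geometric fibre.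
-/

set_option autoImplicit false
universe u
open CategoryTheory MonoidalCategory CartesianMonoidalCategory MonObj GrpObj AlgebraicGeometry Limits
open scoped TensorProduct

namespace K212.GaFib

open Groth.Agent.Sga3B.DSPts Groth.Agent.Sga3B.GaPts Groth.Agent.Sga3.H811.Pts K212.Weight K212.Kpt

/-- base change of `Spec B` to `Spec K` is integral if `B ⊗ K` is a domain. -/
theorem isIntegral_pullback (R B K : Type u) [CommRing R] [CommRing B] [CommRing K] [Algebra R B] [Algebra R K]
    (h : IsDomain (B ⊗[R] K)) (t : Spec (CommRingCat.of K) ⟶ Spec (CommRingCat.of R))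
    (ht : t = Spec.map (CommRingCat.ofHom (algebraMap R K))) :
    IsIntegral (pullback (Spec.map (CommRingCat.ofHom (algebraMap R B))) t) := by
  subst ht
  have h2 : IsDomain (CommRingCat.of (B ⊗[R] K)) := h
  have h1 : IsIntegral (Spec (CommRingCat.of (B ⊗[R] K))) := inferInstance
  have h3 : Nonempty ↥(pullback (Spec.map (CommRingCat.ofHom (algebraMap R B)))
      (Spec.map (CommRingCat.ofHom (algebraMap R K)))) :=
    ⟨(pullbackSpecIso R B K).inv (Classical.arbitrary (Spec (CommRingCat.of (B ⊗[R] K))))⟩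
  exact isIntegral_of_isOpenImmersion (pullbackSpecIso R B K).hom

attribute [local instance 10] ULift.algebra'

theorem isIntegral_ga (K : Type u) [Field K] : IsIntegral (Red.Ga (Spec (CommRingCat.of K))).left := by
  refine isIntegral_pullback (ULift.{u} ℤ) (SymmetricAlgebra (ULift.{u} ℤ) (ULift.{u} ℤ)) K ?_ _
    (specULiftZIsTerminal.hom_ext _ _)
  let e : (SymmetricAlgebra (ULift.{u} ℤ) (ULift.{u} ℤ)) ⊗[ULift.{u} ℤ] K ≃+* MvPolynomial Unit K :=
    (((Algebra.TensorProduct.comm (ULift.{u} ℤ) _ K).trans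
      (Algebra.TensorProduct.congr AlgEquiv.refl
        (SymmetricAlgebra.equivMvPolynomial (Module.Basis.singleton Unit (ULift.{u} ℤ))))).toRingEquiv.trans
      (MvPolynomial.algebraTensorAlgEquiv (ULift.{u} ℤ) K).toRingEquiv)
  exact MulEquiv.isDomain _ e.toMulEquiv

variable {S : Scheme.{u}}

/-- the base change of `𝔾_a` is `𝔾_a`: underlying isomorphism -/
noncomputable def gaBc {S' : Scheme.{u}} (f : S' ⟶ S) : Red.bc f (Red.Ga S) ≅ Red.Ga S' :=
  (Grp.forget _).mapIso (Groth.Agent.Sga7.H738.GaBc.gaIso f)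

instance {S' : Scheme.{u}} (f : S' ⟶ S) : IsMonHom (gaBc f).hom :=
  (Groth.Agent.Sga7.H738.GaBc.gaIso f).hom.hom.isMonHom_hom

theorem connected_fibre {K : Type u} [Field K] (f : Spec (CommRingCat.of K) ⟶ S) :
    ConnectedSpace (Red.bc f (Red.Ga S)).left := by
  have := isIntegral_ga K
  let e : (Red.bc f (Red.Ga S)).left ≅ (Red.Ga (Spec (CommRingCat.of K))).left :=
    (Over.forget _).mapIso (gaBc f)
  have h2 : ConnectedSpace (Red.Ga (Spec (CommRingCat.of K))).left := inferInstance
  let e' := Scheme.homeoOfIso e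
  exact e'.symm.surjective.connectedSpace e'.symm.continuous

theorem hasNoSubtorus_fibre {K : Type u} [Field K] (f : Spec (CommRingCat.of K) ⟶ S) :
    Red.HasNoSubtorus K (Red.bc f (Red.Ga S)) := by
  intro T _ j _ _ hT
  have hT' : SGA3x.IsMultTypeFT T := by
    obtain ⟨S', f, hf, hs, hc, h⟩ := hT
    refine ⟨S', f, hf, hs, hc, fun s' => ?_⟩
    obtain ⟨U, hU, r, hr⟩ := h s'
    exact ⟨U, hU, Fin r → ℤ, inferInstance, inferInstance, hr⟩
  have h1 : j ≫ (gaBc f).hom = 1 := K14.HomGa.eq_one_of_isMultTypeFT hT' (j ≫ (gaBc f).hom)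
  have h2 : (𝟙 T) ≫ (j ≫ (gaBc f).hom) = (1 : T ⟶ T) ≫ (j ≫ (gaBc f).hom) := by
    rw [h1, MonObj.comp_one, MonObj.comp_one]
  have h3 : Mono (j ≫ (gaBc f).hom) := mono_comp _ _
  have h4 : 𝟙 T = 1 := (cancel_mono (j ≫ (gaBc f).hom)).mp h2
  have h5 : (toUnit T) ≫ η[T] = 𝟙 T := h4.symm
  have h6 : IsIso (toUnit T) := ⟨⟨η[T], h5, toUnit_unique _ _⟩⟩
  have h7 : IsIso (toUnit T).left := inferInstanceAs (IsIso ((Over.forget _).map (toUnit T)))
  rw [Over.toUnit_left] at h7
  exact h7

theorem not_isTrivialGrp {K : Type u} [Field K] (f : Spec (CommRingCat.of K) ⟶ S)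
    (h : Red.IsTrivialGrp (Red.bc f (Red.Ga S))) : False := by
  have h0 : IsIso (Red.bc f (Red.Ga S)).hom := h
  have h1 : IsIso (toUnit (Red.bc f (Red.Ga S))) := by
    have h1 : IsIso (toUnit (Red.bc f (Red.Ga S))).left := by
      rw [Over.toUnit_left]; exact h0
    have : IsIso ((Over.forget _).map (toUnit (Red.bc f (Red.Ga S)))) := h1
    exact isIso_of_reflects_iso (toUnit _) (Over.forget _)
  have h2 : ∀ x y : 𝟙_ (Over (Spec (CommRingCat.of K))) ⟶ Red.bc f (Red.Ga S), x = y := by
    intro x y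
    rw [← cancel_mono (toUnit (Red.bc f (Red.Ga S)))]
    exact toUnit_unique _ _
  have h3 := (bcEquiv f (𝟙_ (Over (Spec (CommRingCat.of K)))) (Red.Ga S)).injective
    (h2 (bcEquiv f _ _ (gaPt _ 0)) (bcEquiv f _ _ (gaPt _ 1)))
  have h4 := congrArg Red.gaFn h3
  rw [gaFn_gaPt, gaFn_gaPt] at h4
  change (0 : Γ(Spec (CommRingCat.of K), ⊤)) = 1 at h4
  exact zero_ne_one h4

end K212.GaFib
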