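import Groth.Agent.Sga3.H811.Lift
import Mathlib.RingTheory.Flat.Localization
import Mathlib.RingTheory.Polynomial.Basic

/-!
# Flat-locally there is a generic function

`exists_generic`: for a point `x` of an `S`-scheme `X` there is a flat morphism `X' ⟶ X` whose image
contains `x` and a function `v` on `X'` such that `v - a` is a unit for every function `a` on `X`.
-/

set_option autoImplicit false
universe u
open CategoryTheory MonoidalCategory CartesianMonoidalCategory MonObj GrpObj AlgebraicGeometry Limits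
open Polynomial

namespace K212.Gen

open Groth.Agent.Sga3B Groth.Agent.Sga3B.GaPts Groth.Agent.Sga3.H811.Lift Groth.Agent.Sga3.H811.Pts

section alg

variable {R : Type u} [CommRing R]

/-- algebraic form -/
lemma exists_generic_alg (p : PrimeSpectrum R) :
    ∃ (D : Type u) (_ : CommRing D) (φ : R →+* D) (v : D), φ.Flat ∧
      p ∈ Set.range (PrimeSpectrum.comap φ) ∧ ∀ a : R, IsUnit (v - φ a) := by
  let P : Ideal R[X] := Ideal.map C p.asIdeal
  have hP : P.IsPrime := by
    have := p.2
    exact Ideal.isPrime_map_C_of_isPrime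
  refine ⟨Localization.AtPrime P, inferInstance,
    (algebraMap R[X] (Localization.AtPrime P)).comp (C : R →+* R[X]),
    algebraMap R[X] (Localization.AtPrime P) X, ?_, ?_, ?_⟩
  · refine RingHom.Flat.comp ?_ ?_
    · change (algebraMap R R[X]).Flat
      rw [RingHom.flat_algebraMap_iff]
      infer_instance
    · rw [RingHom.flat_algebraMap_iff]
      exact IsLocalization.flat _ P.primeCompl
  · refine ⟨⟨IsLocalRing.maximalIdeal (Localization.AtPrime P), inferInstance⟩, ?_⟩
    rw [PrimeSpectrum.comap_comp_apply]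
    have h1 : PrimeSpectrum.comap (algebraMap R[X] (Localization.AtPrime P))
        ⟨IsLocalRing.maximalIdeal (Localization.AtPrime P), inferInstance⟩ = ⟨P, hP⟩ := by
      ext1
      exact Localization.AtPrime.under_maximalIdeal
    rw [h1]
    ext a
    change C a ∈ P ↔ a ∈ p.asIdeal
    rw [Ideal.mem_map_C_iff]
    constructor
    · intro h
      have := h 0
      rwa [coeff_C_zero] at this
    · intro h n
      rw [coeff_C]
      split_ifs
      · exact h
      · exact zero_mem _
  · intro a
    have h1 : X - C a ∉ P := by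
      rw [Ideal.mem_map_C_iff]
      intro h
      have h2 := h 1
      rw [coeff_sub, coeff_X_one, coeff_C_of_ne_zero one_ne_zero, sub_zero] at h2
      exact p.2.ne_top ((Ideal.eq_top_iff_one _).2 h2)
    have h2 := IsLocalization.map_units (Localization.AtPrime P) (⟨X - C a, h1⟩ : P.primeCompl)
    rw [map_sub] at h2
    exact h2

end alg

variable {S : Scheme.{u}}

/-- Flat-locally there is a generic function. -/
theorem exists_generic (X : Over S) (x : X.left) :
    ∃ (X' : Over S) (f : X' ⟶ X) (v : Γ(X'.left, ⊤)), Flat f.left ∧ x ∈ Set.range f.left ∧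
      ∀ a : Γ(X.left, ⊤), IsUnit (v - f.left.appTop a) := by
  obtain ⟨R₁, w, hw, ⟨y, hy⟩, -⟩ := BorLoc613.exists_spec_nhd (S := X.left) ⊤ (s := x) trivial
  obtain ⟨D, _, φ, v, hφ, ⟨q, hq⟩, hv⟩ := exists_generic_alg (R := R₁) y
  let g : Spec (CommRingCat.of D) ⟶ Spec R₁ := Spec.map (CommRingCat.ofHom φ)
  have hg : Flat g := Flat.SpecMap_iff.mpr hφ
  refine ⟨Over.mk (g ≫ w ≫ X.hom), Over.homMk (g ≫ w) (by simp), (Scheme.ΓSpecIso (CommRingCat.of D)).inv v,
    ?_, ⟨q, ?_⟩, ?_⟩
  · change Flat (g ≫ w)
    infer_instance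
  · change (g ≫ w) q = x
    rw [Scheme.Hom.comp_apply]
    have h1 : g q = y := hq
    rw [h1, hy]
  · intro a
    change IsUnit ((Scheme.ΓSpecIso (CommRingCat.of D)).inv v - (g ≫ w).appTop a)
    have h1 : (g ≫ w).appTop a = g.appTop (w.appTop a) := by
      rw [Scheme.Hom.comp_appTop]; rfl
    have h2 : g.appTop (w.appTop a) =
        (Scheme.ΓSpecIso (CommRingCat.of D)).inv (φ ((Scheme.ΓSpecIso R₁).hom (w.appTop a))) := by
      have h3 := congrArg (fun k => CommRingCat.Hom.hom k ((Scheme.ΓSpecIso R₁).hom (w.appTop a)))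
        (Scheme.ΓSpecIso_inv_naturality (CommRingCat.ofHom φ))
      refine Eq.trans ?_ h3.symm
      change _ = g.appTop (((Scheme.ΓSpecIso R₁).hom ≫ (Scheme.ΓSpecIso R₁).inv) (w.appTop a))
      rw [Iso.hom_inv_id]
      rfl
    rw [h1, h2, ← map_sub]
    exact (hv _).map _

/-- Equality of two morphisms can be tested on flat covers carrying a generic function. -/
theorem eq_of_generic {X Y : Over S} (a b : X ⟶ Y)
    (h : ∀ (X' : Over S) (f : X' ⟶ X) (v : Γ(X'.left, ⊤)), Flat f.left →
      (∀ c : Γ(X.left, ⊤), IsUnit (v - f.left.appTop c)) → f ≫ a = f ≫ b) : a = b := by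
  apply Over.OverMorphism.ext
  refine eq_of_flat_family _ _ fun x => ?_
  obtain ⟨X', f, v, hf, hx, hv⟩ := exists_generic X x
  refine ⟨X'.left, f.left, hf, hx, ?_⟩
  exact congrArg CommaMorphism.left (h X' f v hf hv)

/-- Equality of two morphisms can be tested flat-locally. -/
theorem eq_of_flat {X Y : Over S} (a b : X ⟶ Y)
    (h : ∀ x : X.left, ∃ (X' : Over S) (f : X' ⟶ X), Flat f.left ∧ x ∈ Set.range f.left ∧
      f ≫ a = f ≫ b) : a = b := by
  apply Over.OverMorphism.ext
  refine eq_of_flat_family _ _ fun x => ?_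
  obtain ⟨X', f, hf, hx, hv⟩ := h x
  exact ⟨X'.left, f.left, hf, hx, congrArg CommaMorphism.left hv⟩

end K212.Gen
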