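import Groth.Agent.Red.K212.Gen
import Mathlib.RingTheory.Polynomial.Basic
import Mathlib.RingTheory.Localization.Away.Basic

/-!
# Generic functions specialising to `0`, and identities of natural functions checked on units
-/

set_option autoImplicit false
universe u
open CategoryTheory MonoidalCategory CartesianMonoidalCategory MonObj GrpObj AlgebraicGeometry Limits
open Polynomial

namespace K212.Gen2

open Groth.Agent.Sga3B Groth.Agent.Sga3B.GaPts Groth.Agent.Sga3.H811.Lift Groth.Agent.Sga3.H811.Pts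

section alg

variable {R : Type u} [CommRing R] (p : PrimeSpectrum R)

/-- the extended prime -/
noncomputable def extP : PrimeSpectrum R[X] := ⟨Ideal.map C p.asIdeal, by
  have := p.2
  exact Ideal.isPrime_map_C_of_isPrime⟩

/-- the ring of the generic function -/
abbrev GR : Type u := Localization.AtPrime (extP p).asIdeal

lemma flat_GR : ((algebraMap R[X] (GR p)).comp (C : R →+* R[X])).Flat := by
  refine RingHom.Flat.comp ?_ ?_
  · change (algebraMap R R[X]).Flat
    rw [RingHom.flat_algebraMap_iff]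
    infer_instance
  · rw [RingHom.flat_algebraMap_iff]
    exact IsLocalization.flat _ (extP p).asIdeal.primeCompl

lemma comap_C_extP : PrimeSpectrum.comap (C : R →+* R[X]) (extP p) = p := by
  ext a
  change C a ∈ Ideal.map C p.asIdeal ↔ a ∈ p.asIdeal
  rw [Ideal.mem_map_C_iff]
  constructor
  · intro h
    have := h 0
    rwa [coeff_C_zero] at this
  · intro h n
    rw [coeff_C]
    split_ifs
    · exact h
    · exact zero_mem _

lemma comap_closed : PrimeSpectrum.comap (algebraMap R[X] (GR p))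
    ⟨IsLocalRing.maximalIdeal (GR p), inferInstance⟩ = extP p := by
  ext1
  exact Localization.AtPrime.under_maximalIdeal

lemma comap_le (q : PrimeSpectrum (GR p)) : PrimeSpectrum.comap (algebraMap R[X] (GR p)) q ≤ extP p := by
  have h : PrimeSpectrum.comap (algebraMap R[X] (GR p)) q ≤
      PrimeSpectrum.comap (algebraMap R[X] (GR p)) ⟨IsLocalRing.maximalIdeal (GR p), inferInstance⟩ := by
    intro x hx
    exact IsLocalRing.le_maximalIdeal q.2.ne_top hx
  exact h.trans (comap_closed p).le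

lemma extP_le : extP p ≤ PrimeSpectrum.comap (evalRingHom (0 : R)) p := by
  intro f hf
  change eval 0 f ∈ p.asIdeal
  rw [← coeff_zero_eq_eval_zero]
  exact Ideal.mem_map_C_iff.mp hf 0

lemma isUnit_X_sub (a : R) : IsUnit (algebraMap R[X] (GR p) X -
    (algebraMap R[X] (GR p)).comp (C : R →+* R[X]) a) := by
  have h1 : X - C a ∉ (extP p).asIdeal := by
    change X - C a ∉ Ideal.map C p.asIdeal
    rw [Ideal.mem_map_C_iff]
    intro h
    have h2 := h 1
    rw [coeff_sub, coeff_X_one, coeff_C_of_ne_zero one_ne_zero, sub_zero] at h2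
    exact p.2.ne_top ((Ideal.eq_top_iff_one _).2 h2)
  have h2 := IsLocalization.map_units (GR p) (⟨X - C a, h1⟩ : (extP p).asIdeal.primeCompl)
  rw [map_sub] at h2
  exact h2

end alg

section aff

/-- pulling back a function along `Spec D → Spec R → X` -/
lemma appTop_spec {X : Scheme.{u}} {R D : CommRingCat.{u}} (w : Spec R ⟶ X) (φ : R →+* D)
    (a : Γ(X, ⊤)) :
    (Spec.map (CommRingCat.ofHom φ) ≫ w).appTop a =
      (Scheme.ΓSpecIso D).inv (φ ((Scheme.ΓSpecIso R).hom (w.appTop a))) := by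
  have h1 : (Spec.map (CommRingCat.ofHom φ) ≫ w).appTop a =
      (Spec.map (CommRingCat.ofHom φ)).appTop (w.appTop a) := by
    rw [Scheme.Hom.comp_appTop]; rfl
  have h3 := congrArg (fun k => CommRingCat.Hom.hom k ((Scheme.ΓSpecIso R).hom (w.appTop a)))
    (Scheme.ΓSpecIso_inv_naturality (CommRingCat.ofHom φ))
  rw [h1]
  refine Eq.trans ?_ h3.symm
  change _ = (Spec.map (CommRingCat.ofHom φ)).appTop
    (((Scheme.ΓSpecIso R).hom ≫ (Scheme.ΓSpecIso R).inv) (w.appTop a))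
  rw [Iso.hom_inv_id]
  rfl

lemma appTop_spec' {R D : CommRingCat.{u}} (φ : R →+* D) (a : R) :
    (Spec.map (CommRingCat.ofHom φ)).appTop ((Scheme.ΓSpecIso R).inv a) =
      (Scheme.ΓSpecIso D).inv (φ a) := by
  have h3 := congrArg (fun k => CommRingCat.Hom.hom k a)
    (Scheme.ΓSpecIso_inv_naturality (CommRingCat.ofHom φ))
  exact h3.symm

end aff

variable {S : Scheme.{u}}

/-- Flat-locally there is a generic function, specialising to `0`: every open condition satisfied by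
the value `0` at the point `x` is satisfied by the generic function. -/
theorem exists_generic (X : Over S) (x : X.left) :
    ∃ (X' : Over S) (f : X' ⟶ X) (v : Γ(X'.left, ⊤)), Flat f.left ∧ x ∈ Set.range f.left ∧
      (∀ a : Γ(X.left, ⊤), IsUnit (v - f.left.appTop a)) ∧
      ∀ (Y : Over S) (φ : X ⊗ Red.Ga S ⟶ Y) (Ω : Set Y.left), IsOpen Ω →
        (lift (𝟙 X) (gaPt X 0) ≫ φ).left x ∈ Ω → Set.range (lift f (gaPt X' v) ≫ φ).left ⊆ Ω := by
  obtain ⟨R₁, w, hw, ⟨y, hy⟩, -⟩ := BorLoc613.exists_spec_nhd (S := X.left) ⊤ (s := x) trivial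
  let y' : PrimeSpectrum R₁ := y
  let D : CommRingCat.{u} := CommRingCat.of (GR y')
  let A : CommRingCat.{u} := CommRingCat.of (R₁[X])
  let φ₁ : R₁ →+* A := (C : R₁ →+* R₁[X])
  let φ₂ : A →+* D := algebraMap R₁[X] (GR y')
  let g : Spec D ⟶ Spec R₁ := Spec.map (CommRingCat.ofHom (φ₂.comp φ₁))
  have hgc : g = Spec.map (CommRingCat.ofHom φ₂) ≫ Spec.map (CommRingCat.ofHom φ₁) := by
    change Spec.map _ = _
    rw [← Spec.map_comp]; rfl
  have hg : Flat g := Flat.SpecMap_iff.mpr (flat_GR y')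
  let X₁ : Over S := Over.mk (Spec.map (CommRingCat.ofHom φ₁) ≫ w ≫ X.hom)
  let f₁ : X₁ ⟶ X := Over.homMk (Spec.map (CommRingCat.ofHom φ₁) ≫ w) (by simp [X₁])
  let v₁ : Γ(X₁.left, ⊤) := (Scheme.ΓSpecIso A).inv (Polynomial.X : R₁[X])
  let X' : Over S := Over.mk (g ≫ w ≫ X.hom)
  let f : X' ⟶ X := Over.homMk (g ≫ w) (by simp [X'])
  let v : Γ(X'.left, ⊤) := (Scheme.ΓSpecIso D).inv (φ₂ (Polynomial.X : R₁[X]))
  let h : X' ⟶ X₁ := Over.homMk (Spec.map (CommRingCat.ofHom φ₂)) (by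
    simp only [X₁, X', Over.mk_hom]
    rw [hgc, Category.assoc])
  have hhf : h ≫ f₁ = f := by
    apply Over.OverMorphism.ext
    change Spec.map (CommRingCat.ofHom φ₂) ≫ Spec.map (CommRingCat.ofHom φ₁) ≫ w = g ≫ w
    rw [hgc, Category.assoc]
  have hhv : h.left.appTop v₁ = v := appTop_spec' φ₂ (Polynomial.X : R₁[X])
  let X₀ : Over S := Over.mk (w ≫ X.hom)
  let f₀ : X₀ ⟶ X := Over.homMk w (by simp [X₀])
  let ev : A →+* R₁ := evalRingHom (0 : R₁)
  have hev : Spec.map (CommRingCat.ofHom ev) ≫ Spec.map (CommRingCat.ofHom φ₁) = 𝟙 (Spec R₁) := by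
    rw [← Spec.map_comp, ← CommRingCat.ofHom_comp]
    have : ev.comp φ₁ = RingHom.id R₁ := by
      ext a
      change eval 0 (C a) = a
      exact eval_C
    rw [this]
    exact Spec.map_id _
  let z : X₀ ⟶ X₁ := Over.homMk (Spec.map (CommRingCat.ofHom ev)) (by
    change Spec.map (CommRingCat.ofHom ev) ≫ Spec.map (CommRingCat.ofHom φ₁) ≫ w ≫ X.hom = w ≫ X.hom
    rw [← Category.assoc, hev]; exact Category.id_comp (w ≫ X.hom))
  have hzf : z ≫ f₁ = f₀ := by
    apply Over.OverMorphism.ext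
    change Spec.map (CommRingCat.ofHom ev) ≫ Spec.map (CommRingCat.ofHom φ₁) ≫ w = w
    rw [← Category.assoc, hev]; exact Category.id_comp w
  have hzv : z.left.appTop v₁ = 0 := by
    refine (appTop_spec' ev (Polynomial.X : R₁[X])).trans ?_
    change (Scheme.ΓSpecIso R₁).inv (eval 0 Polynomial.X) = 0
    rw [eval_X, map_zero]
  refine ⟨X', f, v, ?_, ⟨(⟨IsLocalRing.maximalIdeal (GR y'), inferInstance⟩ : PrimeSpectrum (GR y')), ?_⟩,
    ?_, ?_⟩
  · change Flat (g ≫ w)
    infer_instance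
  · change (g ≫ w) _ = x
    rw [Scheme.Hom.comp_apply]
    have h1 : g (⟨IsLocalRing.maximalIdeal (GR y'), inferInstance⟩ : PrimeSpectrum (GR y')) = y := by
      change PrimeSpectrum.comap (φ₂.comp φ₁) _ = y
      rw [PrimeSpectrum.comap_comp_apply]
      change PrimeSpectrum.comap (C : R₁ →+* R₁[X]) (PrimeSpectrum.comap (algebraMap R₁[X] (GR y')) _) = y
      rw [comap_closed, comap_C_extP]
    rw [h1, hy]
  · intro a
    change IsUnit ((Scheme.ΓSpecIso D).inv (φ₂ (Polynomial.X : R₁[X])) - (g ≫ w).appTop a)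
    rw [appTop_spec w (φ₂.comp φ₁) a, ← map_sub]
    exact (isUnit_X_sub y' _).map _
  · intro Y φ Ω hΩ hx
    let Φ := (lift f₁ (gaPt X₁ v₁) ≫ φ).left
    have e1 : lift f (gaPt X' v) = h ≫ lift f₁ (gaPt X₁ v₁) := by
      rw [comp_lift, hhf, comp_gaPt, hhv]
    have e2 : z ≫ lift f₁ (gaPt X₁ v₁) = f₀ ≫ lift (𝟙 X) (gaPt X 0) := by
      rw [comp_lift, hzf, comp_gaPt, hzv, comp_lift, Category.comp_id, comp_gaPt, map_zero]
    have hopen : IsOpen (Φ ⁻¹' Ω) := hΩ.preimage Φ.continuous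
    have hz0 : Φ (z.left y) ∈ Ω := by
      have h1 : Φ (z.left y) = (z ≫ lift f₁ (gaPt X₁ v₁) ≫ φ).left y := by
        rw [Over.comp_left, Scheme.Hom.comp_apply]
      have h2 : z ≫ lift f₁ (gaPt X₁ v₁) ≫ φ = f₀ ≫ (lift (𝟙 X) (gaPt X 0) ≫ φ) := by
        rw [← Category.assoc, e2, Category.assoc]
      rw [h1, h2, Over.comp_left, Scheme.Hom.comp_apply]
      have h3 : f₀.left y = x := hy
      rw [h3]
      exact hx
    have hgen : ∀ q : PrimeSpectrum (R₁[X]), q ≤ extP y' → Φ q ∈ Ω := by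
      intro q hq
      have h1 : (q : PrimeSpectrum (R₁[X])) ⤳ (PrimeSpectrum.comap (evalRingHom (0 : R₁)) y') := by
        rw [← PrimeSpectrum.le_iff_specializes]
        exact hq.trans (extP_le y')
      exact h1.mem_open hopen hz0
    rintro _ ⟨q, rfl⟩
    rw [e1, Category.assoc, Over.comp_left, Scheme.Hom.comp_apply]
    exact hgen _ (comap_le y' q)

/-- A natural family of functions. -/
def Nat (F : ∀ X : Over S, Γ(X.left, ⊤) → Γ(X.left, ⊤)) : Prop :=
  ∀ {X X' : Over S} (f : X' ⟶ X) (x : Γ(X.left, ⊤)), f.left.appTop (F X x) = F X' (f.left.appTop x)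

/-- equality of functions may be tested flat-locally -/
lemma fn_ext {X : Over S} {a b : Γ(X.left, ⊤)}
    (h : ∀ x : X.left, ∃ (X' : Over S) (f : X' ⟶ X), Flat f.left ∧ x ∈ Set.range f.left ∧
      f.left.appTop a = f.left.appTop b) : a = b := by
  have h1 : (gaPt X a : X ⟶ Red.Ga S) = gaPt X b := by
    refine Gen.eq_of_flat _ _ fun x => ?_
    obtain ⟨X', f, hf, hx, hab⟩ := h x
    refine ⟨X', f, hf, hx, ?_⟩
    rw [comp_gaPt, comp_gaPt, hab]
  have h2 := congrArg Red.gaFn h1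
  rwa [gaFn_gaPt, gaFn_gaPt] at h2

/-- Two natural families of functions which agree on units agree. -/
theorem ext_units {F F' : ∀ X : Over S, Γ(X.left, ⊤) → Γ(X.left, ⊤)} (hF : Nat F) (hF' : Nat F')
    (h : ∀ (X : Over S) (z : Γ(X.left, ⊤)ˣ), F X z = F' X z) (X : Over S) (x : Γ(X.left, ⊤)) :
    F X x = F' X x := by
  refine fn_ext fun pt => ?_
  obtain ⟨R₁, w, hw, hpt, -⟩ := BorLoc613.exists_spec_nhd (S := X.left) ⊤ (s := pt) trivial
  let A : CommRingCat.{u} := CommRingCat.of (R₁[X])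
  let L : CommRingCat.{u} := CommRingCat.of (Localization.Away (Polynomial.X : R₁[X]))
  let φ₁ : R₁ →+* A := (C : R₁ →+* R₁[X])
  let φ₂ : A →+* L := algebraMap R₁[X] (Localization.Away (Polynomial.X : R₁[X]))
  have hinj : Function.Injective φ₂ :=
    IsLocalization.injective _ (Submonoid.powers_le.mpr (Polynomial.monic_X.mem_nonZeroDivisors))
  let X₀ : Over S := Over.mk (w ≫ X.hom)
  let f₀ : X₀ ⟶ X := Over.homMk w (by simp [X₀])
  let X₁ : Over S := Over.mk (Spec.map (CommRingCat.ofHom φ₁) ≫ w ≫ X.hom)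
  let X₂ : Over S := Over.mk (Spec.map (CommRingCat.ofHom φ₂) ≫ Spec.map (CommRingCat.ofHom φ₁) ≫ w ≫ X.hom)
  let h₂ : X₂ ⟶ X₁ := Over.homMk (Spec.map (CommRingCat.ofHom φ₂)) rfl
  let v₁ : Γ(X₁.left, ⊤) := (Scheme.ΓSpecIso A).inv (Polynomial.X : R₁[X])
  -- the universal case
  have key : F X₁ v₁ = F' X₁ v₁ := by
    have h1 : h₂.left.appTop (F X₁ v₁) = h₂.left.appTop (F' X₁ v₁) := by
      rw [hF, hF']
      have hu : IsUnit (h₂.left.appTop v₁) := by
        have h2 : h₂.left.appTop v₁ = (Scheme.ΓSpecIso L).inv (φ₂ (Polynomial.X : R₁[X])) :=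
          appTop_spec' φ₂ (Polynomial.X : R₁[X])
        rw [h2]
        exact (IsLocalization.Away.algebraMap_isUnit (Polynomial.X : R₁[X])).map _
      obtain ⟨z, hz⟩ := hu
      rw [← hz]
      exact h _ z
    obtain ⟨a, ha⟩ : ∃ a : A, (Scheme.ΓSpecIso A).inv a = F X₁ v₁ :=
      ⟨(Scheme.ΓSpecIso A).hom (F X₁ v₁), by
        change ((Scheme.ΓSpecIso A).hom ≫ (Scheme.ΓSpecIso A).inv) _ = _
        rw [Iso.hom_inv_id]; rfl⟩
    obtain ⟨b, hb⟩ : ∃ b : A, (Scheme.ΓSpecIso A).inv b = F' X₁ v₁ :=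
      ⟨(Scheme.ΓSpecIso A).hom (F' X₁ v₁), by
        change ((Scheme.ΓSpecIso A).hom ≫ (Scheme.ΓSpecIso A).inv) _ = _
        rw [Iso.hom_inv_id]; rfl⟩
    rw [← ha, ← hb] at h1 ⊢
    have e1 : h₂.left.appTop ((Scheme.ΓSpecIso A).inv a) = (Scheme.ΓSpecIso L).inv (φ₂ a) :=
      appTop_spec' φ₂ a
    have e2 : h₂.left.appTop ((Scheme.ΓSpecIso A).inv b) = (Scheme.ΓSpecIso L).inv (φ₂ b) :=
      appTop_spec' φ₂ b
    rw [e1, e2] at h1
    have h3 : φ₂ a = φ₂ b := by
      have := congrArg (Scheme.ΓSpecIso L).hom h1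
      change ((Scheme.ΓSpecIso L).inv ≫ (Scheme.ΓSpecIso L).hom) _ =
        ((Scheme.ΓSpecIso L).inv ≫ (Scheme.ΓSpecIso L).hom) _ at this
      rw [Iso.inv_hom_id] at this
      exact this
    rw [hinj h3]
  -- specialisation
  let x₁ : R₁ := (Scheme.ΓSpecIso R₁).hom (w.appTop x)
  let ev : A →+* R₁ := evalRingHom x₁
  have hev : Spec.map (CommRingCat.ofHom ev) ≫ Spec.map (CommRingCat.ofHom φ₁) = 𝟙 (Spec R₁) := by
    rw [← Spec.map_comp, ← CommRingCat.ofHom_comp]
    have : ev.comp φ₁ = RingHom.id R₁ := by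
      ext a
      change eval x₁ (C a) = a
      exact eval_C
    rw [this]
    exact Spec.map_id _
  let z : X₀ ⟶ X₁ := Over.homMk (Spec.map (CommRingCat.ofHom ev)) (by
    change Spec.map (CommRingCat.ofHom ev) ≫ Spec.map (CommRingCat.ofHom φ₁) ≫ w ≫ X.hom = w ≫ X.hom
    rw [← Category.assoc, hev]; exact Category.id_comp (w ≫ X.hom))
  have hzv : z.left.appTop v₁ = f₀.left.appTop x := by
    refine (appTop_spec' ev (Polynomial.X : R₁[X])).trans ?_
    change (Scheme.ΓSpecIso R₁).inv (eval x₁ Polynomial.X) = w.appTop x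
    rw [eval_X]
    change ((Scheme.ΓSpecIso R₁).hom ≫ (Scheme.ΓSpecIso R₁).inv) _ = _
    rw [Iso.hom_inv_id]; rfl
  refine ⟨X₀, f₀, ?_, hpt, ?_⟩
  · change Flat w
    infer_instance
  · rw [hF, hF', ← hzv, ← hF, ← hF', key]

end K212.Gen2
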