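import Groth.Agent.Red.K212.Gen
import Mathlib.AlgebraicGeometry.Gluing

/-!
# Gluing a morphism defined by a functional relation on points
-/

set_option autoImplicit false
universe u
open CategoryTheory MonoidalCategory CartesianMonoidalCategory MonObj GrpObj AlgebraicGeometry Limits

namespace K212.Glue

variable {S : Scheme.{u}}

/-- A natural functional relation on points which is Zariski-locally total on the source is a morphism. -/
theorem exists_glue {G H : Over S} (R : ∀ X : Over S, (X ⟶ G) → (X ⟶ H) → Prop)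
    (nat : ∀ {X X' : Over S} (f : X' ⟶ X) (g : X ⟶ G) (h : X ⟶ H), R X g h → R X' (f ≫ g) (f ≫ h))
    (func : ∀ {X : Over S} (g : X ⟶ G) (h h' : X ⟶ H), R X g h → R X g h' → h = h')
    (tot : ∀ x : G.left, ∃ (X : Over S) (f : X ⟶ G), IsOpenImmersion f.left ∧ x ∈ Set.range f.left ∧
      ∃ h, R X f h) : ∃ F : G ⟶ H, ∀ (X : Over S) (g : X ⟶ G) (h : X ⟶ H), R X g h → g ≫ F = h := by
  choose X f hf hx h hR using tot
  let 𝒰 : G.left.OpenCover := Scheme.Cover.mkOfCovers G.left (fun x => (X x).left) (fun x => (f x).left)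
    (fun x => ⟨x, hx x⟩) (fun x => hf x)
  have hcompat : ∀ x y : G.left, pullback.fst (f x).left (f y).left ≫ (h x).left =
      pullback.snd (f x).left (f y).left ≫ (h y).left := by
    intro x y
    let Y : Over S := Over.mk (pullback.fst (f x).left (f y).left ≫ (X x).hom)
    let a : Y ⟶ X x := Over.homMk (pullback.fst (f x).left (f y).left) rfl
    let b : Y ⟶ X y := Over.homMk (pullback.snd (f x).left (f y).left) (by
      change _ = pullback.fst (f x).left (f y).left ≫ (X x).hom
      rw [← Over.w (f x), ← Over.w (f y), pullback.condition_assoc])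
    have hab : a ≫ f x = b ≫ f y := by
      apply Over.OverMorphism.ext
      exact pullback.condition
    have h1 := nat a _ _ (hR x)
    have h2 := nat b _ _ (hR y)
    rw [← hab] at h2
    exact congrArg CommaMorphism.left (func _ _ _ h1 h2)
  let F₀ : G.left ⟶ H.left := 𝒰.glueMorphisms (fun x => (h x).left) hcompat
  have hF₀ : ∀ x, (f x).left ≫ F₀ = (h x).left := fun x => 𝒰.ι_glueMorphisms _ hcompat x
  let F : G ⟶ H := Over.homMk F₀ (by
    refine 𝒰.hom_ext _ _ fun x => ?_
    change (f x).left ≫ F₀ ≫ H.hom = (f x).left ≫ G.hom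
    rw [← Category.assoc, hF₀, Over.w, Over.w])
  have hF : ∀ x, f x ≫ F = h x := fun x => Over.OverMorphism.ext (hF₀ x)
  refine ⟨F, fun Z g k hgk => ?_⟩
  refine K212.Gen.eq_of_flat _ _ fun z => ?_
  let u : G.left := g.left z
  let Y : Over S := Over.mk (pullback.fst g.left (f u).left ≫ Z.hom)
  let a : Y ⟶ Z := Over.homMk (pullback.fst g.left (f u).left) rfl
  let b : Y ⟶ X u := Over.homMk (pullback.snd g.left (f u).left) (by
    change _ = pullback.fst g.left (f u).left ≫ Z.hom
    rw [← Over.w g, ← Over.w (f u), pullback.condition_assoc])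
  have hab : a ≫ g = b ≫ f u := by
    apply Over.OverMorphism.ext
    exact pullback.condition
  refine ⟨Y, a, ?_, ?_, ?_⟩
  · change Flat (pullback.fst g.left (f u).left)
    have := hf u
    infer_instance
  · change z ∈ Set.range (pullback.fst g.left (f u).left)
    obtain ⟨y, hy⟩ := hx u
    obtain ⟨w, hw, -⟩ := Scheme.Pullback.exists_preimage_pullback (f := g.left) (g := (f u).left) z y hy.symm
    exact ⟨w, hw⟩
  · have h1 := nat a _ _ hgk
    have h2 := nat b _ _ (hR u)
    rw [← hab] at h2
    rw [← Category.assoc, hab, Category.assoc, hF]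
    exact (func _ _ _ h1 h2).symm

end K212.Glue
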