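import Groth.Agent.MultTori.K965.Decomp
import Mathlib.RingTheory.Valuation.ValuationRing
import Mathlib.RingTheory.LocalRing.Module
import Mathlib.RingTheory.Smooth.Flat

/-!
# Finite étale algebras over a valuation ring `V`, near an element `a` contained in a single prime

`B` finite étale over `V`, `a ∈ V` nonzero and contained in no prime but the maximal ideal.  For a maximal ideal `q`
of `B`, every divisor `b` of a power of `a` is, at `q`, a unit multiple of an element of `V` (`exists_val`); for a
divisor `c ∈ V` of a power of `a` there is a divisor `x` of a power of `a` which at `q` is a unit multiple of `c` and is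
a unit at the other maximal ideals, and which is fixed by the stabiliser of `q` (`exists_rep`).
-/

set_option autoImplicit false
universe u
open TensorProduct

namespace Groth.Agent.Red.K212.HensVal

open K965.Gal K965.Unif K965.Pts K965.Decomp

variable {V B : Type u} [CommRing V] [IsDomain V] [ValuationRing V] [CommRing B] [Algebra V B]

/-- a finite family of elements of a valuation ring has a member dividing all the others -/
lemma exists_min {ι : Type*} [Finite ι] [Nonempty ι] (v : ι → V) : ∃ j, ∀ i, v j ∣ v i := by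
  classical
  cases nonempty_fintype ι
  have key : ∀ s : Finset ι, s.Nonempty → ∃ j ∈ s, ∀ i ∈ s, v j ∣ v i := by
    intro s hs
    induction hs using Finset.Nonempty.cons_induction with
    | singleton a => exact ⟨a, by simp, by simp⟩
    | cons a s ha hs ih =>
      obtain ⟨j, hj, h⟩ := ih
      rcases ValuationRing.dvd_total (v a) (v j) with h1 | h1
      · refine ⟨a, by simp, ?_⟩
        intro i hi
        rcases Finset.mem_cons.1 hi with rfl | hi
        · exact dvd_rfl
        · exact h1.trans (h i hi)
      · refine ⟨j, by simp [hj], ?_⟩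
        intro i hi
        rcases Finset.mem_cons.1 hi with rfl | hi
        · exact h1
        · exact h i hi
  obtain ⟨j, -, h⟩ := key Finset.univ Finset.univ_nonempty
  exact ⟨j, fun i => h i (Finset.mem_univ i)⟩

/-- the content of an element of a finite free algebra -/
lemma exists_content [Module.Finite V B] [Module.Free V B] (b : B) (hb : b ≠ 0) :
    ∃ (c : V) (l : B) (f : B →ₗ[V] V), b = algebraMap V B c * l ∧ f l = 1 := by
  classical
  let e := Module.Free.chooseBasis V B
  have hne : Nonempty (Module.Free.ChooseBasisIndex V B) := by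
    by_contra h
    rw [not_nonempty_iff] at h
    apply hb
    rw [← e.sum_repr b]
    simp
  obtain ⟨j, hj⟩ := exists_min (fun i => e.repr b i)
  choose w hw using hj
  have hj0 : e.repr b j ≠ 0 := by
    intro h0
    apply hb
    apply e.repr.injective
    ext i
    have h1 := hw i
    rw [h0, zero_mul] at h1
    rw [h1, map_zero]
    rfl
  have hwj : w j = 1 := by
    have h1 := hw j
    exact (mul_left_cancel₀ hj0 (by rw [mul_one]; exact h1)).symm
  refine ⟨e.repr b j, ∑ i, w i • e i, e.coord j, ?_, ?_⟩
  · rw [← Algebra.smul_def, Finset.smul_sum]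
    conv_lhs => rw [← e.sum_repr b]
    refine Finset.sum_congr rfl fun i _ => ?_
    rw [smul_smul, ← hw i]
  · rw [map_sum, Finset.sum_eq_single j]
    · rw [map_smul, Module.Basis.coord_apply, Module.Basis.repr_self, Finsupp.single_eq_same, hwj]
      simp
    · intro i _ hi
      rw [map_smul, Module.Basis.coord_apply, Module.Basis.repr_self, Finsupp.single_eq_of_ne (Ne.symm hi), smul_zero]
    · intro h
      exact absurd (Finset.mem_univ _) h

omit [IsDomain V] [ValuationRing V] in
/-- an element with a coordinate `1` is not in all maximal ideals -/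
lemma exists_notMem [IsLocalRing V] [Module.Finite V B] [Algebra.Etale V B] (b : B) (f : B →ₗ[V] V) (hf : f b = 1) :
    ∃ q : MaximalSpectrum B, b ∉ q.asIdeal := by
  by_contra hb
  push Not at hb
  let m := IsLocalRing.maximalIdeal V
  let R := (V ⧸ m) ⊗[V] B
  let _ : Field (V ⧸ m) := Ideal.Quotient.field m
  have hred : IsReduced R := Algebra.FormallyUnramified.isReduced_of_field (V ⧸ m) R
  have hart : IsArtinianRing R := IsArtinianRing.of_finite (V ⧸ m) R
  let ρ : B →ₐ[V] R := Algebra.TensorProduct.includeRight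
  have hρ : Function.Surjective ρ := by
    intro z
    induction z using TensorProduct.induction_on with
    | zero => exact ⟨0, map_zero _⟩
    | tmul a b =>
      obtain ⟨a, rfl⟩ := Ideal.Quotient.mk_surjective a
      refine ⟨a • b, ?_⟩
      change (1 : V ⧸ m) ⊗ₜ[V] (a • b) = _
      rw [← TensorProduct.smul_tmul]
      congr 1
      rw [Algebra.smul_def, mul_one]
      rfl
    | add x y hx hy =>
      obtain ⟨x', rfl⟩ := hx
      obtain ⟨y', rfl⟩ := hy
      exact ⟨x' + y', map_add _ _ _⟩
  have h0 : ρ b = 0 := by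
    have h1 : ρ b ∈ (⊥ : Ideal R).jacobson := by
      rw [Ideal.jacobson, Ideal.mem_sInf]
      rintro J ⟨-, hJ⟩
      have hJ' : (J.comap ρ).IsMaximal := Ideal.comap_isMaximal_of_surjective ρ hρ
      exact hb ⟨_, hJ'⟩
    rw [IsArtinianRing.jacobson_eq_radical] at h1
    have h2 : IsNilpotent (ρ b) := h1
    exact h2.eq_zero
  have h3 : (quotTensorEquivQuotSMul B m) ((1 : V ⧸ m) ⊗ₜ[V] b) = Submodule.Quotient.mk b := by
    have := quotTensorEquivQuotSMul_mk_tmul m 1 b
    rwa [one_smul] at this
  have h4 : (1 : V ⧸ m) ⊗ₜ[V] b = 0 := h0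
  rw [h4, map_zero, eq_comm, Submodule.Quotient.mk_eq_zero] at h3
  have h5 : f b ∈ m := by
    refine Submodule.smul_induction_on h3 ?_ ?_
    · intro a ha n _
      rw [map_smul, smul_eq_mul]
      exact m.mul_mem_right _ ha
    · intro x y hx hy
      rw [map_add]
      exact m.add_mem hx hy
  rw [hf] at h5
  exact (IsLocalRing.maximalIdeal.isMaximal V).ne_top ((Ideal.eq_top_iff_one _).2 h5)

section near

set_option linter.unusedSectionVars false

variable [Module.Finite V B] [Algebra.Etale V B] {a : V} (ha0 : a ≠ 0) (ham : a ∈ IsLocalRing.maximalIdeal V)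
  (hap : ∀ P : Ideal V, P.IsPrime → a ∈ P → P = IsLocalRing.maximalIdeal V)

/-- the image of `a` -/
local notation "α" => algebraMap V B a

include hap in
/-- the Jacobson radical is nil modulo the powers of `a` -/
lemma exists_pow (x : B) (hx : ∀ q : MaximalSpectrum B, x ∈ q.asIdeal) (K : ℕ) : ∃ (k : ℕ) (z : B),
    x ^ k = α ^ K * z := by
  have h1 : x ∈ (Ideal.span {α ^ K}).radical := by
    rw [Ideal.radical_eq_sInf, Ideal.mem_sInf]
    rintro P ⟨hP, hPp⟩
    have h2 : α ∈ P := hPp.mem_of_pow_mem K (hP (Ideal.mem_span_singleton_self _))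
    have h3 : P.comap (algebraMap V B) = IsLocalRing.maximalIdeal V := hap _ inferInstance h2
    have h4 : P.IsMaximal := by
      apply Ideal.isMaximal_of_isIntegral_of_isMaximal_comap (R := V) P
      rw [h3]
      infer_instance
    exact hx ⟨P, h4⟩
  obtain ⟨k, hk⟩ := h1
  obtain ⟨z, hz⟩ := Ideal.mem_span_singleton.1 hk
  exact ⟨k, z, hz⟩

include ha0 in
lemma reg (x : B) (n : ℕ) (h : α ^ n * x = 0) : x = 0 := by
  rw [← map_pow, ← Algebra.smul_def] at h
  have h1 := pow_ne_zero n ha0
  have : Module.IsTorsionFree V B := inferInstance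
  exact (smul_eq_zero.1 h).resolve_left h1

include ha0 in
lemma reg' (x y : B) (n : ℕ) (h : α ^ n * x = α ^ n * y) : x = y := by
  rw [← sub_eq_zero]
  apply reg ha0 _ n
  rw [mul_sub, h, sub_self]

lemma algebraMap_mem_of_mem {c : V} (q : MaximalSpectrum B)
    (h : algebraMap V B c ∈ q.asIdeal) : c ∈ IsLocalRing.maximalIdeal V := by
  by_contra hc
  have h1 : IsUnit c := by
    by_contra h2
    exact hc h2
  exact q.isMaximal.ne_top (Ideal.eq_top_of_isUnit_mem _ h (h1.map (algebraMap V B)))

include ha0 ham hap in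
/-- At a maximal ideal `q`, a divisor of a power of `a` is a unit multiple of an element of `V`. -/
theorem exists_val (q : MaximalSpectrum B) (b : B) (hb : ∃ n, b ∣ α ^ n) :
    ∃ (c : V) (n : ℕ) (s t : B), c ∣ a ^ n ∧ s ∉ q.asIdeal ∧ t ∉ q.asIdeal ∧ s * b = t * algebraMap V B c := by
  have hfinM : Finite (MaximalSpectrum B) := finite_maximalSpectrum (A := V)
  have hfree : Module.Free V B := Module.free_of_flat_of_isLocalRing
  obtain ⟨n, y, hy⟩ := hb
  obtain ⟨e, he, he'⟩ := K965.SemiLift.exists_idem q
  have he1 : e ∉ q.asIdeal := by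
    rw [← Ideal.Quotient.eq_zero_iff_mem, he]
    have : Nontrivial (B ⧸ q.asIdeal) := Ideal.Quotient.nontrivial_iff.2 q.isMaximal.ne_top
    exact one_ne_zero
  have he1' : 1 - e ∈ q.asIdeal := by
    rw [← Ideal.Quotient.eq_zero_iff_mem, map_sub, he, map_one, sub_self]
  have he2 : ∀ q' : MaximalSpectrum B, q' ≠ q → e ∈ q'.asIdeal := by
    intro q' h
    rw [← Ideal.Quotient.eq_zero_iff_mem, he' q' h]
  have he2' : ∀ q' : MaximalSpectrum B, q' ≠ q → 1 - e ∉ q'.asIdeal := by
    intro q' h h1
    apply q'.isMaximal.ne_top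
    rw [Ideal.eq_top_iff_one]
    have := q'.asIdeal.add_mem h1 (he2 q' h)
    simpa using this
  obtain ⟨k, z, hk⟩ := exists_pow hap (e * (1 - e)) (fun q' => by
    by_cases h : q' = q
    · subst h; exact Ideal.mul_mem_left _ _ he1'
    · exact Ideal.mul_mem_right _ _ (he2 q' h)) (n + 1)
  have hqp : q.asIdeal.IsPrime := q.isMaximal.isPrime
  have hek : e ^ k ∉ q.asIdeal := fun h => he1 (hqp.mem_of_pow_mem _ h)
  have hne : e ^ k * b ≠ 0 := by
    intro h0
    apply hek
    have h1 : α ^ n * e ^ k = 0 := by
      rw [hy]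
      linear_combination y * h0
    rw [reg ha0 _ n h1]
    exact Ideal.zero_mem _
  obtain ⟨c, l, f, hcl, hf⟩ := exists_content (V := V) _ hne
  -- `c` divides `a ^ (n + 1)`
  have hαq : α ∈ q.asIdeal := mem_of_local a ham q
  have hnd : ¬ a ^ (n + 1) ∣ c := by
    rintro ⟨d, hd⟩
    apply hek
    have h1 : α ^ n * e ^ k = α ^ n * (α * (algebraMap V B d * l * y)) := by
      rw [hd, map_mul, map_pow] at hcl
      calc α ^ n * e ^ k = (e ^ k * b) * y := by rw [hy]; ring
        _ = _ := by rw [hcl]; ring
    rw [reg' ha0 _ _ n h1]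
    exact Ideal.mul_mem_right _ _ hαq
  obtain ⟨d, hd⟩ : c ∣ a ^ (n + 1) := (ValuationRing.dvd_total c (a ^ (n + 1))).resolve_right hnd
  have hdm : d ∈ IsLocalRing.maximalIdeal V := by
    by_contra h
    have h1 : IsUnit d := by
      by_contra h2
      exact h h2
    apply hnd
    rw [hd]
    obtain ⟨u, rfl⟩ := h1
    exact ⟨((u⁻¹ : Vˣ) : V), by rw [mul_assoc, Units.mul_inv, mul_one]⟩
  have hc0 : c ≠ 0 := by
    rintro rfl
    rw [zero_mul] at hd
    exact pow_ne_zero _ ha0 hd
  refine ⟨c, n + 1, e ^ k, l, ⟨d, hd⟩, hek, ?_, by rw [hcl]; ring⟩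
  intro hlq
  obtain ⟨q', hq'⟩ := exists_notMem l f hf
  have hqq : q' ≠ q := fun h => hq' (h ▸ hlq)
  have hqp' : q'.asIdeal.IsPrime := q'.isMaximal.isPrime
  have hs : (1 - e) ^ k * l ∉ q'.asIdeal := by
    intro h
    rcases hqp'.mem_or_mem h with h | h
    · exact he2' q' hqq (hqp'.mem_of_pow_mem _ h)
    · exact hq' h
  apply hs
  have h1 : algebraMap V B c * ((1 - e) ^ k * l) = algebraMap V B c * (algebraMap V B d * (z * b)) := by
    calc algebraMap V B c * ((1 - e) ^ k * l) = (1 - e) ^ k * (e ^ k * b) := by rw [hcl]; ring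
      _ = (e * (1 - e)) ^ k * b := by rw [mul_pow]; ring
      _ = α ^ (n + 1) * z * b := by rw [hk]
      _ = algebraMap V B (a ^ (n + 1)) * z * b := by rw [map_pow]
      _ = _ := by rw [hd, map_mul]; ring
  have h2 : (1 - e) ^ k * l = algebraMap V B d * (z * b) := by
    exact reg' (a := c) hc0 ((1 - e) ^ k * l) (algebraMap V B d * (z * b)) 1 (by rw [pow_one]; exact h1)
  rw [h2]
  exact Ideal.mul_mem_right _ _ (mem_of_local d hdm q')

variable {G : Type} [Group G] [Fintype G] [MulSemiringAction G B] [SMulCommClass G V B]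

include ha0 ham hap in
/-- The element which is `c` at `q` and a unit elsewhere. -/
theorem exists_rep (q : MaximalSpectrum B) (c : V) (hc : ∃ n, c ∣ a ^ n) :
    ∃ x : B, (∃ n, x ∣ α ^ n) ∧ (∃ s t : B, s ∉ q.asIdeal ∧ t ∉ q.asIdeal ∧ s * x = t * algebraMap V B c) ∧
      (∀ q' : MaximalSpectrum B, q' ≠ q → x ∉ q'.asIdeal) ∧ ∀ g : G, mact g q = q → g • x = x := by
  classical
  have hfinM : Finite (MaximalSpectrum B) := finite_maximalSpectrum (A := V)
  have hone : ∀ q : MaximalSpectrum B, (1 : B) ∉ q.asIdeal := fun q h =>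
    q.isMaximal.ne_top ((Ideal.eq_top_iff_one _).2 h)
  by_cases hcu : IsUnit c
  · refine ⟨1, ⟨0, by simp⟩, ⟨algebraMap V B c, 1, ?_, hone q, by ring⟩, fun q' _ => hone q', fun g _ => smul_one g⟩
    intro h
    exact q.isMaximal.ne_top (Ideal.eq_top_of_isUnit_mem _ h (hcu.map (algebraMap V B)))
  have hcm : c ∈ IsLocalRing.maximalIdeal V := hcu
  have hqp : ∀ q : MaximalSpectrum B, q.asIdeal.IsPrime := fun q => q.isMaximal.isPrime
  obtain ⟨n, d, hd⟩ := hc
  obtain ⟨e, he, he'⟩ := K965.SemiLift.exists_idem q
  have he1' : 1 - e ∈ q.asIdeal := by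
    rw [← Ideal.Quotient.eq_zero_iff_mem, map_sub, he, map_one, sub_self]
  have he1 : e ∉ q.asIdeal := by
    intro h
    apply hone q
    have := q.asIdeal.add_mem he1' h
    simpa using this
  have he2 : ∀ q' : MaximalSpectrum B, q' ≠ q → e ∈ q'.asIdeal := by
    intro q' h
    rw [← Ideal.Quotient.eq_zero_iff_mem, he' q' h]
  have he2' : ∀ q' : MaximalSpectrum B, q' ≠ q → 1 - e ∉ q'.asIdeal := by
    intro q' h h1
    apply hone q'
    have := q'.asIdeal.add_mem h1 (he2 q' h)
    simpa using this
  -- the invariant element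
  let D : Subgroup G :=
    { carrier := {g | mact g q = q}
      mul_mem' := fun {g h} hg hh => by
        change mact (g * h) q = q
        rw [mact_mul, hh, hg]
      one_mem' := mact_one q
      inv_mem' := fun {g} hg => by
        change mact g⁻¹ q = q
        conv_lhs => rw [← (show mact g q = q from hg)]
        rw [← mact_mul, inv_mul_cancel, mact_one] }
  have hD : ∀ g : G, g ∈ D ↔ mact g q = q := fun g => Iff.rfl
  let E : B := ∏ g : D, (g : G) • (1 - e)
  have hEq : E ∈ q.asIdeal := by
    refine Ideal.mem_of_dvd _ ?_ he1'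
    have h2 := Finset.dvd_prod_of_mem (fun g : D => (g : G) • (1 - e)) (Finset.mem_univ (1 : D))
    simpa using h2
  have hEq' : ∀ q' : MaximalSpectrum B, q' ≠ q → E ∉ q'.asIdeal := by
    intro q' h hE
    obtain ⟨g, -, hg⟩ := ((hqp q').prod_mem_iff).1 hE
    have h1 : 1 - e ∈ (mact ((g : G)⁻¹) q').asIdeal := by
      rw [mem_mact, inv_inv]
      exact hg
    refine he2' _ ?_ h1
    intro h2
    apply h
    have h3 := congrArg (mact (g : G)) h2
    rw [← mact_mul, mul_inv_cancel, mact_one] at h3
    rw [h3]
    exact g.2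
  have hEG : ∀ g : G, mact g q = q → g • E = E := by
    intro g hg
    change g • (∏ h : D, (h : G) • (1 - e)) = ∏ h : D, (h : G) • (1 - e)
    rw [Finset.smul_prod']
    refine Fintype.prod_equiv (Equiv.mulLeft (⟨g, hg⟩ : D)) _ _ (fun h => ?_)
    rw [← mul_smul]
    rfl
  obtain ⟨k, z, hk⟩ := exists_pow hap (e * E) (fun q' => by
    by_cases h : q' = q
    · subst h; exact Ideal.mul_mem_left _ _ hEq
    · exact Ideal.mul_mem_right _ _ (he2 q' h)) (n + n)
  have hcq : ∀ q' : MaximalSpectrum B, algebraMap V B c ∈ q'.asIdeal := fun q' => mem_of_local c hcm q'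
  have hek : e ^ k ∉ q.asIdeal := fun h => he1 ((hqp q).mem_of_pow_mem _ h)
  let x : B := algebraMap V B c + E ^ k
  let t : B := e ^ k + algebraMap V B c * (algebraMap V B d * algebraMap V B d * z)
  have htq : t ∉ q.asIdeal := by
    intro h
    apply hek
    have := q.asIdeal.sub_mem h (Ideal.mul_mem_right (algebraMap V B d * algebraMap V B d * z) _ (hcq q))
    simpa [t] using this
  have hxt : e ^ k * x = t * algebraMap V B c := by
    have h1 : e ^ k * E ^ k = algebraMap V B c * algebraMap V B d * (algebraMap V B c * algebraMap V B d) * z := by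
      rw [← mul_pow, hk, pow_add, ← map_pow, hd, map_mul]
    calc e ^ k * x = e ^ k * algebraMap V B c + e ^ k * E ^ k := by simp only [x]; ring
      _ = _ := by rw [h1]; simp only [t]; ring
  have hxq' : ∀ q' : MaximalSpectrum B, q' ≠ q → x ∉ q'.asIdeal := by
    intro q' h hx
    apply hEq' q' h
    have := q'.asIdeal.sub_mem hx (hcq q')
    refine (hqp q').mem_of_pow_mem k ?_
    simpa [x] using this
  refine ⟨x, ⟨n, ?_⟩, ⟨e ^ k, t, hek, htq, hxt⟩, hxq', ?_⟩
  · -- `x ∣ c`
    have h1 : x ∣ algebraMap V B c := by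
      let I : Ideal B :=
        { carrier := {b | x ∣ b * algebraMap V B c}
          add_mem' := fun {b b'} hb hb' => by
            change x ∣ (b + b') * _
            rw [add_mul]
            exact dvd_add hb hb'
          zero_mem' := by
            change x ∣ 0 * _
            rw [zero_mul]
            exact dvd_zero _
          smul_mem' := fun r b hb => by
            change x ∣ (r * b) * _
            rw [mul_assoc]
            exact Dvd.dvd.mul_left hb r }
      have hI : I = ⊤ := by
        by_contra hI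
        obtain ⟨M, hM, hle⟩ := Ideal.exists_le_maximal I hI
        by_cases h : (⟨M, hM⟩ : MaximalSpectrum B) = q
        · apply htq
          rw [← h]
          exact hle (show x ∣ t * algebraMap V B c from ⟨e ^ k, by rw [← hxt]; ring⟩)
        · apply hxq' _ h
          exact hle (show x ∣ x * algebraMap V B c from ⟨_, rfl⟩)
      have h2 : (1 : B) ∈ I := hI ▸ Submodule.mem_top
      have h3 : x ∣ 1 * algebraMap V B c := h2
      rwa [one_mul] at h3
    refine h1.trans ⟨algebraMap V B d, ?_⟩
    rw [← map_pow, hd, map_mul]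
  · intro g hg
    simp only [x, smul_add, smul_pow', hEG g hg]
    congr 1
    exact smul_algebraMap g c

end near

end Groth.Agent.Red.K212.HensVal
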