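import Groth.Agent.Red.K212.HensGrp
import Groth.Agent.Red.K212.HensVal
import Mathlib.RingTheory.Invariant.Basic

/-!
# Decomposition of equivariant characters over a valuation ring

`exists_char_decomp`: `V` a valuation ring, `a` contained in no prime but the maximal ideal, `B` Galois over `V` with
group `G`, `Ah` a local faithfully flat `V`-algebra in which `V` is `a`-adically dense, `K = V[1/a]`, `Kh = Ah[1/a]`:
a `G`-equivariant character `M → (Kh ⊗ B)ˣ` is the sum of one with values in `(K ⊗ B)ˣ` and one with values in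
`(Ah ⊗ B)ˣ`.
-/

set_option autoImplicit false
universe u
open TensorProduct

namespace Groth.Agent.Red.K212.HensApp

open K965.Gal K965.Unif K965.Pts K965.Decomp HensVal

section general

variable {A B : Type u} [CommRing A] [CommRing B] [Algebra A B]

/-- the action on the maximal ideals -/
instance mactAction {G : Type} [Group G] [MulSemiringAction G B] : MulAction G (MaximalSpectrum B) where
  smul := mact
  one_smul := mact_one
  mul_smul := mact_mul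

lemma smul_def' {G : Type} [Group G] [MulSemiringAction G B] (g : G) (q : MaximalSpectrum B) : g • q = mact g q := rfl

/-- transitivity -/
theorem exists_mact_eq [IsLocalRing A] {G : Type} [Group G] [Fintype G] [MulSemiringAction G B] [SMulCommClass G A B]
    (hG : IsGal A B G) (q q' : MaximalSpectrum B) : ∃ g : G, mact g q = q' := by
  have hfin := hG.fin
  have hinv : Algebra.IsInvariant A B G := ⟨fun b hb => hG.inv b hb⟩
  have h1 : ∀ q : MaximalSpectrum B, q.asIdeal.under A = IsLocalRing.maximalIdeal A := by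
    intro q
    have h3 : (q.asIdeal.comap (algebraMap A B)).IsMaximal := Ideal.isMaximal_comap_of_isIntegral_of_isMaximal _
    exact IsLocalRing.eq_maximalIdeal h3
  have hp := q.isMaximal.isPrime
  have hp' := q'.isMaximal.isPrime
  obtain ⟨g, hg⟩ := Algebra.IsInvariant.exists_smul_of_under_eq A B G q.asIdeal q'.asIdeal (by rw [h1, h1])
  refine ⟨g, MaximalSpectrum.ext ?_⟩
  rw [hg]
  ext x
  rw [mem_mact, Ideal.mem_pointwise_smul_iff_inv_smul_mem]

variable {a : A}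

lemma tmul_mul (R : Type u) [CommRing R] [Algebra A R] (b b' : B) :
    (1 : R) ⊗ₜ[A] (b * b') = (1 ⊗ₜ b) * (1 ⊗ₜ b') := by
  rw [Algebra.TensorProduct.tmul_mul_tmul, one_mul]

/-- denominators -/
lemma exists_denom {Ah Kh : Type u} [CommRing Ah] [Algebra A Ah] [CommRing Kh] [Algebra A Kh] (i : Ah →ₐ[A] Kh)
    (hden : ∀ x : Kh, ∃ (n : ℕ) (y : Ah), algebraMap A Kh a ^ n * x = i y) (z : Kh ⊗[A] B) :
    ∃ (n : ℕ) (y : Ah ⊗[A] B), (1 ⊗ₜ (algebraMap A B a ^ n)) * z = bm B i y := by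
  induction z using TensorProduct.induction_on with
  | zero => exact ⟨0, 0, by simp⟩
  | tmul x c =>
    obtain ⟨n, y, hy⟩ := hden x
    refine ⟨n, y ⊗ₜ c, ?_⟩
    rw [Algebra.TensorProduct.map_tmul, ← hy, Algebra.TensorProduct.tmul_mul_tmul, one_mul]
    rw [← map_pow, ← map_pow, ← Algebra.smul_def, ← Algebra.smul_def, TensorProduct.smul_tmul]
    rfl
  | add x x' hx hx' =>
    obtain ⟨n, y, hy⟩ := hx
    obtain ⟨n', y', hy'⟩ := hx'
    have hp : ∀ m : ℕ, bm B i (1 ⊗ₜ (algebraMap A B a ^ m)) = 1 ⊗ₜ (algebraMap A B a ^ m) := by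
      intro m
      simp
    refine ⟨n + n', (1 ⊗ₜ (algebraMap A B a ^ n')) * y + (1 ⊗ₜ (algebraMap A B a ^ n)) * y', ?_⟩
    have h1 : (1 : Kh) ⊗ₜ[A] (algebraMap A B a ^ (n + n')) =
        (1 ⊗ₜ (algebraMap A B a ^ n)) * (1 ⊗ₜ (algebraMap A B a ^ n')) := by
      rw [Algebra.TensorProduct.tmul_mul_tmul, one_mul, pow_add]
    rw [map_add, map_mul, map_mul, ← hy, ← hy', hp, hp, h1]
    ring

lemma exists_approx {Ah : Type u} [CommRing Ah] [Algebra A Ah]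
    (hdense : ∀ (x : Ah) (n : ℕ), ∃ (v : A) (y : Ah), x = algebraMap A Ah v + algebraMap A Ah a ^ n * y)
    (z : Ah ⊗[A] B) (n : ℕ) : ∃ (b : B) (y : Ah ⊗[A] B), z = 1 ⊗ₜ b + (1 ⊗ₜ (algebraMap A B a ^ n)) * y := by
  induction z using TensorProduct.induction_on with
  | zero => exact ⟨0, 0, by simp⟩
  | tmul x c =>
    obtain ⟨v, y, rfl⟩ := hdense x n
    refine ⟨v • c, y ⊗ₜ c, ?_⟩
    rw [TensorProduct.add_tmul, Algebra.TensorProduct.tmul_mul_tmul, ← TensorProduct.smul_tmul, one_mul,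
      ← Algebra.algebraMap_eq_smul_one]
    congr 1
    rw [← map_pow, ← map_pow, ← Algebra.smul_def, ← Algebra.smul_def, TensorProduct.smul_tmul]
  | add x y hx hy =>
    obtain ⟨b, y', rfl⟩ := hx
    obtain ⟨b', y'', rfl⟩ := hy
    exact ⟨b + b', y' + y'', by rw [TensorProduct.tmul_add]; ring⟩

lemma bm_one_tmul {R R' : Type u} [CommRing R] [Algebra A R] [CommRing R'] [Algebra A R'] (i : R →ₐ[A] R') (b : B) :
    bm B i (1 ⊗ₜ b) = 1 ⊗ₜ b := by simp

lemma bm_ofId {K : Type u} [CommRing K] [Algebra A K] (y : A ⊗[A] B) :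
    bm B (Algebra.ofId A K) y = 1 ⊗ₜ (TensorProduct.lid A B y) := by
  induction y using TensorProduct.induction_on with
  | zero => simp
  | tmul r b =>
    rw [Algebra.TensorProduct.map_tmul, TensorProduct.lid_tmul, ← TensorProduct.smul_tmul]
    congr 1
    rw [Algebra.ofId_apply, Algebra.algebraMap_eq_smul_one]
  | add x y hx hy => rw [map_add, map_add, TensorProduct.tmul_add, hx, hy]

/-- denominators over the base -/
lemma exists_denom_base {K : Type u} [CommRing K] [Algebra A K]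
    (hden : ∀ x : K, ∃ (n : ℕ) (y : A), algebraMap A K a ^ n * x = algebraMap A K y) (z : K ⊗[A] B) :
    ∃ (n : ℕ) (b : B), (1 ⊗ₜ (algebraMap A B a ^ n)) * z = 1 ⊗ₜ b := by
  obtain ⟨n, y, hy⟩ := exists_denom (a := a) (Algebra.ofId A K) hden z
  exact ⟨n, TensorProduct.lid A B y, by rw [hy, bm_ofId]⟩

/-- The elements which are units at `q`. -/
def U (K : Type u) [CommRing K] [Algebra A K] (q : MaximalSpectrum B) : AddSubgroup (Additive (K ⊗[A] B)ˣ) where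
  carrier := {e | ∃ s t : B, s ∉ q.asIdeal ∧ t ∉ q.asIdeal ∧
    ((1 : K) ⊗ₜ[A] s) * ((e.toMul : (K ⊗[A] B)ˣ) : K ⊗[A] B) = 1 ⊗ₜ t}
  add_mem' := by
    rintro e e' ⟨s, t, hs, ht, h⟩ ⟨s', t', hs', ht', h'⟩
    have hp := q.isMaximal.isPrime
    refine ⟨s * s', t * t', ?_, ?_, ?_⟩
    · intro h0
      rcases hp.mem_or_mem h0 with h0 | h0
      · exact hs h0
      · exact hs' h0
    · intro h0
      rcases hp.mem_or_mem h0 with h0 | h0
      · exact ht h0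
      · exact ht' h0
    · rw [tmul_mul, tmul_mul, ← h, ← h', toMul_add, Units.val_mul]
      ring
  zero_mem' := ⟨1, 1, fun h => q.isMaximal.ne_top ((Ideal.eq_top_iff_one _).2 h),
    fun h => q.isMaximal.ne_top ((Ideal.eq_top_iff_one _).2 h), by rw [toMul_zero, Units.val_one, mul_one]⟩
  neg_mem' := by
    rintro e ⟨s, t, hs, ht, h⟩
    refine ⟨t, s, ht, hs, ?_⟩
    rw [← h, mul_assoc, ← Units.val_mul, ← toMul_add, add_neg_cancel, toMul_zero, Units.val_one, mul_one]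

lemma inr_injective' {K : Type u} [CommRing K] [Algebra A K] [Module.Flat A B]
    (hK : Function.Injective (algebraMap A K)) (b b' : B) (h : (1 : K) ⊗ₜ[A] b = 1 ⊗ₜ b') : b = b' := by
  have h1 := bm_injective (B := B) (Algebra.ofId A K) (fun x y hxy => hK hxy)
  have h2 := h1 (a₁ := 1 ⊗ₜ b) (a₂ := 1 ⊗ₜ b') (by rw [bm_one_tmul, bm_one_tmul, h])
  have h3 := congrArg (TensorProduct.lid A B) h2
  simpa using h3

/-- an element of `K ⊗ B` which is in the image of `B` locally at every maximal ideal is in the image of `B` -/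
lemma exists_of_local {K : Type u} [CommRing K] [Algebra A K] (z : K ⊗[A] B)
    (h : ∀ q : MaximalSpectrum B, ∃ s t : B, s ∉ q.asIdeal ∧ ((1 : K) ⊗ₜ[A] s) * z = 1 ⊗ₜ t) :
    ∃ b : B, z = 1 ⊗ₜ b := by
  let I : Ideal B :=
    { carrier := {s | ∃ t : B, ((1 : K) ⊗ₜ[A] s) * z = 1 ⊗ₜ t}
      add_mem' := by
        rintro s s' ⟨t, ht⟩ ⟨t', ht'⟩
        exact ⟨t + t', by rw [TensorProduct.tmul_add, TensorProduct.tmul_add, add_mul, ht, ht']⟩
      zero_mem' := ⟨0, by simp⟩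
      smul_mem' := by
        rintro r s ⟨t, ht⟩
        exact ⟨r * t, by rw [smul_eq_mul, tmul_mul, mul_assoc, ht, tmul_mul]⟩ }
  have hI : I = ⊤ := by
    by_contra hI
    obtain ⟨M, hM, hle⟩ := Ideal.exists_le_maximal I hI
    obtain ⟨s, t, hs, hst⟩ := h ⟨M, hM⟩
    exact hs (hle ⟨t, hst⟩)
  obtain ⟨t, ht⟩ : (1 : B) ∈ I := hI ▸ Submodule.mem_top
  refine ⟨t, ?_⟩
  rw [← ht]
  exact (one_mul z).symm

lemma act_one_tmul {G : Type} [Group G] [MulSemiringAction G B] [SMulCommClass G A B] (K : Type u) [CommRing K]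
    [Algebra A K] (g : G) (b : B) : act A B K g (1 ⊗ₜ b) = 1 ⊗ₜ (g • b) := act_tmul g 1 b

lemma act_mem_U {G : Type} [Group G] [MulSemiringAction G B] [SMulCommClass G A B] (K : Type u) [CommRing K]
    [Algebra A K] (g : G) (q : MaximalSpectrum B) (e : Additive (K ⊗[A] B)ˣ) (he : e ∈ U K q) :
    um (act A B K g : K ⊗[A] B →+* K ⊗[A] B) e ∈ U K (g • q) := by
  obtain ⟨s, t, hs, ht, h⟩ := he
  refine ⟨g • s, g • t, ?_, ?_, ?_⟩
  · rw [smul_def', mem_mact, inv_smul_smul]; exact hs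
  · rw [smul_def', mem_mact, inv_smul_smul]; exact ht
  · rw [val_um, ← act_one_tmul, ← act_one_tmul, ← h]
    exact (map_mul (act A B K g) _ _).symm

end general

section main

variable {V B : Type u} [CommRing V] [IsDomain V] [ValuationRing V] [CommRing B] [Algebra V B]
  [Module.Finite V B] [Algebra.Etale V B] {a : V} (ha0 : a ≠ 0) (ham : a ∈ IsLocalRing.maximalIdeal V)
  (hap : ∀ P : Ideal V, P.IsPrime → a ∈ P → P = IsLocalRing.maximalIdeal V)
  {G : Type} [Group G] [Fintype G] [MulSemiringAction G B] [SMulCommClass G V B]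
  {Ah Kh K : Type u} [CommRing Ah] [IsLocalRing Ah] [Algebra V Ah] [Module.FaithfullyFlat V Ah] [CommRing Kh]
  [Algebra V Kh] [CommRing K] [Algebra V K]
  (i : Ah →ₐ[V] Kh) (j : K →ₐ[V] Kh) (hi : Function.Injective i)
  (hah : algebraMap V Ah a ∈ IsLocalRing.maximalIdeal Ah)
  (hdense : ∀ (x : Ah) (n : ℕ), ∃ (v : V) (y : Ah), x = algebraMap V Ah v + algebraMap V Ah a ^ n * y)
  (hden : ∀ x : Kh, ∃ (n : ℕ) (y : Ah), algebraMap V Kh a ^ n * x = i y)
  (hK : IsUnit (algebraMap V K a)) (hKi : Function.Injective (algebraMap V K))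
  (hdenK : ∀ x : K, ∃ (n : ℕ) (y : V), algebraMap V K a ^ n * x = algebraMap V K y)

set_option linter.unusedSectionVars false

/-- the image of `a` -/
local notation "α" => algebraMap V B a

include hK in
/-- units from divisors of powers of `a` -/
lemma exists_unit (b : B) (hb : ∃ n, b ∣ α ^ n) :
    ∃ u : Additive (K ⊗[V] B)ˣ, ((u.toMul : (K ⊗[V] B)ˣ) : K ⊗[V] B) = 1 ⊗ₜ b := by
  obtain ⟨u, hu⟩ := isUnit_tmul K hK b hb
  exact ⟨Additive.ofMul u, hu⟩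

include hK hKi hdenK in
/-- a unit of `K ⊗ B` is the quotient of two divisors of powers of `a` -/
lemma exists_eq_sub (e : Additive (K ⊗[V] B)ˣ) : ∃ (n : ℕ) (b : B) (u v : Additive (K ⊗[V] B)ˣ),
    (∃ m, b ∣ α ^ m) ∧ ((u.toMul : (K ⊗[V] B)ˣ) : K ⊗[V] B) = 1 ⊗ₜ b ∧
      ((v.toMul : (K ⊗[V] B)ˣ) : K ⊗[V] B) = 1 ⊗ₜ (α ^ n) ∧ e = u - v := by
  obtain ⟨n, b, hb⟩ := exists_denom_base hdenK ((e.toMul : (K ⊗[V] B)ˣ) : K ⊗[V] B)
  obtain ⟨n', b', hb'⟩ := exists_denom_base hdenK (((-e).toMul : (K ⊗[V] B)ˣ) : K ⊗[V] B)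
  have hbb : b * b' = α ^ (n + n') := by
    apply inr_injective' hKi
    rw [tmul_mul, ← hb, ← hb', pow_add, tmul_mul]
    have h1 : ((e.toMul : (K ⊗[V] B)ˣ) : K ⊗[V] B) * (((-e).toMul : (K ⊗[V] B)ˣ) : K ⊗[V] B) = 1 := by
      rw [← Units.val_mul, ← toMul_add, add_neg_cancel, toMul_zero, Units.val_one]
    linear_combination (((1 : K) ⊗ₜ[V] (α ^ n)) * ((1 : K) ⊗ₜ[V] (α ^ n'))) * h1
  have hbd : ∃ m, b ∣ α ^ m := ⟨n + n', b', hbb.symm⟩
  obtain ⟨u, hu⟩ := exists_unit hK b hbd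
  obtain ⟨v, hv⟩ := exists_unit hK (α ^ n) ⟨n, dvd_rfl⟩
  refine ⟨n, b, u, v, hbd, hu, hv, ?_⟩
  rw [eq_sub_iff_add_eq]
  apply addUnits_ext
  rw [toMul_add, Units.val_mul, hv, hu, ← hb]
  ring

include ha0 ham hap hK hKi hdenK in
/-- At `q`, a unit of `K ⊗ B` is up to sign an element of `V`. -/
lemma exists_star (q : MaximalSpectrum B) (e : Additive (K ⊗[V] B)ˣ) : ∃ (d : V) (u : Additive (K ⊗[V] B)ˣ),
    (∃ n, d ∣ a ^ n) ∧ ((u.toMul : (K ⊗[V] B)ˣ) : K ⊗[V] B) = 1 ⊗ₜ (algebraMap V B d) ∧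
      (e - u ∈ U K q ∨ e + u ∈ U K q) := by
  obtain ⟨n, b, u, v, hb, hu, hv, he⟩ := exists_eq_sub hK hKi hdenK e
  obtain ⟨c, m, s, t, hc, hs, ht, hst⟩ := exists_val ha0 ham hap q b hb
  have hdiv : ∀ d : V, (∃ n, d ∣ a ^ n) → ∃ n, algebraMap V B d ∣ α ^ n := by
    rintro d ⟨n, x, hx⟩
    exact ⟨n, algebraMap V B x, by rw [← map_pow, hx, map_mul]⟩
  obtain ⟨w, hw⟩ := exists_unit (B := B) hK (algebraMap V B c) (hdiv c ⟨m, hc⟩)
  have huw : u - w ∈ U K q := by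
    refine ⟨s, t, hs, ht, ?_⟩
    have h1 : ((w.toMul : (K ⊗[V] B)ˣ) : K ⊗[V] B) * (((u - w).toMul : (K ⊗[V] B)ˣ) : K ⊗[V] B) =
        ((u.toMul : (K ⊗[V] B)ˣ) : K ⊗[V] B) := by
      rw [← Units.val_mul, ← toMul_add, add_sub_cancel]
    rw [hw, hu] at h1
    have h2 : IsUnit ((1 : K) ⊗ₜ[V] (algebraMap V B c)) := by rw [← hw]; exact Units.isUnit _
    apply h2.mul_left_cancel
    calc _ = ((1 : K) ⊗ₜ[V] s) * (((1 : K) ⊗ₜ[V] (algebraMap V B c)) *
          (((u - w).toMul : (K ⊗[V] B)ˣ) : K ⊗[V] B)) := by ring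
      _ = (1 : K) ⊗ₜ[V] (s * b) := by rw [h1, tmul_mul]
      _ = _ := by rw [hst, tmul_mul]; ring
  rcases ValuationRing.dvd_total c (a ^ n) with ⟨d, hd⟩ | ⟨d, hd⟩
  · obtain ⟨x, hx⟩ := exists_unit (B := B) hK (algebraMap V B d) (hdiv d ⟨n, c, by rw [hd]; ring⟩)
    refine ⟨d, x, ⟨n, c, by rw [hd]; ring⟩, hx, Or.inr ?_⟩
    have h1 : v = w + x := by
      apply addUnits_ext
      rw [toMul_add, Units.val_mul, hv, hw, hx, ← tmul_mul, ← map_mul, ← hd, map_pow]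
    have h2 : e + x = u - w := by rw [he, h1]; abel
    rw [h2]
    exact huw
  · obtain ⟨y, hy⟩ := hc
    have hdd : ∃ n, d ∣ a ^ n := ⟨m, a ^ n * y, by rw [hy, hd]; ring⟩
    obtain ⟨x, hx⟩ := exists_unit (B := B) hK (algebraMap V B d) (hdiv d hdd)
    refine ⟨d, x, hdd, hx, Or.inl ?_⟩
    have h1 : w = v + x := by
      apply addUnits_ext
      rw [toMul_add, Units.val_mul, hv, hw, hx, hd, map_mul, map_pow, tmul_mul]
    have h2 : e - x = u - w := by rw [he, h1]; abel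
    rw [h2]
    exact huw

include ha0 ham hap hK hKi hdenK in
lemma torsion_free (q : MaximalSpectrum B) (k : ℕ) (e : Additive (K ⊗[V] B)ˣ) (hk : k ≠ 0) (he : k • e ∈ U K q) :
    e ∈ U K q := by
  obtain ⟨d, u, hd, hu, h⟩ := exists_star ha0 ham hap hK hKi hdenK q e
  have hq := q.isMaximal.isPrime
  have hku : k • u ∈ U K q := by
    rcases h with h | h
    · have h1 := (U K q).sub_mem he ((U K q).nsmul_mem h k)
      have h2 : k • e - k • (e - u) = k • u := by rw [nsmul_sub, sub_sub_cancel]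
      rwa [h2] at h1
    · have h1 := (U K q).sub_mem ((U K q).nsmul_mem h k) he
      have h2 : k • (e + u) - k • e = k • u := by rw [nsmul_add, add_sub_cancel_left]
      rwa [h2] at h1
  obtain ⟨s, t, hs, ht, hst⟩ := hku
  have h1 : (((k • u).toMul : (K ⊗[V] B)ˣ) : K ⊗[V] B) = 1 ⊗ₜ (algebraMap V B d ^ k) := by
    rw [toMul_nsmul, Units.val_pow_eq_pow_val, hu, Algebra.TensorProduct.tmul_pow, one_pow]
  rw [h1, ← tmul_mul] at hst
  have h2 := inr_injective' hKi _ _ hst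
  have h3 : algebraMap V B d ∉ q.asIdeal := by
    intro h4
    apply ht
    rw [← h2]
    exact Ideal.mul_mem_left _ _ (Ideal.pow_mem_of_mem _ h4 _ (Nat.pos_of_ne_zero hk))
  have hone : (1 : B) ∉ q.asIdeal := fun h => q.isMaximal.ne_top ((Ideal.eq_top_iff_one _).2 h)
  have h4 : u ∈ U K q := ⟨1, algebraMap V B d, hone, h3, by rw [hu]; exact one_mul _⟩
  rcases h with h | h
  · have h5 := (U K q).add_mem h h4
    rwa [sub_add_cancel] at h5
  · have h5 := (U K q).sub_mem h h4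
    rwa [add_sub_cancel_right] at h5

include ha0 ham hap hK hKi hdenK in
lemma exists_good (q : MaximalSpectrum B) (e : Additive (K ⊗[V] B)ˣ) : ∃ x : Additive (K ⊗[V] B)ˣ,
    x - e ∈ U K q ∧ (∀ q', q' ≠ q → x ∈ U K q') ∧
      ∀ g : G, g • q = q → um (act V B K g : K ⊗[V] B →+* K ⊗[V] B) x = x := by
  obtain ⟨d, u, hd, hu, h⟩ := exists_star ha0 ham hap hK hKi hdenK q e
  obtain ⟨x, hx1, ⟨s, t, hs, ht, hst⟩, hx3, hx4⟩ := exists_rep (G := G) ha0 ham hap q d hd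
  obtain ⟨w, hw⟩ := exists_unit hK x hx1
  have hone : ∀ q : MaximalSpectrum B, (1 : B) ∉ q.asIdeal := fun q h =>
    q.isMaximal.ne_top ((Ideal.eq_top_iff_one _).2 h)
  have hwu : w - u ∈ U K q := by
    refine ⟨s, t, hs, ht, ?_⟩
    have h1 : ((u.toMul : (K ⊗[V] B)ˣ) : K ⊗[V] B) * (((w - u).toMul : (K ⊗[V] B)ˣ) : K ⊗[V] B) =
        ((w.toMul : (K ⊗[V] B)ˣ) : K ⊗[V] B) := by
      rw [← Units.val_mul, ← toMul_add, add_sub_cancel]
    rw [hu, hw] at h1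
    have h2 : IsUnit ((1 : K) ⊗ₜ[V] (algebraMap V B d)) := by rw [← hu]; exact Units.isUnit _
    apply h2.mul_left_cancel
    calc _ = ((1 : K) ⊗ₜ[V] s) * (((1 : K) ⊗ₜ[V] (algebraMap V B d)) *
          (((w - u).toMul : (K ⊗[V] B)ˣ) : K ⊗[V] B)) := by ring
      _ = (1 : K) ⊗ₜ[V] (s * x) := by rw [h1, tmul_mul]
      _ = _ := by rw [hst, tmul_mul]; ring
  have hwq : ∀ q', q' ≠ q → w ∈ U K q' := fun q' h =>
    ⟨1, x, hone q', hx3 q' h, by rw [hw]; exact one_mul _⟩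
  have hwg : ∀ g : G, g • q = q → um (act V B K g : K ⊗[V] B →+* K ⊗[V] B) w = w := by
    intro g hg
    apply addUnits_ext
    rw [val_um, hw]
    change act V B K g (1 ⊗ₜ x) = _
    rw [act_one_tmul, hx4 g hg]
  rcases h with h | h
  · refine ⟨w, ?_, hwq, hwg⟩
    have h1 := (U K q).sub_mem hwu h
    have h2 : w - u - (e - u) = w - e := by abel
    rwa [h2] at h1
  · refine ⟨-w, ?_, fun q' h => (U K q').neg_mem (hwq q' h), fun g hg => by rw [map_neg, hwg g hg]⟩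
    have h1 := (U K q).neg_mem ((U K q).add_mem hwu h)
    have h2 : -(w - u + (e + u)) = -w - e := by abel
    rwa [h2] at h1

include ha0 hi hKi hK hdenK in
/-- `⋂ U` in terms of `Ah`. -/
lemma mem_range_iff (e : Additive (K ⊗[V] B)ˣ) :
    um (bm B j : K ⊗[V] B →+* Kh ⊗[V] B) e ∈ (um (bm B i : Ah ⊗[V] B →+* Kh ⊗[V] B)).range ↔
      ∀ q : MaximalSpectrum B, e ∈ U K q := by
  constructor
  · rintro ⟨w, hw⟩ q
    have key : ∀ (e : Additive (K ⊗[V] B)ˣ) (w : Additive (Ah ⊗[V] B)ˣ),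
        um (bm B i : Ah ⊗[V] B →+* Kh ⊗[V] B) w = um (bm B j : K ⊗[V] B →+* Kh ⊗[V] B) e →
        ∃ b : B, ((e.toMul : (K ⊗[V] B)ˣ) : K ⊗[V] B) = 1 ⊗ₜ b := by
      intro e w hw
      obtain ⟨n, b, hb⟩ := exists_denom_base hdenK ((e.toMul : (K ⊗[V] B)ˣ) : K ⊗[V] B)
      have h1 := congrArg (fun z : Additive (Kh ⊗[V] B)ˣ => ((z.toMul : (Kh ⊗[V] B)ˣ) : Kh ⊗[V] B)) hw
      rw [val_um, val_um] at h1
      have h2 : (1 : Ah) ⊗ₜ[V] b = (1 ⊗ₜ (α ^ n)) * ((w.toMul : (Ah ⊗[V] B)ˣ) : Ah ⊗[V] B) := by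
        apply bm_injective i hi
        rw [map_mul, bm_one_tmul, bm_one_tmul]
        have h3 := congrArg (bm B j) hb
        rw [map_mul, bm_one_tmul, bm_one_tmul] at h3
        rw [← h3]
        exact congrArg (fun z => ((1 : Kh) ⊗ₜ[V] (α ^ n)) * z) h1.symm
      obtain ⟨b', hb'⟩ := dvd_of_tmul _ _ _ h2
      refine ⟨b', ?_⟩
      have h4 : IsUnit ((1 : K) ⊗ₜ[V] (α ^ n)) := isUnit_tmul K hK (α ^ n) ⟨n, dvd_rfl⟩
      apply h4.mul_left_cancel
      rw [hb, hb', tmul_mul]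
    obtain ⟨b, hb⟩ := key e w hw
    obtain ⟨b', hb'⟩ := key (-e) (-w) (by rw [map_neg, map_neg, hw])
    have hbb : b * b' = 1 := by
      apply inr_injective' hKi
      rw [tmul_mul, ← hb, ← hb', ← Units.val_mul, ← toMul_add, add_neg_cancel, toMul_zero, Units.val_one]
      rfl
    refine ⟨1, b, fun h => q.isMaximal.ne_top ((Ideal.eq_top_iff_one _).2 h), ?_, by rw [hb]; exact one_mul _⟩
    intro h
    exact q.isMaximal.ne_top ((Ideal.eq_top_iff_one _).2 (hbb ▸ Ideal.mul_mem_right _ _ h))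
  · intro h
    obtain ⟨b, hb⟩ := exists_of_local ((e.toMul : (K ⊗[V] B)ˣ) : K ⊗[V] B) (fun q => by
      obtain ⟨s, t, hs, ht, hst⟩ := h q
      exact ⟨s, t, hs, hst⟩)
    obtain ⟨b', hb'⟩ := exists_of_local (((-e).toMul : (K ⊗[V] B)ˣ) : K ⊗[V] B) (fun q => by
      obtain ⟨s, t, hs, ht, hst⟩ := (U K q).neg_mem (h q)
      exact ⟨s, t, hs, hst⟩)
    have hbb : b * b' = 1 := by
      apply inr_injective' hKi
      rw [tmul_mul, ← hb, ← hb', ← Units.val_mul, ← toMul_add, add_neg_cancel, toMul_zero, Units.val_one]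
      rfl
    let u : Bˣ := ⟨b, b', hbb, by rw [mul_comm, hbb]⟩
    refine ⟨um (Algebra.TensorProduct.includeRight : B →ₐ[V] Ah ⊗[V] B) (Additive.ofMul u), ?_⟩
    apply addUnits_ext
    rw [val_um, val_um, val_um, hb]
    change bm B i (1 ⊗ₜ b) = bm B j (1 ⊗ₜ b)
    rw [bm_one_tmul, bm_one_tmul]

include ha0 ham hap hi hah hdense hden hK in
/-- Every unit of `Kh ⊗ B` comes from `K ⊗ B` up to a unit of `Ah ⊗ B`. -/
lemma exists_mod (f : Additive (Kh ⊗[V] B)ˣ) : ∃ e : Additive (K ⊗[V] B)ˣ,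
    f - um (bm B j : K ⊗[V] B →+* Kh ⊗[V] B) e ∈ (um (bm B i : Ah ⊗[V] B →+* Kh ⊗[V] B)).range := by
  obtain ⟨n, x, hx⟩ := exists_denom (a := a) i hden ((f.toMul : (Kh ⊗[V] B)ˣ) : Kh ⊗[V] B)
  obtain ⟨m, y, hy⟩ := exists_denom (a := a) i hden (((-f).toMul : (Kh ⊗[V] B)ˣ) : Kh ⊗[V] B)
  have hxy : x * y = 1 ⊗ₜ (α ^ (n + m)) := by
    apply bm_injective i hi
    rw [map_mul, ← hx, ← hy, bm_one_tmul, pow_add, tmul_mul]
    have h1 : ((f.toMul : (Kh ⊗[V] B)ˣ) : Kh ⊗[V] B) * (((-f).toMul : (Kh ⊗[V] B)ˣ) : Kh ⊗[V] B) = 1 := by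
      rw [← Units.val_mul, ← toMul_add, add_neg_cancel, toMul_zero, Units.val_one]
    linear_combination (((1 : Kh) ⊗ₜ[V] (α ^ n)) * ((1 : Kh) ⊗ₜ[V] (α ^ m))) * h1
  obtain ⟨b, r, hb⟩ := exists_approx (a := a) hdense x (n + m + 1)
  have hε : IsUnit (1 - algebraMap Ah (Ah ⊗[V] B) (algebraMap V Ah a) * (y * r)) :=
    isUnit_one_sub (A := Ah) (B := Ah ⊗[V] B) (algebraMap V Ah a) hah (y * r)
  have hπ1 : algebraMap Ah (Ah ⊗[V] B) (algebraMap V Ah a) = 1 ⊗ₜ α := by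
    rw [Algebra.TensorProduct.algebraMap_apply, Algebra.algebraMap_self_apply, Algebra.algebraMap_eq_smul_one,
      Algebra.algebraMap_eq_smul_one, TensorProduct.smul_tmul]
  rw [hπ1] at hε
  obtain ⟨ε, hε⟩ := hε
  have hbx : (1 : Ah) ⊗ₜ[V] b = x * ε := by
    rw [hε]
    have h2 : (1 : Ah) ⊗ₜ[V] b = x - (1 ⊗ₜ (α ^ (n + m + 1))) * r := by
      rw [eq_sub_iff_add_eq]
      exact hb.symm
    rw [h2, pow_succ, tmul_mul, ← hxy]
    ring
  have hbdiv : b ∣ α ^ (n + m) := by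
    refine dvd_of_tmul b _ (((ε⁻¹ : (Ah ⊗[V] B)ˣ) : Ah ⊗[V] B) * y) ?_
    rw [hbx, ← hxy]
    have h1 : ((ε : (Ah ⊗[V] B)ˣ) : Ah ⊗[V] B) * ((ε⁻¹ : (Ah ⊗[V] B)ˣ) : Ah ⊗[V] B) = 1 := Units.mul_inv ε
    linear_combination (-(x * y)) * h1
  obtain ⟨ub, hub⟩ := exists_unit hK b ⟨_, hbdiv⟩
  obtain ⟨un, hun⟩ := exists_unit hK (α ^ n) ⟨n, dvd_rfl⟩
  refine ⟨ub - un, -(Additive.ofMul ε), ?_⟩
  rw [map_neg, neg_eq_iff_eq_neg, neg_sub, eq_sub_iff_add_eq, map_sub, eq_sub_iff_add_eq]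
  apply addUnits_ext
  rw [toMul_add, toMul_add, Units.val_mul, Units.val_mul, val_um, val_um, val_um, hub, hun]
  have h1 := congrArg (bm B i) hbx
  rw [map_mul, bm_one_tmul, ← hx] at h1
  change bm B i (ε : Ah ⊗[V] B) * _ * bm B j (1 ⊗ₜ (α ^ n)) = bm B j (1 ⊗ₜ b)
  rw [bm_one_tmul, bm_one_tmul, h1]
  ring

variable {M : Type} [AddCommGroup M] [DistribMulAction G M]

include ha0 ham hap hi hah hdense hden hK hKi hdenK in
theorem exists_char_decomp (hG : IsGal V B G) [Module.Finite ℤ M] (χ : M →+ Additive (Kh ⊗[V] B)ˣ)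
    (hχ : ∀ (g : G) (m : M), χ (g • m) = um (act V B Kh g : Kh ⊗[V] B →+* Kh ⊗[V] B) (χ m)) :
    ∃ (χa : M →+ Additive (Ah ⊗[V] B)ˣ) (χb : M →+ Additive (K ⊗[V] B)ˣ),
      (∀ (g : G) (m : M), χa (g • m) = um (act V B Ah g : Ah ⊗[V] B →+* Ah ⊗[V] B) (χa m)) ∧
      (∀ (g : G) (m : M), χb (g • m) = um (act V B K g : K ⊗[V] B →+* K ⊗[V] B) (χb m)) ∧
      ∀ m, χ m = um (bm B i : Ah ⊗[V] B →+* Kh ⊗[V] B) (χa m) + um (bm B j : K ⊗[V] B →+* Kh ⊗[V] B) (χb m) := by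
  classical
  have hfin : Finite (MaximalSpectrum B) := finite_maximalSpectrum (A := V)
  cases nonempty_fintype (MaximalSpectrum B)
  have hnt : Nontrivial B := by
    have := hG.ff
    exact (FaithfulSMul.algebraMap_injective V B).nontrivial
  obtain ⟨P, hP⟩ := Ideal.exists_maximal B
  have hact : ∀ (R : Type u) [CommRing R] [Algebra V R] (g h : G) (e : Additive (R ⊗[V] B)ˣ),
      um (act V B R (g * h) : R ⊗[V] B →+* R ⊗[V] B) e =
        um (act V B R g : R ⊗[V] B →+* R ⊗[V] B) (um (act V B R h : R ⊗[V] B →+* R ⊗[V] B) e) := by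
    intro R _ _ g h e
    apply addUnits_ext
    rw [val_um, val_um, val_um]
    exact (act_act g h _).symm
  have hact1 : ∀ (R : Type u) [CommRing R] [Algebra V R] (e : Additive (R ⊗[V] B)ˣ),
      um (act V B R (1 : G) : R ⊗[V] B →+* R ⊗[V] B) e = e := by
    intro R _ _ e
    apply addUnits_ext
    rw [val_um]
    exact act_one _
  have hbm : ∀ {R R' : Type u} [CommRing R] [Algebra V R] [CommRing R'] [Algebra V R'] (i : R →ₐ[V] R') (g : G)
      (e : Additive (R ⊗[V] B)ˣ), um (bm B i : R ⊗[V] B →+* R' ⊗[V] B) (um (act V B R g : R ⊗[V] B →+* R ⊗[V] B) e) =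
        um (act V B R' g : R' ⊗[V] B →+* R' ⊗[V] B) (um (bm B i : R ⊗[V] B →+* R' ⊗[V] B) e) := by
    intro R R' _ _ _ _ i g e
    apply addUnits_ext
    rw [val_um, val_um, val_um, val_um]
    exact map_act i g _
  obtain ⟨y, hy1, hy2⟩ := HensGrp.exists_lift (G := G) (X := MaximalSpectrum B)
    (fun g => um (act V B K g : K ⊗[V] B →+* K ⊗[V] B)) (hact1 K) (hact K)
    (fun g => um (act V B Kh g : Kh ⊗[V] B →+* Kh ⊗[V] B))
    (um (bm B j : K ⊗[V] B →+* Kh ⊗[V] B)) (hbm j)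
    (um (bm B i : Ah ⊗[V] B →+* Kh ⊗[V] B)).range
    (by
      rintro g _ ⟨w, rfl⟩
      exact ⟨um (act V B Ah g : Ah ⊗[V] B →+* Ah ⊗[V] B) w, hbm i g w⟩)
    (exists_mod ha0 ham hap i j hi hah hdense hden hK)
    (U K) (act_mem_U K) (mem_range_iff ha0 i j hi hK hKi hdenK) ⟨P, hP⟩ (exists_mact_eq hG _)
    (torsion_free ha0 ham hap hK hKi hdenK _) (exists_good ha0 ham hap hK hKi hdenK _) χ hχ
  have hinj : Function.Injective (um (bm B i : Ah ⊗[V] B →+* Kh ⊗[V] B)) := by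
    intro w w' h
    apply addUnits_ext
    exact bm_injective i hi (congrArg (fun z : Additive (Kh ⊗[V] B)ˣ => ((z.toMul : (Kh ⊗[V] B)ˣ) : Kh ⊗[V] B)) h)
  choose w hw using hy2
  refine ⟨AddMonoidHom.mk' w ?_, y, ?_, hy1, ?_⟩
  · intro m m'
    apply hinj
    rw [map_add, hw, hw, hw, map_add, map_add, map_add]
    abel
  · intro g m
    apply hinj
    change um (bm B i : Ah ⊗[V] B →+* Kh ⊗[V] B) (w (g • m)) = um (bm B i : Ah ⊗[V] B →+* Kh ⊗[V] B)
      (um (act V B Ah g : Ah ⊗[V] B →+* Ah ⊗[V] B) (w m))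
    rw [hw, hbm, hw, hχ, hy1, hbm, map_sub]
  · intro m
    change χ m = um (bm B i : Ah ⊗[V] B →+* Kh ⊗[V] B) (w m) + _
    rw [hw, sub_add_cancel]

end main

end Groth.Agent.Red.K212.HensApp
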