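import Groth.Agent.S0495
import Groth.Agent.Etbase.QuotHens
import Groth.Prelude.Def_Hensel
import Mathlib.RingTheory.Ideal.Height
import Mathlib.RingTheory.Valuation.ValuationRing

/-!
# The henselization modulo an ideal contained in a single prime

* `eq_maximalIdeal`: in a valuation ring of finite dimension an element outside a prime of height one less than the
  dimension is contained in at most one prime, the maximal ideal;
* `exists_approx`: if `a` is contained in a single prime, the local ring is `a`-adically dense in its henselization.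
-/

set_option autoImplicit false
universe u

namespace Groth.Agent.Red.K212.HensDense

open IsLocalRing

theorem eq_maximalIdeal (V : Type u) [CommRing V] [IsDomain V] [ValuationRing V] (n : ℕ) (hn : 0 < n)
    (hV : ringKrullDim V = n) (p : Ideal V) [p.IsPrime] (hp : p.height = n - 1) (a : V) (hap : a ∉ p)
    (P : Ideal V) (hP : P.IsPrime) (haP : a ∈ P) : P = maximalIdeal V := by
  by_contra hne
  have h1 : P < maximalIdeal V := lt_of_le_of_ne (le_maximalIdeal hP.ne_top) hne
  have h2 : p < P := by
    refine lt_of_le_of_ne ?_ (fun h => hap (h ▸ haP))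
    intro x hx
    rcases ValuationRing.dvd_total x a with h | h
    · exact absurd (Ideal.mem_of_dvd _ h hx) hap
    · exact Ideal.mem_of_dvd _ h haP
  have h3 := Ideal.height_add_one_le_of_lt_of_isPrime h1
  have h4 := Ideal.height_add_one_le_of_lt_of_isPrime h2
  have h5 : ((maximalIdeal V).height : WithBot ℕ∞) ≤ ringKrullDim V := Ideal.height_le_ringKrullDim_of_isPrime
  rw [hV] at h5
  have h6 : (maximalIdeal V).height ≤ n := by exact_mod_cast h5
  have h7 : ((n : ℕ∞) - 1) + 1 + 1 ≤ n := by
    rw [← hp]
    exact (add_le_add_left h4 1).trans (h3.trans h6)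
  have h8 : (((n - 1 + 1 + 1 : ℕ)) : ℕ∞) ≤ ((n : ℕ) : ℕ∞) := by
    push_cast
    exact h7
  have h9 : n - 1 + 1 + 1 ≤ n := by exact_mod_cast h8
  omega

section dense

variable {V W : Type u} [CommRing V] [IsLocalRing V] [CommRing W] [IsLocalRing W] [Algebra V W]
  [IsLocalHom (algebraMap V W)] [Hensel.IsHenselization V W] {a : V} (ham : a ∈ maximalIdeal V)
  (hap : ∀ P : Ideal V, P.IsPrime → a ∈ P → P = maximalIdeal V)

include ham hap in
theorem exists_approx (x : W) (n : ℕ) : ∃ (v : V) (y : W), x = algebraMap V W v + algebraMap V W a ^ n * y := by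
  rcases Nat.eq_zero_or_pos n with rfl | hn
  · exact ⟨0, x, by simp⟩
  let I : Ideal V := Ideal.span {a ^ n}
  have hI : I ≤ maximalIdeal V := by
    rw [Ideal.span_singleton_le_iff_mem]
    exact Ideal.pow_mem_of_mem _ ham _ hn
  have hIt : I ≠ ⊤ := fun h => (maximalIdeal.isMaximal V).ne_top (top_le_iff.1 (h ▸ hI))
  have hnt : Nontrivial (V ⧸ I) := Ideal.Quotient.nontrivial_iff.2 hIt
  have hl : IsLocalRing (V ⧸ I) := IsLocalRing.of_surjective' (Ideal.Quotient.mk I) Ideal.Quotient.mk_surjective
  have hdim : ringKrullDim (V ⧸ I) = 0 := by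
    have h0 : Ring.KrullDimLE 0 (V ⧸ I) := by
      rw [Ring.krullDimLE_zero_iff]
      intro J hJ
      have h1 : (J.comap (Ideal.Quotient.mk I)).IsPrime := inferInstance
      have h2 : a ∈ J.comap (Ideal.Quotient.mk I) := by
        apply h1.mem_of_pow_mem n
        change Ideal.Quotient.mk I (a ^ n) ∈ J
        rw [Ideal.Quotient.eq_zero_iff_mem.2 (Ideal.mem_span_singleton_self _)]
        exact J.zero_mem
      have h3 := hap _ h1 h2
      have h4 : (J.comap (Ideal.Quotient.mk I)).IsMaximal := by rw [h3]; infer_instance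
      have h5 := Ideal.map_eq_top_or_isMaximal_of_surjective (Ideal.Quotient.mk I) Ideal.Quotient.mk_surjective h4
      rw [Ideal.map_comap_of_surjective _ Ideal.Quotient.mk_surjective] at h5
      exact h5.resolve_left hJ.ne_top
    have h1 : ringKrullDim (V ⧸ I) ≤ 0 := (Ring.krullDimLE_iff (n := 0)).1 h0
    exact le_antisymm h1 ringKrullDim_nonneg_of_nontrivial
  have hh : HenselianLocalRing (V ⧸ I) := Groth.Agent.S0495.result _ hdim
  have hloc : IsLocalHom (Ideal.Quotient.mk I) := IsLocalHom.of_surjective _ Ideal.Quotient.mk_surjective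
  obtain ⟨g, hg, -⟩ := Hensel.IsHenselization.universal (R := V) (S := W) (V ⧸ I) (Ideal.Quotient.mk I) hloc
  -- the quotient of the henselization
  have hW : HenselianLocalRing W := Hensel.IsHenselization.henselian V
  let J : Ideal W := Ideal.span {algebraMap V W a ^ n}
  have haW : algebraMap V W a ∈ maximalIdeal W := by
    have h1 : IsLocalHom (algebraMap V W) := inferInstance
    intro h2
    exact ham (h1.map_nonunit a h2)
  have hJ : J ≤ maximalIdeal W := by
    rw [Ideal.span_singleton_le_iff_mem]
    exact Ideal.pow_mem_of_mem _ haW _ hn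
  have hJt : J ≠ ⊤ := fun h => (maximalIdeal.isMaximal W).ne_top (top_le_iff.1 (h ▸ hJ))
  have hnt' : Nontrivial (W ⧸ J) := Ideal.Quotient.nontrivial_iff.2 hJt
  have hl' : IsLocalRing (W ⧸ J) := IsLocalRing.of_surjective' (Ideal.Quotient.mk J) Ideal.Quotient.mk_surjective
  have hh' : HenselianLocalRing (W ⧸ J) :=
    Groth.Agent.Etbase.QuotHens.henselianLocalRing_of_surjective (Ideal.Quotient.mk J) Ideal.Quotient.mk_surjective
  have hloc' : IsLocalHom (Ideal.Quotient.mk J) := IsLocalHom.of_surjective _ Ideal.Quotient.mk_surjective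
  let k : V ⧸ I →+* W ⧸ J := Ideal.Quotient.lift I ((Ideal.Quotient.mk J).comp (algebraMap V W)) (by
    intro v hv
    obtain ⟨w, rfl⟩ := Ideal.mem_span_singleton.1 hv
    rw [RingHom.comp_apply, map_mul, map_pow, Ideal.Quotient.eq_zero_iff_mem]
    exact Ideal.mul_mem_right _ _ (Ideal.mem_span_singleton_self _))
  have hlc : IsLocalHom ((Ideal.Quotient.mk J).comp (algebraMap V W)) := RingHom.isLocalHom_comp _ _
  obtain ⟨g', -, hg'⟩ := Hensel.IsHenselization.universal (R := V) (S := W) (W ⧸ J)
    ((Ideal.Quotient.mk J).comp (algebraMap V W)) hlc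
  have e1 : Ideal.Quotient.mk J = g' := hg' _ rfl
  have e2 : k.comp g = g' := by
    apply hg'
    change (k.comp g).comp (algebraMap V W) = _
    rw [RingHom.comp_assoc, hg]
    ext v
    rfl
  have e3 : Ideal.Quotient.mk J x = k (g x) := by
    rw [e1, ← e2]
    rfl
  obtain ⟨v, hv⟩ := Ideal.Quotient.mk_surjective (g x)
  rw [← hv] at e3
  have e4 : Ideal.Quotient.mk J x = Ideal.Quotient.mk J (algebraMap V W v) := e3
  rw [← sub_eq_zero, ← map_sub, Ideal.Quotient.eq_zero_iff_mem] at e4
  obtain ⟨y, hy⟩ := Ideal.mem_span_singleton.1 e4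
  exact ⟨v, y, by rw [← hy]; ring⟩

end dense

end Groth.Agent.Red.K212.HensDense
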