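import Groth.Agent.Sga3B.TorusEtLoc920
import Groth.Agent.Sga3A.MTNormal737
import Groth.Agent.MultTori.K965.DictUm

/-!
# Tori over normal local domains are isotrivial

`locally_split`: a torus over the spectrum of an integrally closed local domain (not necessarily Noetherian) is split
by one finite étale cover.
-/

set_option autoImplicit false

universe u

open CategoryTheory MonoidalCategory CartesianMonoidalCategory MonObj GrpObj AlgebraicGeometry Limits
open TensorProduct
open Groth.Agent.Books.AffBridge Groth.Agent.Sga3A Groth.Agent.Sga3A.MTBasis Groth.Agent.Sga3B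

namespace Groth.Agent.Red.K212.HensDict

open Groth.Agent.Sga3B.TorusEtLoc920

/-- a group-like basis over a local faithfully flat algebra -/
theorem exists_gbasis_ff {V A : Type u} [CommRing V] [IsLocalRing V] [CommRing A] [HopfAlgebra V A]
    (hH : Red.IsTorus (SpecOver V A)) :
    ∃ (L : Type u) (_ : CommRing L) (_ : Algebra V L) (_ : Module.FaithfullyFlat V L) (r : ℕ),
      Nonempty (GBasis L (L ⊗[V] A) (Mu.{u} r)) := by
  obtain ⟨S', f, hf, hs, -, h⟩ := hH
  let s : Spec (CommRingCat.of V) := IsLocalRing.closedPoint V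
  obtain ⟨s', hs'⟩ := hs.1 s
  obtain ⟨U, hU, r, hr⟩ := h s'
  obtain ⟨C, _, j, hj, hjU, ⟨c, hc⟩⟩ := NearRed.exists_affine S' U s' hU
  let i : Spec (CommRingCat.of C) ⟶ U := IsOpenImmersion.lift U.ι j (by
    rw [Scheme.Opens.range_ι]; exact hjU)
  have hi : i ≫ U.ι = j := IsOpenImmersion.lift_fac _ _ _
  let φ : CommRingCat.of V ⟶ CommRingCat.of C := Spec.preimage (j ≫ f)
  let _ : Algebra V C := φ.hom.toAlgebra
  have hφ : Spec.map (CommRingCat.ofHom (algebraMap V C)) = j ≫ f := Spec.map_preimage _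
  have hsp : Red.IsSplitTorusWith (Fin r → ℤ)
      (Red.bc (Spec.map (CommRingCat.ofHom (algebraMap V C))) (SpecOver V A)) := by
    have h1 := TorusAlgClosed.isSplitTorusWith_bc i hr
    refine TorusBc.isSplitTorusWith_of_iso ((BcIso.bcCompIso i (U.ι ≫ f) (SpecOver V A)).symm ≪≫
      BcIso.bcCongrIso ?_ (SpecOver V A)) h1
    rw [hφ, ← hi, Category.assoc]
  have hflat : Module.Flat V C := by
    have h1 : Flat (Spec.map (CommRingCat.ofHom (algebraMap V C))) := by
      rw [hφ]; infer_instance
    rw [HasRingHomProperty.Spec_iff (P := @Flat)] at h1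
    exact h1
  obtain ⟨g⟩ := (isSplit_iff r).mp hsp
  have hcs : Spec.map (CommRingCat.ofHom (algebraMap V C)) c = s := by
    rw [hφ, Scheme.Hom.comp_apply, hc, hs']
  have hcp : c.asIdeal.comap (algebraMap V C) = IsLocalRing.maximalIdeal V := congrArg PrimeSpectrum.asIdeal hcs
  let L := Localization.AtPrime c.asIdeal
  have h2 : Module.Flat C L := IsLocalization.flat _ c.asIdeal.primeCompl
  have h3 : Module.Flat V L := Module.Flat.trans V C _
  have h4 : IsLocalHom (algebraMap V L) := by
    constructor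
    intro v hv
    rw [IsScalarTower.algebraMap_apply V C L] at hv
    have h5 : algebraMap V C v ∉ c.asIdeal := fun h6 =>
      (IsLocalization.AtPrime.isUnit_to_map_iff L c.asIdeal (algebraMap V C v)).1 hv h6
    have h7 : v ∉ IsLocalRing.maximalIdeal V := fun h8 => h5 (by rw [← hcp] at h8; exact h8)
    by_contra h9
    exact h7 h9
  have h5 : Module.FaithfullyFlat V L := Module.FaithfullyFlat.of_flat_of_isLocalHom
  exact ⟨L, inferInstance, inferInstance, h5, r, ⟨g.bc (IsScalarTower.toAlgHom V C L)⟩⟩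

/-- **Tori over integrally closed local domains are isotrivial.** -/
theorem locally_split (V : Type u) [CommRing V] [IsDomain V] [IsIntegrallyClosed V] [IsLocalRing V]
    (T : Over (Spec (CommRingCat.of V))) [GrpObj T] (hT : Red.IsTorus T) :
    ∃ r : ℕ, TwC.Locally (Spec (CommRingCat.of V)) .finiteEtale
      (fun _ g => Red.IsSplitTorusWith (Fin r → ℤ) (Red.bc g T)) := by
  have haff : IsAffine T.left := by
    have := TorusAlgClosed.isAffineHom_of_isTorus hT
    exact isAffine_of_isAffineHom T.hom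
  obtain ⟨A, _, _, e, he⟩ := exists_hopf V T
  have hH : Red.IsTorus (SpecOver V A) := TorusBc.isTorus_of_iso (Grp.mkIso' e) hT
  obtain ⟨L, _, _, hL, r, ⟨g⟩⟩ := exists_gbasis_ff hH
  have hA : Module.Flat V A := MTKey.flat_of_gbasis g
  obtain ⟨T₀, _, _, _, _, _, hT₀⟩ := MTKey.exists_etale_cover g
  have : Nontrivial T₀ := (FaithfulSMul.algebraMap_injective V T₀).nontrivial
  obtain ⟨T', _, _, _, _, hdom, hfin, het, hff⟩ := MTNormal737.exists_domain_cover (R := V) T₀
  obtain ⟨g'⟩ := MTNormal737.exists_gbasis_of_local (T := T') (B := T' ⊗[V] A) (M := Mu.{u} r) (by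
    intro T₁ _ _ _
    let _ : Algebra V T₁ := ((algebraMap T' T₁).comp (algebraMap V T')).toAlgebra
    have : IsScalarTower V T' T₁ := .of_algebraMap_eq' rfl
    let _ : Algebra T₀ T₁ := ((algebraMap T' T₁).comp (algebraMap T₀ T')).toAlgebra
    have : IsScalarTower V T₀ T₁ := .of_algebraMap_eq fun v => by
      rw [IsScalarTower.algebraMap_apply V T' T₁, IsScalarTower.algebraMap_apply V T₀ T']
      rfl
    obtain ⟨g₁⟩ := hT₀ T₁
    exact ⟨g₁.map (MTBasis.cancelBC V T' T₁ A).symm⟩)
  have hsp := (isSplit_iff r).mpr ⟨g'⟩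
  have hsp' : Red.IsSplitTorusWith (Fin r → ℤ) (Red.bc (Spec.map (CommRingCat.ofHom (algebraMap V T'))) T) :=
    TorusBc.isSplitTorusWith_of_iso (BcIso.bcMapIso _ (Grp.mkIso' e).symm) hsp
  refine ⟨r, Spec (CommRingCat.of T'), Spec.map (CommRingCat.ofHom (algebraMap V T')), ?_, ?_, ?_, ?_⟩
  · rw [IsFinite.SpecMap_iff]
    exact RingHom.finite_algebraMap.mpr hfin
  · rw [HasRingHomProperty.Spec_iff (P := @Etale)]
    simp only [CommRingCat.hom_ofHom]
    exact RingHom.etale_algebraMap.mpr inferInstance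
  · constructor
    intro x
    obtain ⟨y, hy⟩ := PrimeSpectrum.comap_surjective_of_faithfullyFlat (A := V) (B := T') x
    exact ⟨y, hy⟩
  · intro s'
    refine ⟨⊤, trivial, isClosed_univ, ?_⟩
    exact TorusBc.isSplitTorusWith_of_iso (BcIso.bcCompIso _ _ T).symm
      (TorusAlgClosed.isSplitTorusWith_bc (Scheme.Opens.ι ⊤) hsp')

end Groth.Agent.Red.K212.HensDict
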