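import Mathlib.LinearAlgebra.FreeModule.PID
import Mathlib.LinearAlgebra.Dimension.Free
import Mathlib.RingTheory.Int.Basic
import Mathlib.Tactic.Group
import Mathlib.GroupTheory.GroupAction.Defs
import Mathlib.GroupTheory.QuotientGroup.Basic
import Mathlib.Algebra.Module.Torsion.Free

/-!
# Lifting equivariant homomorphisms through a quotient with induced structure

`exists_lift`: `G` acts on `E`, `F`, `F₀ ≤ F`, and `j : E → F` identifies `E ⧸ ⋂ U x` with `F ⧸ F₀`, where the subgroups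
`U x`, `x : X`, are permuted by `G` and `E ⧸ U x₀` is torsion free with good representatives; equivariant
homomorphisms `M → F` from a finitely generated `M` come from `E` modulo `F₀`.
-/

set_option autoImplicit false

namespace Groth.Agent.Red.K212.HensGrp

/-- coordinates on a finitely generated subgroup of a torsion-free group -/
lemma exists_coord {M Q : Type*} [AddCommGroup M] [AddCommGroup Q] [Module.Finite ℤ M] [Module.IsTorsionFree ℤ Q]
    (v : M →+ Q) : ∃ (s : ℕ) (q : Fin s → Q) (n : Fin s → (M →+ ℤ)), (∀ m, v m = ∑ i, n i m • q i) ∧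
      ∀ m m', v m = v m' → ∀ i, n i m = n i m' := by
  let v' : M →ₗ[ℤ] Q := v.toIntLinearMap
  have h1 : Module.Finite ℤ (LinearMap.range v') := inferInstance
  have h2 : Module.IsTorsionFree ℤ (LinearMap.range v') := inferInstance
  have h3 : Module.Free ℤ (LinearMap.range v') := inferInstance
  let b := Module.finBasis ℤ (LinearMap.range v')
  refine ⟨_, fun i => (b i : Q), fun i => ((b.coord i) ∘ₗ v'.rangeRestrict).toAddMonoidHom, ?_, ?_⟩
  · intro m
    have h4 := congrArg (Subtype.val) (b.sum_repr (v'.rangeRestrict m))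
    rw [AddSubmonoidClass.coe_finsetSum] at h4
    exact h4.symm
  · intro m m' h i
    have h5 : v'.rangeRestrict m = v'.rangeRestrict m' := Subtype.ext h
    change b.coord i (v'.rangeRestrict m) = b.coord i (v'.rangeRestrict m')
    rw [h5]

variable {G : Type*} [Group G] {E F M X : Type*} [AddCommGroup E] [AddCommGroup F] [AddCommGroup M]
  [DistribMulAction G M] [MulAction G X] [Fintype X]

theorem exists_lift [Module.Finite ℤ M] (aE : G → E →+ E) (aE1 : ∀ e, aE 1 e = e)
    (aEm : ∀ g h e, aE (g * h) e = aE g (aE h e))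
    (aF : G → F →+ F)
    (j : E →+ F) (hj : ∀ g e, j (aE g e) = aF g (j e))
    (F₀ : AddSubgroup F) (hF₀ : ∀ g f, f ∈ F₀ → aF g f ∈ F₀) (hF : ∀ f, ∃ e, f - j e ∈ F₀)
    (U : X → AddSubgroup E) (hU : ∀ g x e, e ∈ U x → aE g e ∈ U (g • x))
    (hEF : ∀ e, j e ∈ F₀ ↔ ∀ x, e ∈ U x) (x₀ : X) (htr : ∀ x, ∃ g : G, g • x₀ = x)
    (htf : ∀ (k : ℕ) e, k ≠ 0 → k • e ∈ U x₀ → e ∈ U x₀)
    (hrep : ∀ e, ∃ x, x - e ∈ U x₀ ∧ (∀ n, n ≠ x₀ → x ∈ U n) ∧ ∀ g : G, g • x₀ = x₀ → aE g x = x)
    (φ : M →+ F) (hφ : ∀ (g : G) m, φ (g • m) = aF g (φ m)) :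
    ∃ y : M →+ E, (∀ (g : G) m, y (g • m) = aE g (y m)) ∧ ∀ m, φ m - j (y m) ∈ F₀ := by
  classical
  choose τ hτ using htr
  let π : E →+ E ⧸ U x₀ := QuotientAddGroup.mk' (U x₀)
  have hπ : ∀ e e', π e = π e' ↔ e - e' ∈ U x₀ := by
    intro e e'
    rw [← sub_eq_zero, ← map_sub]
    exact QuotientAddGroup.eq_zero_iff _
  choose ε hε using hF
  have hwd : ∀ (f : F) (e e' : E), f - j e ∈ F₀ → f - j e' ∈ F₀ → π e = π e' := by
    intro f e e' h h'
    rw [hπ]
    refine (hEF _).1 ?_ x₀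
    have h1 := F₀.sub_mem h' h
    have h2 : f - j e' - (f - j e) = j (e - e') := by rw [map_sub]; abel
    rwa [h2] at h1
  let v : M →+ E ⧸ U x₀ :=
    { toFun := fun m => π (ε (φ m))
      map_zero' := by
        rw [← map_zero π]
        apply hwd 0 _ _ _ (by simp [F₀.zero_mem])
        have h1 := hε (φ 0)
        rwa [map_zero] at h1 ⊢
      map_add' := fun m m' => by
        rw [← map_add π]
        apply hwd (φ (m + m')) _ _ (hε _)
        have h1 := F₀.add_mem (hε (φ m)) (hε (φ m'))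
        have h2 : φ m - j (ε (φ m)) + (φ m' - j (ε (φ m'))) = φ (m + m') - j (ε (φ m) + ε (φ m')) := by
          rw [map_add, map_add]; abel
        rwa [h2] at h1 }
  have hv : ∀ m e, φ m - j e ∈ F₀ → v m = π e := fun m e h => hwd (φ m) _ _ (hε _) h
  have htor : Module.IsTorsionFree ℤ (E ⧸ U x₀) := by
    refine ⟨?_⟩
    intro k hk
    have hk0 : k ≠ 0 := by
      rintro rfl
      exact one_ne_zero (hk.left (by simp : (0 : ℤ) * 1 = 0 * 0))
    intro q q' hqq
    obtain ⟨e, rfl⟩ := QuotientAddGroup.mk_surjective q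
    obtain ⟨e', rfl⟩ := QuotientAddGroup.mk_surjective q'
    change k • π e = k • π e' at hqq
    change π e = π e'
    rw [hπ]
    rw [← map_zsmul, ← map_zsmul, hπ, ← smul_sub] at hqq
    have hk' : k.natAbs ≠ 0 := Int.natAbs_ne_zero.2 hk0
    apply htf k.natAbs _ hk'
    rcases Int.natAbs_eq k with h | h
    · rw [h] at hqq
      rwa [natCast_zsmul] at hqq
    · rw [h, neg_smul] at hqq
      have := (U x₀).neg_mem hqq
      rwa [neg_neg, natCast_zsmul] at this
  obtain ⟨s, q, n, hvn, hn⟩ := exists_coord v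
  choose q' hq' using fun i => QuotientAddGroup.mk_surjective (q i)
  choose x hx1 hx2 hx3 using fun i => hrep (q' i)
  have hxq : ∀ i, π (x i) = q i := by
    intro i
    rw [← hq' i]
    exact (hπ _ _).2 (hx1 i)
  -- invariance of the coordinates under the stabiliser
  have hinv : ∀ (d : G), d • x₀ = x₀ → ∀ m i, n i (d • m) = n i m := by
    intro d hd m i
    apply hn
    set e := ∑ i, n i m • x i with he
    have h1 : v m = π e := by
      rw [hvn m, he, map_sum]
      exact Finset.sum_congr rfl fun i _ => by rw [map_zsmul, hxq]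
    have h2 : ε (φ m) - e ∈ U x₀ := (hπ _ _).1 h1
    have h3 : v (d • m) = π (aE d (ε (φ m))) := by
      apply hv
      rw [hφ, hj, ← map_sub]
      exact hF₀ _ _ (hε _)
    rw [h3, h1]
    have h4 : aE d e = e := by
      rw [he, map_sum]
      exact Finset.sum_congr rfl fun i _ => by rw [map_zsmul, hx3 i d hd]
    rw [hπ]
    have h5 := hU d x₀ _ h2
    rw [hd, map_sub, h4] at h5
    exact h5
  let y : M →+ E := ∑ i, ∑ z : X, (zmultiplesHom E (aE (τ z) (x i))).comp ((n i).comp
    (DistribSMul.toAddMonoidHom M (τ z)⁻¹))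
  have hy : ∀ m, y m = ∑ i, ∑ z : X, n i ((τ z)⁻¹ • m) • aE (τ z) (x i) := by
    intro m
    simp only [y, AddMonoidHom.finsetSum_apply]
    rfl
  have hyeq : ∀ (g : G) m, y (g • m) = aE g (y m) := by
    intro g m
    rw [hy, hy, map_sum]
    refine Finset.sum_congr rfl fun i _ => ?_
    rw [map_sum]
    symm
    refine Fintype.sum_equiv (MulAction.toPerm g) _ _ fun z => ?_
    rw [map_zsmul, MulAction.toPerm_apply]
    -- `τ (g • z) = g * τ z * d⁻¹`
    set d : G := (τ (g • z))⁻¹ * g * τ z with hd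
    have hds : d • x₀ = x₀ := by
      rw [hd, mul_smul, mul_smul, hτ, inv_smul_eq_iff, hτ]
    have h1 : (τ (g • z))⁻¹ • g • m = d • (τ z)⁻¹ • m := by
      rw [hd, ← mul_smul, ← mul_smul]
      congr 1
      rw [mul_assoc ((τ (g • z))⁻¹ * g), mul_inv_cancel, mul_one]
    have h2 : aE g (aE (τ z) (x i)) = aE (τ (g • z)) (x i) := by
      have h3 : g * τ z = τ (g • z) * d := by rw [hd, mul_assoc, mul_inv_cancel_left]
      rw [← aEm, h3, aEm, hx3 i d hds]
    rw [h1, hinv d hds, h2]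
  refine ⟨y, hyeq, ?_⟩
  -- the class of `y m` at `x₀`
  have hyv : ∀ m, π (y m) = v m := by
    intro m
    rw [hvn m, hy, map_sum]
    refine Finset.sum_congr rfl fun i _ => ?_
    rw [map_sum, Finset.sum_eq_single x₀]
    · have hs : τ x₀ • x₀ = x₀ := hτ x₀
      have hs' : (τ x₀)⁻¹ • x₀ = x₀ := inv_smul_eq_iff.2 hs.symm
      rw [hinv _ hs', hx3 i _ hs, map_zsmul, hxq]
    · intro z _ hz
      have h1 : (τ z)⁻¹ • x₀ ≠ x₀ := by
        intro h
        apply hz
        rw [inv_smul_eq_iff, hτ] at h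
        exact h.symm
      have h2 := hU (τ z) _ _ (hx2 i _ h1)
      rw [smul_inv_smul] at h2
      have h3 : π (aE (τ z) (x i)) = 0 := (QuotientAddGroup.eq_zero_iff _).2 h2
      rw [map_zsmul, h3, smul_zero]
    · intro h
      exact absurd (Finset.mem_univ _) h
  intro m
  have key : ∀ z, ε (φ m) - y m ∈ U z := by
    intro z
    have h1 : v ((τ z)⁻¹ • m) = π (aE (τ z)⁻¹ (ε (φ m))) := by
      apply hv
      rw [hφ, hj, ← map_sub]
      exact hF₀ _ _ (hε _)
    rw [← hyv, hyeq, eq_comm, hπ, ← map_sub] at h1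
    have h2 := hU (τ z) _ _ h1
    rw [hτ, ← aEm, mul_inv_cancel, aE1] at h2
    exact h2
  have h1 := (hEF _).2 key
  have h2 := F₀.add_mem (hε (φ m)) h1
  have h3 : φ m - j (ε (φ m)) + j (ε (φ m) - y m) = φ m - j (y m) := by rw [map_sub]; abel
  rwa [h3] at h2

end Groth.Agent.Red.K212.HensGrp
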