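import Groth.Agent.Red.K212.Twist

/-!
# Isomorphisms between rank one systems
-/

set_option autoImplicit false
universe u
open CategoryTheory MonoidalCategory CartesianMonoidalCategory MonObj GrpObj AlgebraicGeometry Limits

namespace K212.Iso

open Groth.Agent.Sga3B.DSPts Groth.Agent.Sga3B.GaPts Groth.Agent.Sga3.H811.Pts K212.R1Alg K212.R1Mk
open K212.R1Conj K212.R1Geo K212.Rescale K212.R1Hom K212.R1Ext K212.Twist

variable {S : Scheme.{u}}

lemma add_one (S : Scheme.{u}) : Add S 1 := fun X a b => by rw [pow_one, pow_one, pow_one]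

variable {G T : Over S} [GrpObj G] [GrpObj T]
  {i : T ⟶ G} {α : T ⟶ Red.Gm S} {pp pm : Red.Ga S ⟶ G} {av : Red.Gm S ⟶ T}
  {H : R1Hyp i α pp pm av}
  {G' T' : Over S} [GrpObj G'] [GrpObj T']
  {i' : T' ⟶ G'} {α' : T' ⟶ Red.Gm S} {pp' pm' : Red.Ga S ⟶ G'} {av' : Red.Gm S ⟶ T'}
  {H' : R1Hyp i' α' pp' pm' av'}
  {c c' : 𝟙_ (Over S) ⟶ Red.Gm S} {fT : T ⟶ T'} {fT' : T' ⟶ T} {f : G ⟶ G'} {f' : G' ⟶ G}
  [IsMonHom f] [IsMonHom f']

lemma comp_eq_id (hΩ : IsOpenImmersion (cell i pp pm).left)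
    [LocallyOfFiniteType G.hom] (hirr : ∀ s : S, IrreducibleSpace (Red.geomFibre s G).left)
    (h : Good H H' 1 f c) (h' : Good H' H 1 f' c') (hT : i ≫ f = fT ≫ i') (hT' : i' ≫ f' = fT' ≫ i)
    (hc : ∀ X, cst c' X * cst c X = 1) (hff : fT ≫ fT' = 𝟙 T) : f ≫ f' = 𝟙 G := by
  refine R1Ext.hom_ext H hΩ hirr ?_ ?_ ?_
  · rw [← Category.assoc, hT, Category.assoc, hT', ← Category.assoc, hff, Category.id_comp, Category.comp_id]
  · refine ga_hom_ext fun X x => ?_
    have h1 : (gaPt X x ≫ pp) ≫ f = (H'.sys X).p (cst c X * x ^ 1) := h.p X x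
    rw [Category.comp_id, ← Category.assoc, ← Category.assoc, h1, h'.p, pow_one, pow_one, ← _root_.mul_assoc,
      ← Units.val_mul, hc, Units.val_one, _root_.one_mul]
    rfl
  · refine ga_hom_ext fun X x => ?_
    have h1 : (gaPt X x ≫ pm) ≫ f = (H'.sys X).q (((cst c X)⁻¹ : Γ(X.left, ⊤)ˣ) * x ^ 1) := h.q X x
    rw [Category.comp_id, ← Category.assoc, ← Category.assoc, h1, h'.q, pow_one, pow_one, ← _root_.mul_assoc,
      ← Units.val_mul, ← _root_.mul_inv, hc, inv_one, Units.val_one, _root_.one_mul]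
    rfl

/-- A homomorphism of rank one systems which is an isomorphism on the tori is an isomorphism. -/
theorem isIso_of (hΩ : IsOpenImmersion (cell i pp pm).left)
    [LocallyOfFiniteType G.hom] (hirr : ∀ s : S, IrreducibleSpace (Red.geomFibre s G).left)
    (hΩ' : IsOpenImmersion (cell i' pp' pm').left)
    [LocallyOfFiniteType G'.hom] (hirr' : ∀ s : S, IrreducibleSpace (Red.geomFibre s G').left)
    [IsMonHom fT] [IsIso fT] (hfTα : fT ≫ α' = α) (hfTav : av ≫ fT = av') (hT : i ≫ f = fT ≫ i')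
    (h : Good H H' 1 f c) : IsIso f := by
  have e1 : inv fT ≫ α = α' ^ 1 := by rw [pow_one, ← hfTα, IsIso.inv_hom_id_assoc]
  have e2 : av' ≫ inv fT = av ^ 1 := by rw [pow_one, ← hfTav, Category.assoc, IsIso.hom_inv_id, Category.comp_id]
  have hinv : IsMonHom (CategoryTheory.inv fT) := Groth.Agent.Sga3B.Pts.isMonHom_of_points _ fun X x y => by
    rw [← cancel_mono fT, Category.assoc, IsIso.inv_hom_id, Category.comp_id,
      MonObj.mul_comp (x ≫ CategoryTheory.inv fT) (y ≫ CategoryTheory.inv fT) fT, Category.assoc, Category.assoc,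
      IsIso.inv_hom_id, Category.comp_id, Category.comp_id]
  obtain ⟨g, hg, hgT, hgood⟩ := Twist.exists_good H' H (add_one S) c⁻¹ (inv fT) e1 e2 hΩ' hirr'
  refine ⟨⟨g, ?_, ?_⟩⟩
  · exact comp_eq_id hΩ hirr h hgood hT hgT (fun X => by rw [cst_inv, inv_mul_cancel]) (IsIso.hom_inv_id fT)
  · exact comp_eq_id hΩ' hirr' hgood h hgT hT (fun X => by rw [cst_inv, mul_inv_cancel]) (IsIso.inv_hom_id fT)

end K212.Iso
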