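import Groth.Agent.Red.K212.GaFib

/-!
# Opposite root groups do not commute on a reductive geometric fibre
-/

set_option autoImplicit false
universe u
open CategoryTheory MonoidalCategory CartesianMonoidalCategory MonObj GrpObj AlgebraicGeometry Limits

namespace K212.NonComm

open Groth.Agent.Sga3B.DSPts Groth.Agent.Sga3B.GaPts Groth.Agent.Sga3.H811.Pts K212.Weight K212.Kpt
open K212.GaFib K212.R1Mk

variable {S : Scheme.{u}} {G T : Over S} [GrpObj G] [GrpObj T] {i : T ⟶ G} {α : T ⟶ Red.Gm S}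
  {pp pm : Red.Ga S ⟶ G}

/-- products in the cell when the root groups commute -/
lemma cell_mul [IsMonHom i] [IsMonHom pp]
    [IsMonHom pm] (hpp : NormP i α pp) (hpm : NormM i α pm) {X : Over S}
    (hc : ∀ x y : X ⟶ Red.Ga S, (x ≫ pp) * (y ≫ pm) = (y ≫ pm) * (x ≫ pp))
    (a b a' b' : Γ(X.left, ⊤)) (t t' : X ⟶ T) :
    (gaPt X a ≫ pm) * (t ≫ i) * (gaPt X b ≫ pp) * ((gaPt X a' ≫ pm) * (t' ≫ i) * (gaPt X b' ≫ pp)) =
      (gaPt X (a + (uPt (t ≫ α))⁻¹ * a') ≫ pm) * ((t * t') ≫ i) *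
        (gaPt X ((uPt (t' ≫ α))⁻¹ * b + b') ≫ pp) := by
  have e1 : (t ≫ i) * (gaPt X a' ≫ pm) = (gaPt X ((uPt (t ≫ α))⁻¹ * a') ≫ pm) * (t ≫ i) := by
    refine hpm.comm t a' _ ?_
    rw [mul_right_comm, ← uPt_val, Units.inv_mul, _root_.one_mul]
  have e2 : (gaPt X b ≫ pp) * (t' ≫ i) = (t' ≫ i) * (gaPt X ((uPt (t' ≫ α))⁻¹ * b) ≫ pp) := by
    refine (hpp.comm t' _ _ ?_).symm
    rw [← _root_.mul_assoc, ← uPt_val, Units.mul_inv, _root_.one_mul]
  rw [gaPt_add, gaPt_add, MonObj.mul_comp, MonObj.mul_comp, MonObj.mul_comp]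
  have e3 : (gaPt X a ≫ pm) * (t ≫ i) * (gaPt X b ≫ pp) * ((gaPt X a' ≫ pm) * (t' ≫ i) * (gaPt X b' ≫ pp)) =
      (gaPt X a ≫ pm) * ((t ≫ i) * (((gaPt X b ≫ pp) * (gaPt X a' ≫ pm)) * (t' ≫ i)) * (gaPt X b' ≫ pp)) := by
    simp only [_root_.mul_assoc]
  have e4 : (t ≫ i) * (((gaPt X b ≫ pp) * (gaPt X a' ≫ pm)) * (t' ≫ i)) =
      ((t ≫ i) * (gaPt X a' ≫ pm)) * ((gaPt X b ≫ pp) * (t' ≫ i)) := by
    rw [hc]
    simp only [_root_.mul_assoc]
  rw [e3, e4, e1, e2]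
  simp only [_root_.mul_assoc]

omit [GrpObj T] in
lemma exists_coord {X : Over S} (w : X ⟶ (Red.Ga S ⊗ T) ⊗ Red.Ga S) :
    ∃ (a b : Γ(X.left, ⊤)) (t : X ⟶ T),
      w ≫ cell i pp pm = (gaPt X a ≫ pm) * (t ≫ i) * (gaPt X b ≫ pp) := by
  refine ⟨Red.gaFn (w ≫ fst _ _ ≫ fst _ _), Red.gaFn (w ≫ snd _ _), w ≫ fst _ _ ≫ snd _ _, ?_⟩
  rw [gaPt_gaFn, gaPt_gaFn]
  exact comp_cell i pp pm w

/-- **Opposite root groups with open cell do not commute on a reductive geometric fibre.** -/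
theorem false_of_comm [IsMonHom i] [IsMonHom pp]
    [IsMonHom pm] [Mono pp] (hpp : NormP i α pp) (hpm : NormM i α pm)
    (hΩ : IsOpenImmersion (cell i pp pm).left) (s : S) [LocallyOfFiniteType G.hom]
    (hG : Red.IsReductiveOver (AlgebraicClosure (S.residueField s)) (Red.geomFibre s G))
    (hc : ∀ (X : Over (Spec (CommRingCat.of (K s)))) (x y : (Over.map (Red.geomPt s)).obj X ⟶ Red.Ga S),
      (x ≫ pp) * (y ≫ pm) = (y ≫ pm) * (x ≫ pp)) : False := by
  have hop : IsOpen (Set.range (cell i pp pm).left) := hΩ.isOpen_range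
  have hirr : IrreducibleSpace (Red.geomFibre s G).left := by
    have := hG.2.2.1
    exact Groth.Agent.S0348.result _ (Red.geomFibre s G)
  have hone : pt (1 : kp s ⟶ G) ∈ Set.range (cell i pp pm).left := by
    have h1 : (1 : kp s ⟶ G) = ((1 : kp s ⟶ Red.Ga S) ≫ pm) * ((1 : kp s ⟶ T) ≫ i) *
        ((1 : kp s ⟶ Red.Ga S) ≫ pp) := by
      rw [MonObj.one_comp, MonObj.one_comp, MonObj.one_comp, _root_.one_mul, _root_.one_mul]
    rw [h1]
    exact mem_range_cell _ _ _ _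
  -- all geometric points are in the cell
  have h1 : ∀ g : kp s ⟶ G, pt g ∈ Set.range (cell i pp pm).left := by
    intro g
    obtain ⟨a, b, ha, hb, rfl⟩ := exists_mul hop hone g
    obtain ⟨w, hw⟩ := exists_lift_cell a (by rw [range_eq]; exact Set.singleton_subset_iff.mpr ha)
    obtain ⟨w', hw'⟩ := exists_lift_cell b (by rw [range_eq]; exact Set.singleton_subset_iff.mpr hb)
    obtain ⟨x, y, t, h⟩ := exists_coord (i := i) (pp := pp) (pm := pm) w
    obtain ⟨x', y', t', h'⟩ := exists_coord (i := i) (pp := pp) (pm := pm) w'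
    rw [hw] at h
    rw [hw'] at h'
    have h4 := cell_mul hpp hpm (hc (𝟙_ (Over (Spec (CommRingCat.of (K s)))))) x y x' y' t t'
    rw [h, h', h4]
    exact mem_range_cell _ _ _ _
  have h2 : ∀ u : G.left, G.hom u = s → u ∈ Set.range (cell i pp pm).left := by
    intro u hu
    by_contra hn
    obtain ⟨x, hx⟩ := exists_pt' (s := s) (U := (Set.range (cell i pp pm).left)ᶜ)
      hop.isClosed_compl.isLocallyClosed hn hu
    exact hx (h1 x)
  have h3 : ∀ (X : Over (Spec (CommRingCat.of (K s)))) (g : (Over.map (Red.geomPt s)).obj X ⟶ G),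
      Set.range g.left ⊆ Set.range (cell i pp pm).left := by
    rintro X g _ ⟨u, rfl⟩
    apply h2
    rw [← Scheme.Hom.comp_apply, Over.w]
    change (X.hom ≫ Red.geomPt s) u = s
    rw [Scheme.Hom.comp_apply]
    exact geomPt_apply _
  let j : Red.bc (Red.geomPt s) (Red.Ga S) ⟶ Red.geomFibre s G := (Over.pullback (Red.geomPt s)).map pp
  have hj : IsMonHom j := inferInstanceAs (IsMonHom ((Over.pullback (Red.geomPt s)).map pp))
  have hjm : Mono j := inferInstanceAs (Mono ((Over.pullback (Red.geomPt s)).map pp))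
  have hnorm : AlgGrp.IsNormalHom j := by
    intro X g n
    obtain ⟨g, rfl⟩ := (bcEquiv (Red.geomPt s) X G).surjective g
    obtain ⟨n, rfl⟩ := (bcEquiv (Red.geomPt s) X (Red.Ga S)).surjective n
    obtain ⟨y, t, x, hg⟩ : ∃ (y : (Over.map (Red.geomPt s)).obj X ⟶ Red.Ga S)
        (t : (Over.map (Red.geomPt s)).obj X ⟶ T) (x : (Over.map (Red.geomPt s)).obj X ⟶ Red.Ga S),
        g = (y ≫ pm) * (t ≫ i) * (x ≫ pp) := by
      obtain ⟨w, hw⟩ := exists_lift_cell g (h3 X g)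
      obtain ⟨x, y, t, h⟩ := exists_coord (i := i) (pp := pp) (pm := pm) w
      exact ⟨_, _, _, hw.symm.trans h⟩
    subst hg
    obtain ⟨n', hn', -⟩ := hpp _ t n
    refine ⟨bcEquiv (Red.geomPt s) X (Red.Ga S) n', ?_⟩
    have e1 : bcEquiv (Red.geomPt s) X (Red.Ga S) n ≫ j = bcEquiv (Red.geomPt s) X G (n ≫ pp) :=
      bcEquiv_comp (Red.geomPt s) X n pp
    have e1' : bcEquiv (Red.geomPt s) X (Red.Ga S) n' ≫ j = bcEquiv (Red.geomPt s) X G (n' ≫ pp) :=
      bcEquiv_comp (Red.geomPt s) X n' pp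
    rw [e1, e1', ← map_inv, ← map_mul, ← map_mul]
    congr 1
    have e2 : (x ≫ pp) * (n ≫ pp) * (x ≫ pp)⁻¹ = n ≫ pp := by
      have h5 : (x ≫ pp) * (n ≫ pp) = (x * n) ≫ pp := (MonObj.mul_comp x n pp).symm
      have h6 : (n ≫ pp) * (x ≫ pp) = (n * x) ≫ pp := (MonObj.mul_comp n x pp).symm
      have h7 : x * n = n * x := by
        apply gaFn_injective
        rw [gaFn_mul, gaFn_mul, add_comm]
      rw [mul_inv_eq_iff_eq_mul, h5, h6, h7]
    have e3 : (y ≫ pm) * (n' ≫ pp) * (y ≫ pm)⁻¹ = n' ≫ pp := by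
      rw [← hc X n' y, mul_inv_cancel_right]
    have e4 : (y ≫ pm) * (t ≫ i) * (x ≫ pp) * (n ≫ pp) * ((y ≫ pm) * (t ≫ i) * (x ≫ pp))⁻¹ =
        (y ≫ pm) * ((t ≫ i) * ((x ≫ pp) * (n ≫ pp) * (x ≫ pp)⁻¹) * (t ≫ i)⁻¹) * (y ≫ pm)⁻¹ := by
      simp only [_root_.mul_assoc, _root_.mul_inv_rev]
    rw [e4, e2, ← hn', e3]
  have hGl : LocallyOfFiniteType (Red.geomFibre s G).hom :=
    inferInstanceAs (LocallyOfFiniteType (pullback.snd G.hom (Red.geomPt s)))
  have hsm0 : Smooth (Red.Ga S).hom := inferInstance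
  have hsm : Smooth (Red.bc (Red.geomPt s) (Red.Ga S)).hom :=
    inferInstanceAs (Smooth (pullback.snd (Red.Ga S).hom (Red.geomPt s)))
  have haf0 : IsAffineHom (Red.Ga S).hom := inferInstance
  have haf : IsAffineHom (Red.bc (Red.geomPt s) (Red.Ga S)).hom :=
    inferInstanceAs (IsAffineHom (pullback.snd (Red.Ga S).hom (Red.geomPt s)))
  have hclosed : IsClosedImmersion j.left := by
    have : IsAffine (Red.geomFibre s G).left := hG.1
    have hqc : QuasiCompact (j.left ≫ (Red.geomFibre s G).hom) := by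
      rw [Over.w j]; infer_instance
    have : QuasiCompact j.left := QuasiCompact.of_comp _ (Red.geomFibre s G).hom
    exact Groth.Agent.S3036.result (K s) _ _ j
  exact not_isTrivialGrp (Red.geomPt s) (hG.2.2.2 _ j hclosed hsm (connected_fibre _) hnorm
    (hasNoSubtorus_fibre _))

end K212.NonComm
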