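import Groth.Agent.Red.K212.R1Alg

/-!
# Rank one commutation relations on points: further algebra
-/

set_option autoImplicit false

namespace K212.R1Alg.R1

variable {B Gr Tr : Type*} [CommRing B] [Group Gr] [Group Tr] (D : R1 B Gr Tr)

/-- the conjugation formula for the positive root group from the one for the negative root group -/
lemma w_p_of (x : Bˣ) (hq : ∀ y : B, D.w x * D.q y = D.p (-((x : B) ^ 2 * y)) * D.w x) (y : B) :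
    D.w x * D.p y = D.q (-(((x⁻¹ : Bˣ) : B) ^ 2 * y)) * D.w x := by
  have h1 := hq (-(((x⁻¹ : Bˣ) : B) ^ 2 * y))
  have e1 : -((x : B) ^ 2 * -(((x⁻¹ : Bˣ) : B) ^ 2 * y)) = y := by
    have := Units.mul_inv x
    linear_combination (y * (x * ((x⁻¹ : Bˣ) : B) + 1)) * this
  rw [e1] at h1
  -- `w q(Y) = p(y) w`, so `w⁻¹ p(y) = q(Y) w⁻¹`
  have h2 : (D.w x)⁻¹ * D.p y = D.q (-(((x⁻¹ : Bˣ) : B) ^ 2 * y)) * (D.w x)⁻¹ := by
    rw [inv_mul_eq_iff_eq_mul, ← mul_assoc, h1]; group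
  have h3 : D.w x = D.h (-1) * (D.w x)⁻¹ := by
    rw [← D.w_sq x]; group
  have h4 : D.h (-1) * D.q (-(((x⁻¹ : Bˣ) : B) ^ 2 * y)) =
      D.q (-(((x⁻¹ : Bˣ) : B) ^ 2 * y)) * D.h (-1) := by
    rw [D.hq]
    congr 2
    simp
  conv_lhs => rw [h3, mul_assoc, h2, ← mul_assoc, h4, mul_assoc, ← h3]

/-- the braid relation from the conjugation formula -/
lemma w_eq_of (x : Bˣ) (hq : ∀ y : B, D.w x * D.q y = D.p (-((x : B) ^ 2 * y)) * D.w x) :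
    D.w x = D.q (-((x⁻¹ : Bˣ) : B)) * D.p x * D.q (-((x⁻¹ : Bˣ) : B)) := by
  have h1 := D.w_p_of x hq x
  have e1 : -(((x⁻¹ : Bˣ) : B) ^ 2 * (x : B)) = -((x⁻¹ : Bˣ) : B) := by
    have := Units.inv_mul x
    linear_combination (-((x⁻¹ : Bˣ) : B)) * this
  rw [e1] at h1
  have h2 : D.q (-((x⁻¹ : Bˣ) : B)) * D.w x =
      (D.q (-((x⁻¹ : Bˣ) : B)) * D.p x * D.q (-((x⁻¹ : Bˣ) : B))) * D.p x := by
    rw [w_def]; group
  rw [h2] at h1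
  exact mul_right_cancel h1

/-- `w(x) q(Y)` in the cell from the conjugation formula -/
lemma w_q_cell_of (x Y : Bˣ) (hq : D.w x * D.q Y = D.p (-((x : B) ^ 2 * Y)) * D.w x) :
    D.w x * D.q Y = D.q (-((x⁻¹ ^ 2 * Y⁻¹ : Bˣ) : B)) * D.h (x * Y) * D.p ((Y⁻¹ : Bˣ) : B) := by
  have hxi := Units.mul_inv x
  have hYi := Units.mul_inv Y
  have h1 := D.F' (x - (x : B) ^ 2 * Y) (-((x⁻¹ : Bˣ) : B)) (x * Y) (by
    rw [Units.val_mul]
    linear_combination (1 - x * (Y : B)) * hxi)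
  have e1 : (((x * Y)⁻¹ : Bˣ) : B) * -((x⁻¹ : Bˣ) : B) = -((x⁻¹ ^ 2 * Y⁻¹ : Bˣ) : B) := by
    push_cast [mul_inv_rev]
    ring
  have e2 : (((x * Y)⁻¹ : Bˣ) : B) * (x - (x : B) ^ 2 * Y) = ((Y⁻¹ : Bˣ) : B) - x := by
    push_cast [mul_inv_rev]
    linear_combination (((Y⁻¹ : Bˣ) : B) - (Y * ((Y⁻¹ : Bˣ) : B)) * (x : B)) * hxi - (x : B) * hYi
  rw [e1, e2] at h1
  have e3 : D.p (x - (x : B) ^ 2 * Y) = D.p (-((x : B) ^ 2 * Y)) * D.p x := by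
    rw [← D.p_add]; congr 1; ring
  have e4 : D.p (((Y⁻¹ : Bˣ) : B) - x) = D.p ((Y⁻¹ : Bˣ) : B) * (D.p x)⁻¹ := by
    rw [sub_eq_add_neg, D.p_add, D.p_neg]
  rw [e3, e4] at h1
  rw [hq]
  have h2 : D.p (-((x : B) ^ 2 * Y)) * D.w x =
      (D.p (-((x : B) ^ 2 * Y)) * D.p x * D.q (-((x⁻¹ : Bˣ) : B))) * D.p x := by
    rw [w_def]; group
  rw [h2, h1]
  group

end K212.R1Alg.R1
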