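import Groth.Agent.Red.K212.R1Geo
import Groth.Agent.Sga3B.MaxTorNear900

/-!
# The centralizer of a multiple of the coroot is the torus
-/

set_option autoImplicit false
universe u
open CategoryTheory MonoidalCategory CartesianMonoidalCategory MonObj GrpObj AlgebraicGeometry Limits

namespace K212.R1Cent

open Groth.Agent.Sga3B.DSPts Groth.Agent.Sga3B.GaPts Groth.Agent.Sga3.H811.Pts K212.R1Alg K212.R1Mk
open K212.Gen K212.R1Conj K212.Weight K212.Fn K212.Kpt K212.R1Geo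

variable {S : Scheme.{u}} {G T : Over S} [GrpObj G] [GrpObj T]
  {i : T ⟶ G} {α : T ⟶ Red.Gm S} {pp pm : Red.Ga S ⟶ G} {av : Red.Gm S ⟶ T}
  (H : R1Hyp i α pp pm av) (hΩ : IsOpenImmersion (cell i pp pm).left)
  [LocallyOfFiniteType G.hom] (hirr : ∀ s : S, IrreducibleSpace (Red.geomFibre s G).left)

/-- `g` commutes with all `h(u^m)` -/
def Comm (m : ℕ) (X : Over S) (g : X ⟶ G) : Prop :=
  ∀ (X' : Over S) (f : X' ⟶ X) (u : Γ(X'.left, ⊤)ˣ),
    (f ≫ g) * (H.sys X').h (u ^ m) = (H.sys X').h (u ^ m) * (f ≫ g)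

variable {H} in
omit [LocallyOfFiniteType G.hom] in
lemma Comm.nat {m : ℕ} {X X' : Over S} (f : X' ⟶ X) {g : X ⟶ G} (h : Comm H m X g) :
    Comm H m X' (f ≫ g) := by
  intro X'' f' u
  rw [← Category.assoc]
  exact h X'' _ u

omit [LocallyOfFiniteType G.hom] in
include hΩ in
lemma not_wB_of_comm {m : ℕ} (hm : m ≠ 0) {X : Over S} (x : X.left) {g : X ⟶ G} (h : Comm H m X g) :
    ¬ WB H X g := by
  rintro ⟨t, b, hg⟩
  obtain ⟨X', f, v, hf, ⟨pt', -⟩, hv, hv', -⟩ := Fn.exists_generic X x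
  obtain ⟨v, rfl⟩ : IsUnit v := by
    have := hv 0
    rwa [map_zero, sub_zero] at this
  have h1 := h X' f v
  rw [hg] at h1
  simp only [MonObj.comp_mul, w_nat, t_nat, p_nat, map_one] at h1
  set D := H.sys X' with hD
  have e1 : D.w 1 * D.t (f ≫ t) * D.p (f.left.appTop b) * D.h (v ^ m) =
      D.w 1 * (D.q 0 * D.t ((f ≫ t) * D.av (v ^ m)) *
        D.p ((((v ^ m)⁻¹ : Γ(X'.left, ⊤)ˣ) : Γ(X'.left, ⊤)) ^ 2 * f.left.appTop b)) := by
    rw [_root_.mul_assoc, D.ph, R1.q_zero, _root_.one_mul, map_mul, ← R1.h_apply]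
    simp only [_root_.mul_assoc]
  have e2 : D.h (v ^ m) * (D.w 1 * D.t (f ≫ t) * D.p (f.left.appTop b)) =
      D.w 1 * (D.q 0 * D.t ((D.av (v ^ m))⁻¹ * (f ≫ t)) * D.p (f.left.appTop b)) := by
    have h3 := D.w_h 1 (v ^ m)⁻¹
    rw [map_inv, _root_.inv_inv] at h3
    rw [← _root_.mul_assoc, ← _root_.mul_assoc, ← h3, R1.q_zero, _root_.one_mul, map_mul, map_inv, ← R1.h_apply]
    simp only [_root_.mul_assoc]
  rw [e1, e2, mul_right_inj] at h1
  obtain ⟨-, h2, -⟩ := cell_inj H hΩ h1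
  rw [D.tcomm (f ≫ t)] at h2
  have h3 : D.av (v ^ m) = (D.av (v ^ m))⁻¹ := mul_right_cancel h2
  have h4 : D.av (v ^ m) * D.av (v ^ m) = 1 := by
    nth_rewrite 2 [h3]
    exact mul_inv_cancel _
  have h5 := congrArg D.ch h4
  rw [map_mul, D.ch_av, map_one, ← pow_add, ← pow_mul] at h5
  have h6 := congrArg Units.val h5
  rw [Units.val_pow_eq_pow_val, Units.val_one] at h6
  have h7 := hv' (m * (2 + 2)) (by positivity)
  have h8 : (v : Γ(X'.left, ⊤)) ^ (m * (2 + 2)) - 1 = 0 := by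
    rw [sub_eq_zero]; exact h6
  rw [h8] at h7
  exact Fn.not_isUnit_zero pt' h7

include hΩ hirr in
/-- a point commuting with a multiple of the coroot lies in the cell -/
lemma inCell_of_comm {m : ℕ} (hm : m ≠ 0) {X : Over S} {g : X ⟶ G} (h : Comm H m X g) :
    InCell H X g := by
  rw [inCell_iff H hΩ]
  rintro _ ⟨x, rfl⟩
  have h1 := h.nat (rf X x)
  obtain ⟨z⟩ := (isFld_rp X x).ne
  rcases inCell_or_wB H hΩ hirr (isFld_rp X x) (rf X x ≫ g) with h2 | h2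
  · have h3 := (inCell_iff H hΩ _).1 h2 ⟨z, rfl⟩
    rw [Over.comp_left, Scheme.Hom.comp_apply, rf_apply] at h3
    exact h3
  · exact absurd h2 (not_wB_of_comm H hΩ hm z h1)

include hΩ hirr in
/-- **The centralizer of a multiple of the coroot is the torus.** -/
theorem exists_of_comm {m : ℕ} (hm : m ≠ 0) {X : Over S} {g : X ⟶ G} (h : Comm H m X g) :
    ∃ t : X ⟶ T, t ≫ i = g := by
  obtain ⟨a, t, b, hg⟩ := inCell_of_comm H hΩ hirr hm h
  have key : ∀ x : X.left, ∃ (X' : Over S) (f : X' ⟶ X), Flat f.left ∧ x ∈ Set.range f.left ∧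
      f.left.appTop a = 0 ∧ f.left.appTop b = 0 := by
    intro x
    obtain ⟨X', f, v, hf, hx, hv, hv', -⟩ := Fn.exists_generic X x
    refine ⟨X', f, hf, hx, ?_⟩
    obtain ⟨v, rfl⟩ : IsUnit v := by
      have := hv 0
      rwa [map_zero, sub_zero] at this
    have h1 := h X' f v
    rw [hg] at h1
    simp only [MonObj.comp_mul, q_nat, t_nat, p_nat] at h1
    set D := H.sys X' with hD
    have e1 : D.q (f.left.appTop a) * D.t (f ≫ t) * D.p (f.left.appTop b) * D.h (v ^ m) =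
        D.q (f.left.appTop a) * D.t ((f ≫ t) * D.av (v ^ m)) *
          D.p ((((v ^ m)⁻¹ : Γ(X'.left, ⊤)ˣ) : Γ(X'.left, ⊤)) ^ 2 * f.left.appTop b) := by
      rw [_root_.mul_assoc, D.ph, map_mul, ← R1.h_apply]
      simp only [_root_.mul_assoc]
    have e2 : D.h (v ^ m) * (D.q (f.left.appTop a) * D.t (f ≫ t) * D.p (f.left.appTop b)) =
        D.q ((((v ^ m)⁻¹ : Γ(X'.left, ⊤)ˣ) : Γ(X'.left, ⊤)) ^ 2 * f.left.appTop a) *
          D.t (D.av (v ^ m) * (f ≫ t)) * D.p (f.left.appTop b) := by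
      rw [← _root_.mul_assoc, ← _root_.mul_assoc, D.hq, map_mul, ← R1.h_apply]
      simp only [_root_.mul_assoc]
    rw [e1, e2] at h1
    obtain ⟨h2, -, h3⟩ := cell_inj H hΩ h1
    have hu := hv' (m * 2) (by positivity)
    have e3 : ∀ c : Γ(X'.left, ⊤), c = (((v ^ m)⁻¹ : Γ(X'.left, ⊤)ˣ) : Γ(X'.left, ⊤)) ^ 2 * c → c = 0 := by
      intro c hc
      have h4 : ((v : Γ(X'.left, ⊤)) ^ (m * 2) - 1) * c = 0 := by
        have h5 : ((v : Γ(X'.left, ⊤)) ^ (m * 2)) * (((v ^ m)⁻¹ : Γ(X'.left, ⊤)ˣ) : Γ(X'.left, ⊤)) ^ 2 = 1 := by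
          rw [← Units.val_pow_eq_pow_val, ← Units.val_pow_eq_pow_val, ← Units.val_mul, inv_pow, ← pow_mul,
            mul_inv_cancel, Units.val_one]
        linear_combination ((v : Γ(X'.left, ⊤)) ^ (m * 2)) * hc + c * h5
      exact (hu.mul_right_eq_zero).mp h4
    exact ⟨e3 _ h2, e3 _ h3.symm⟩
  have ha : a = 0 := Gen2.fn_ext fun x => by
    obtain ⟨X', f, hf, hx, h1, -⟩ := key x
    exact ⟨X', f, hf, hx, by rw [h1, map_zero]⟩
  have hb : b = 0 := Gen2.fn_ext fun x => by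
    obtain ⟨X', f, hf, hx, -, h1⟩ := key x
    exact ⟨X', f, hf, hx, by rw [h1, map_zero]⟩
  refine ⟨t, ?_⟩
  rw [hg, ha, hb, R1.q_zero, R1.p_zero, _root_.one_mul, _root_.mul_one]
  rfl

omit [LocallyOfFiniteType G.hom] in
lemma zpow_eq {X : Over S} (z : X ⟶ Red.Gm S) (n : ℤ) :
    ((z ≫ av) ^ n) ≫ i = (H.sys X).h (uPt z ^ n) := by
  rw [R1.h_apply, map_zpow, ← comp_av H, comp_i H]

omit [LocallyOfFiniteType G.hom] in
/-- translation of the commutation condition -/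
lemma comm_of_zpow {n : ℤ} {X : Over S} {g : X ⟶ G}
    (h : ∀ (X' : Over S) (y : X' ⟶ X) (z : X' ⟶ Red.Gm S),
        (y ≫ g) * (((z ≫ av) ^ n) ≫ i) = (((z ≫ av) ^ n) ≫ i) * (y ≫ g)) : Comm H n.natAbs X g := by
  intro X' f u
  have h1 := h X' f (gmPt X' u)
  rw [zpow_eq H, uPt_gmPt] at h1
  rcases Int.natAbs_eq n with hn | hn
  · rw [hn, zpow_natCast] at h1
    exact h1
  · rw [hn, zpow_neg, zpow_natCast, map_inv] at h1
    have h2 : Commute (f ≫ g) ((H.sys X').h (u ^ n.natAbs))⁻¹ := h1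
    exact (Commute.inv_right_iff.mp h2)

end K212.R1Cent
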