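import Groth.Agent.Red.K212.Gen
import Groth.Agent.Red.K212.R1Mk
import Groth.Agent.Red.K212.R1Alg2

/-!
# Rank one systems: conjugation by the Weyl elements

For a rank one system over any base (`R1Hyp`), with `w(x) = p₊(x) p₋(-x⁻¹) p₊(x)`:
`w(x) p₋(y) w(x)⁻¹ = p₊(-x² y)`, `w(x) p₊(y) w(x)⁻¹ = p₋(-x⁻² y)`,
`w(x) = p₋(-x⁻¹) p₊(x) p₋(-x⁻¹)`, `w(x) p₋(y) = p₋(-1/(x² y)) α^*(x y) p₊(1/y)` for units `y`.
-/

set_option autoImplicit false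
universe u
open CategoryTheory MonoidalCategory CartesianMonoidalCategory MonObj GrpObj AlgebraicGeometry Limits


namespace K212.R1Conj

open Groth.Agent.Sga3B.DSPts Groth.Agent.Sga3B.GaPts Groth.Agent.Sga3.H811.Pts K212.R1Alg K212.R1Mk
open K212.Gen

variable {S : Scheme.{u}} {G T : Over S} [GrpObj G] [GrpObj T]
  {i : T ⟶ G} {α : T ⟶ Red.Gm S} {pp pm : Red.Ga S ⟶ G} {av : Red.Gm S ⟶ T}
  (H : R1Hyp i α pp pm av)

/-- pullback of units -/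
noncomputable abbrev uMap {X X' : Over S} (f : X' ⟶ X) : Γ(X.left, ⊤)ˣ →* Γ(X'.left, ⊤)ˣ :=
  Units.map (f.left.appTop.hom : Γ(X.left, ⊤) →* Γ(X'.left, ⊤))

lemma uMap_val {X X' : Over S} (f : X' ⟶ X) (z : Γ(X.left, ⊤)ˣ) :
    ((uMap f z : Γ(X'.left, ⊤)ˣ) : Γ(X'.left, ⊤)) = f.left.appTop z := rfl

section nat

variable {X X' : Over S} (f : X' ⟶ X)

lemma p_nat (x : Γ(X.left, ⊤)) : f ≫ (H.sys X).p x = (H.sys X').p (f.left.appTop x) := by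
  change f ≫ gaPt X x ≫ pp = gaPt X' _ ≫ pp
  rw [← Category.assoc, comp_gaPt]

lemma q_nat (x : Γ(X.left, ⊤)) : f ≫ (H.sys X).q x = (H.sys X').q (f.left.appTop x) := by
  change f ≫ gaPt X x ≫ pm = gaPt X' _ ≫ pm
  rw [← Category.assoc, comp_gaPt]

lemma t_nat (t : X ⟶ T) : f ≫ (H.sys X).t t = (H.sys X').t (f ≫ t) := by
  change f ≫ t ≫ i = (f ≫ t) ≫ i
  rw [Category.assoc]

lemma ch_nat (t : X ⟶ T) : (H.sys X').ch (f ≫ t) = uMap f ((H.sys X).ch t) := by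
  apply Units.ext
  change Red.gmFn ((f ≫ t) ≫ α) = f.left.appTop (Red.gmFn (t ≫ α))
  rw [Category.assoc, gmFn_comp]

lemma av_nat (z : Γ(X.left, ⊤)ˣ) : f ≫ (H.sys X).av z = (H.sys X').av (uMap f z) := by
  change f ≫ gmPt X z ≫ av = gmPt X' _ ≫ av
  rw [← Category.assoc, comp_gmPt]

lemma h_nat (z : Γ(X.left, ⊤)ˣ) : f ≫ (H.sys X).h z = (H.sys X').h (uMap f z) := by
  rw [R1.h_apply, R1.h_apply, t_nat, av_nat]

lemma w_nat (z : Γ(X.left, ⊤)ˣ) : f ≫ (H.sys X).w z = (H.sys X').w (uMap f z) := by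
  rw [R1.w_def, R1.w_def, MonObj.comp_mul, MonObj.comp_mul, p_nat, q_nat, map_neg]
  rfl

end nat

variable {X : Over S}

/-- conjugation of the negative root group by `w(x)`, for a unit coordinate -/
lemma w_q_unit (x y : Γ(X.left, ⊤)ˣ) : (H.sys X).w x * (H.sys X).q y =
    (H.sys X).p (-((x : Γ(X.left, ⊤)) ^ 2 * y)) * (H.sys X).w x := by
  refine eq_of_generic _ _ fun X' f v hf hv => ?_
  rw [MonObj.comp_mul, MonObj.comp_mul, w_nat, q_nat, p_nat, map_neg, map_mul, map_pow]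
  have h0 : IsUnit v := by
    have := hv 0
    rwa [map_zero, sub_zero] at this
  have h1 : IsUnit (v - 1) := by
    have := hv 1
    rwa [map_one] at this
  obtain ⟨v, rfl⟩ := h0
  obtain ⟨v', hv'⟩ := h1
  have := (H.sys X').w_conj_q_of (uMap f x) (uMap f y) (v' * (uMap f y)⁻¹ * (uMap f x)⁻¹) v (by
    push_cast
    rw [hv']
    have e1 := Units.inv_mul (uMap f x)
    have e2 := Units.inv_mul (uMap f y)
    linear_combination (-(v - 1 : Γ(X'.left, ⊤))) * e2 -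
      ((v - 1 : Γ(X'.left, ⊤)) * ((uMap f y)⁻¹ : Γ(X'.left, ⊤)ˣ) * (uMap f y : Γ(X'.left, ⊤)ˣ)) * e1)
  exact this

/-- conjugation of the negative root group by `w(x)` -/
theorem w_q (x : Γ(X.left, ⊤)ˣ) (y : Γ(X.left, ⊤)) : (H.sys X).w x * (H.sys X).q y =
    (H.sys X).p (-((x : Γ(X.left, ⊤)) ^ 2 * y)) * (H.sys X).w x := by
  refine eq_of_generic _ _ fun X' f v hf hv => ?_
  rw [MonObj.comp_mul, MonObj.comp_mul, w_nat, q_nat, p_nat, map_neg, map_mul, map_pow]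
  obtain ⟨v', hv'⟩ := hv y
  obtain ⟨v, rfl⟩ : IsUnit v := by
    have := hv 0
    rwa [map_zero, sub_zero] at this
  have e1 : f.left.appTop y = v + ((-v' : Γ(X'.left, ⊤)ˣ) : Γ(X'.left, ⊤)) := by
    rw [Units.val_neg, hv']; ring
  have e2 : -((f.left.appTop x) ^ 2 * f.left.appTop y) =
      -(((uMap f x : Γ(X'.left, ⊤)ˣ) : Γ(X'.left, ⊤)) ^ 2 * v) +
        -(((uMap f x : Γ(X'.left, ⊤)ˣ) : Γ(X'.left, ⊤)) ^ 2 * ((-v' : Γ(X'.left, ⊤)ˣ) : Γ(X'.left, ⊤))) := by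
    rw [e1, uMap_val]; ring
  rw [e2, e1, R1.q_add, R1.p_add, _root_.mul_assoc, ← w_q_unit, ← _root_.mul_assoc, w_q_unit, ← _root_.mul_assoc]

/-- conjugation of the positive root group by `w(x)` -/
theorem w_p (x : Γ(X.left, ⊤)ˣ) (y : Γ(X.left, ⊤)) : (H.sys X).w x * (H.sys X).p y =
    (H.sys X).q (-((((x⁻¹ : Γ(X.left, ⊤)ˣ) : Γ(X.left, ⊤))) ^ 2 * y)) * (H.sys X).w x :=
  (H.sys X).w_p_of x (w_q H x) y

/-- the braid relation -/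
theorem w_eq_braid (x : Γ(X.left, ⊤)ˣ) : (H.sys X).w x =
    (H.sys X).q (-(((x⁻¹ : Γ(X.left, ⊤)ˣ) : Γ(X.left, ⊤)))) * (H.sys X).p x *
      (H.sys X).q (-(((x⁻¹ : Γ(X.left, ⊤)ˣ) : Γ(X.left, ⊤)))) :=
  (H.sys X).w_eq_of x (w_q H x)

/-- `w(x) p₋(y)` is in the cell for a unit `y` -/
theorem w_q_cell (x y : Γ(X.left, ⊤)ˣ) : (H.sys X).w x * (H.sys X).q y =
    (H.sys X).q (-((x⁻¹ ^ 2 * y⁻¹ : Γ(X.left, ⊤)ˣ) : Γ(X.left, ⊤))) * (H.sys X).h (x * y) *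
      (H.sys X).p ((y⁻¹ : Γ(X.left, ⊤)ˣ) : Γ(X.left, ⊤)) :=
  (H.sys X).w_q_cell_of x y (w_q H x y)

end K212.R1Conj
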