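import Groth.Agent.Red.K212.R1Geo
import Groth.Agent.Red.K212.Glue
import Groth.Agent.Sga3B.Pts

/-!
# A rank one group is generated by its torus and root groups, with the rank one relations

`exists_ext`: let `(i, α, p₊, p₋, α^*)` be a rank one system in `G` with open cell and irreducible geometric
fibres, and `(i'', α, p₊'', p₋'', α^*)` a rank one system in any group `G'` with the same torus, root and coroot.
Then there is exactly one homomorphism `f : G ⟶ G'` with `i ≫ f = i''`, `p₊ ≫ f = p₊''`, `p₋ ≫ f = p₋''`.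
-/

set_option autoImplicit false
universe u
open CategoryTheory MonoidalCategory CartesianMonoidalCategory MonObj GrpObj AlgebraicGeometry Limits

namespace K212.R1Ext

open Groth.Agent.Sga3B.DSPts Groth.Agent.Sga3B.GaPts Groth.Agent.Sga3.H811.Pts K212.R1Alg K212.R1Mk
open K212.R1Conj K212.R1Geo K212.Gen

variable {S : Scheme.{u}} {G T : Over S} [GrpObj G] [GrpObj T]
  {i : T ⟶ G} {α : T ⟶ Red.Gm S} {pp pm : Red.Ga S ⟶ G} {av : Red.Gm S ⟶ T}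
  (H : R1Hyp i α pp pm av)

/-- `p(b) q(u)` in the translated cell -/
lemma p_q_unit {X : Over S} (b : Γ(X.left, ⊤)) (u : Γ(X.left, ⊤)ˣ) :
    (H.sys X).p b * (H.sys X).q u = (H.sys X).w 1 * ((H.sys X).q (-(b + (u⁻¹ : Γ(X.left, ⊤)ˣ))) *
      (H.sys X).h (-u) * (H.sys X).p (u⁻¹ : Γ(X.left, ⊤)ˣ)) := by
  set D := H.sys X
  have e1 : D.w (-u⁻¹) = D.p (-((u⁻¹ : Γ(X.left, ⊤)ˣ) : Γ(X.left, ⊤))) * D.q u *
      D.p (-((u⁻¹ : Γ(X.left, ⊤)ˣ) : Γ(X.left, ⊤))) := by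
    rw [R1.w_def, inv_neg, _root_.inv_inv, Units.val_neg, Units.val_neg, neg_neg]
  have e2 : D.w (-u⁻¹) = D.w 1 * D.h (-u) := by
    have h1 := D.w_mul' (-u⁻¹) 1
    rw [_root_.mul_one, ← map_inv, inv_neg, _root_.inv_inv] at h1
    exact h1
  have e3 : D.q u = D.p (u⁻¹ : Γ(X.left, ⊤)ˣ) * (D.w 1 * D.h (-u)) * D.p (u⁻¹ : Γ(X.left, ⊤)ˣ) := by
    rw [← e2, e1, R1.p_neg]
    group
  have e4 : D.p b * D.p (u⁻¹ : Γ(X.left, ⊤)ˣ) * D.w 1 = D.w 1 * D.q (-(b + (u⁻¹ : Γ(X.left, ⊤)ˣ))) := by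
    rw [← R1.p_add, p_w]
  have e5 : D.p b * D.q u = (D.p b * D.p (u⁻¹ : Γ(X.left, ⊤)ˣ) * D.w 1) * D.h (-u) *
      D.p (u⁻¹ : Γ(X.left, ⊤)ˣ) := by
    rw [e3]
    simp only [_root_.mul_assoc]
  rw [e5, e4]
  simp only [_root_.mul_assoc]

/-- the cell in normal form, multiplied on the right by `t p` -/
lemma cell_mul_tp {X : Over S} (a x : Γ(X.left, ⊤)) (s : X ⟶ T) (t : X ⟶ T) (b : Γ(X.left, ⊤)) :
    (H.sys X).q a * (H.sys X).t s * (H.sys X).p x * ((H.sys X).t t * (H.sys X).p b) =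
      (H.sys X).q a * (H.sys X).t (s * t) * (H.sys X).p (((H.sys X).ch t)⁻¹ * x + b) := by
  rw [← _root_.mul_assoc, _root_.mul_assoc _ ((H.sys X).p x), (H.sys X).pt, R1.p_add, map_mul]
  simp only [_root_.mul_assoc]

/-- the commutation rule, multiplied on the right by `t p` -/
lemma p_cell {X : Over S} (c y : Γ(X.left, ⊤)) (z : Γ(X.left, ⊤)ˣ) (hz : (z : Γ(X.left, ⊤)) = 1 + c * y)
    (t : X ⟶ T) (b : Γ(X.left, ⊤)) :
    (H.sys X).p c * ((H.sys X).q y * (H.sys X).t t * (H.sys X).p b) =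
      (H.sys X).q ((z⁻¹ : Γ(X.left, ⊤)ˣ) * y) * (H.sys X).t ((H.sys X).av z * t) *
        (H.sys X).p (((H.sys X).ch t)⁻¹ * ((z⁻¹ : Γ(X.left, ⊤)ˣ) * c) + b) := by
  rw [← cell_mul_tp, ← R1.h_apply, ← (H.sys X).F' c y z hz]
  simp only [_root_.mul_assoc]

/-- the commutation rule for a unit, multiplied on the right by `t p` -/
lemma p_cell_unit {X : Over S} (c : Γ(X.left, ⊤)) (u : Γ(X.left, ⊤)ˣ) (t : X ⟶ T) (b : Γ(X.left, ⊤)) :
    (H.sys X).p c * ((H.sys X).q u * (H.sys X).t t * (H.sys X).p b) =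
      (H.sys X).w 1 * ((H.sys X).q (-(c + (u⁻¹ : Γ(X.left, ⊤)ˣ))) * (H.sys X).t ((H.sys X).av (-u) * t) *
        (H.sys X).p (((H.sys X).ch t)⁻¹ * (u⁻¹ : Γ(X.left, ⊤)ˣ) + b)) := by
  rw [← cell_mul_tp, ← R1.h_apply, _root_.mul_assoc ((H.sys X).q u), ← _root_.mul_assoc ((H.sys X).p c),
    p_q_unit]
  simp only [_root_.mul_assoc]

/-- the translated cell over the locus where the first coordinate is a unit -/
lemma w_cell_unit {X : Over S} (u : Γ(X.left, ⊤)ˣ) (t : X ⟶ T) (b : Γ(X.left, ⊤)) :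
    (H.sys X).w 1 * ((H.sys X).q u * (H.sys X).t t * (H.sys X).p b) =
      (H.sys X).q (-((1⁻¹ ^ 2 * u⁻¹ : Γ(X.left, ⊤)ˣ) : Γ(X.left, ⊤))) * (H.sys X).t ((H.sys X).av (1 * u) * t) *
        (H.sys X).p (((H.sys X).ch t)⁻¹ * (u⁻¹ : Γ(X.left, ⊤)ˣ) + b) := by
  rw [← cell_mul_tp, ← R1.h_apply, ← w_q_cell H 1 u]
  simp only [_root_.mul_assoc]

section

variable (hΩ : IsOpenImmersion (cell i pp pm).left)
include hΩ

/-- `w(1) q(y) t p(b)` is in the cell only if `y` is a unit -/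
lemma isUnit_of_inCell {X : Over S} {y : Γ(X.left, ⊤)} {t : X ⟶ T} {b : Γ(X.left, ⊤)}
    (h : InCell H X ((H.sys X).w 1 * ((H.sys X).q y * (H.sys X).t t * (H.sys X).p b))) : IsUnit y := by
  have h1 := (h.mul_p (-b)).mul_t t⁻¹
  have e1 : (H.sys X).w 1 * ((H.sys X).q y * (H.sys X).t t * (H.sys X).p b) * (H.sys X).p (-b) *
      (H.sys X).t t⁻¹ = (H.sys X).w 1 * (H.sys X).q y := by
    rw [R1.p_neg, map_inv]
    group
  rw [e1, w_eq_braid, inv_one, Units.val_one, _root_.mul_assoc, ← R1.q_add] at h1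
  have h2 := h1.q_mul 1
  rw [← _root_.mul_assoc, ← _root_.mul_assoc, ← R1.q_add, add_neg_cancel, R1.q_zero, _root_.one_mul,
    p_mul_q_inCell_iff H hΩ] at h2
  have e2 : 1 + 1 * (-1 + y) = y := by ring
  rwa [e2] at h2

end

variable {G' : Over S} [GrpObj G'] {i' : T ⟶ G'} {pp' pm' : Red.Ga S ⟶ G'}
  (H' : R1Hyp i' α pp' pm' av)

/-- the functional relation -/
def Rel (X : Over S) (g : X ⟶ G) (h : X ⟶ G') : Prop :=
  (∃ (a : Γ(X.left, ⊤)) (t : X ⟶ T) (b : Γ(X.left, ⊤)),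
    g = (H.sys X).q a * (H.sys X).t t * (H.sys X).p b ∧ h = (H'.sys X).q a * (H'.sys X).t t * (H'.sys X).p b) ∨
  (∃ (a : Γ(X.left, ⊤)) (t : X ⟶ T) (b : Γ(X.left, ⊤)),
    g = (H.sys X).w 1 * ((H.sys X).q a * (H.sys X).t t * (H.sys X).p b) ∧
    h = (H'.sys X).w 1 * ((H'.sys X).q a * (H'.sys X).t t * (H'.sys X).p b))

lemma Rel.nat {X X' : Over S} (f : X' ⟶ X) {g : X ⟶ G} {h : X ⟶ G'} (r : Rel H H' X g h) :
    Rel H H' X' (f ≫ g) (f ≫ h) := by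
  rcases r with ⟨a, t, b, rfl, rfl⟩ | ⟨a, t, b, rfl, rfl⟩
  · left
    refine ⟨f.left.appTop a, f ≫ t, f.left.appTop b, ?_, ?_⟩
    · rw [MonObj.comp_mul, MonObj.comp_mul, q_nat, t_nat, p_nat]
    · rw [MonObj.comp_mul, MonObj.comp_mul, q_nat, t_nat, p_nat]
  · right
    refine ⟨f.left.appTop a, f ≫ t, f.left.appTop b, ?_, ?_⟩
    · rw [MonObj.comp_mul, MonObj.comp_mul, MonObj.comp_mul, q_nat, t_nat, p_nat, w_nat, map_one]
    · rw [MonObj.comp_mul, MonObj.comp_mul, MonObj.comp_mul, q_nat, t_nat, p_nat, w_nat, map_one]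

section

variable (hΩ : IsOpenImmersion (cell i pp pm).left)
include hΩ

lemma Rel.mixed {X : Over S} {a a' : Γ(X.left, ⊤)} {t t' : X ⟶ T} {b b' : Γ(X.left, ⊤)}
    (h : (H.sys X).q a * (H.sys X).t t * (H.sys X).p b =
      (H.sys X).w 1 * ((H.sys X).q a' * (H.sys X).t t' * (H.sys X).p b')) :
    (H'.sys X).q a * (H'.sys X).t t * (H'.sys X).p b =
      (H'.sys X).w 1 * ((H'.sys X).q a' * (H'.sys X).t t' * (H'.sys X).p b') := by
  obtain ⟨u, rfl⟩ : IsUnit a' := isUnit_of_inCell H hΩ ⟨_, _, _, h.symm⟩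
  rw [w_cell_unit] at h ⊢
  obtain ⟨rfl, rfl, rfl⟩ := cell_inj H hΩ h
  rfl

lemma Rel.func {X : Over S} (g : X ⟶ G) (h h' : X ⟶ G') (r : Rel H H' X g h) (r' : Rel H H' X g h') :
    h = h' := by
  rcases r with ⟨a, t, b, rfl, rfl⟩ | ⟨a, t, b, rfl, rfl⟩ <;>
  rcases r' with ⟨a', t', b', e, rfl⟩ | ⟨a', t', b', e, rfl⟩
  · obtain ⟨rfl, rfl, rfl⟩ := cell_inj H hΩ e
    rfl
  · exact Rel.mixed H H' hΩ e
  · exact (Rel.mixed H H' hΩ e.symm).symm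
  · obtain ⟨rfl, rfl, rfl⟩ := cell_inj H hΩ (mul_left_cancel e)
    rfl

end

end K212.R1Ext
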