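import Groth.Agent.Red.K212.R1Ext

/-!
# A rank one group is generated by its torus and root groups: existence and uniqueness of the homomorphism
-/

set_option autoImplicit false
universe u
open CategoryTheory MonoidalCategory CartesianMonoidalCategory MonObj GrpObj AlgebraicGeometry Limits

namespace K212.R1Ext

open Groth.Agent.Sga3B.DSPts Groth.Agent.Sga3B.GaPts Groth.Agent.Sga3.H811.Pts K212.R1Alg K212.R1Mk
open K212.R1Conj K212.R1Geo K212.Gen

variable {S : Scheme.{u}} {G T : Over S} [GrpObj G] [GrpObj T]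
  {i : T ⟶ G} {α : T ⟶ Red.Gm S} {pp pm : Red.Ga S ⟶ G} {av : Red.Gm S ⟶ T}
  (H : R1Hyp i α pp pm av)
  {G' : Over S} [GrpObj G'] {i' : T ⟶ G'} {pp' pm' : Red.Ga S ⟶ G'}
  (H' : R1Hyp i' α pp' pm' av)

/-- the two evaluation rules -/
structure Ev (f : G ⟶ G') : Prop where
  cell : ∀ {X : Over S} (a : Γ(X.left, ⊤)) (t : X ⟶ T) (b : Γ(X.left, ⊤)),
    ((H.sys X).q a * (H.sys X).t t * (H.sys X).p b) ≫ f = (H'.sys X).q a * (H'.sys X).t t * (H'.sys X).p b
  wcell : ∀ {X : Over S} (a : Γ(X.left, ⊤)) (t : X ⟶ T) (b : Γ(X.left, ⊤)),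
    ((H.sys X).w 1 * ((H.sys X).q a * (H.sys X).t t * (H.sys X).p b)) ≫ f =
      (H'.sys X).w 1 * ((H'.sys X).q a * (H'.sys X).t t * (H'.sys X).p b)

variable {H H'} {f : G ⟶ G'} (hf : Ev H H' f)

/-- multiplicativity on the left -/
def Mul (H : R1Hyp i α pp pm av) (f : G ⟶ G') (X : Over S) (g : X ⟶ G) : Prop :=
  ∀ k : X ⟶ G, (g * k) ≫ f = (g ≫ f) * (k ≫ f)

lemma Mul.mul {X : Over S} {g g' : X ⟶ G} (h : Mul H f X g) (h' : Mul H f X g') : Mul H f X (g * g') := by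
  intro k
  rw [_root_.mul_assoc, h, h', h, _root_.mul_assoc]

include hf

lemma Ev.q {X : Over S} (a : Γ(X.left, ⊤)) : (H.sys X).q a ≫ f = (H'.sys X).q a := by
  have := hf.cell a (1 : X ⟶ T) 0
  rwa [map_one, map_one, R1.p_zero, R1.p_zero, _root_.mul_one, _root_.mul_one, _root_.mul_one,
    _root_.mul_one] at this

lemma Ev.p {X : Over S} (a : Γ(X.left, ⊤)) : (H.sys X).p a ≫ f = (H'.sys X).p a := by
  have := hf.cell 0 (1 : X ⟶ T) a
  rwa [map_one, map_one, R1.q_zero, R1.q_zero, _root_.mul_one, _root_.mul_one, _root_.one_mul,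
    _root_.one_mul] at this

lemma Ev.t {X : Over S} (t : X ⟶ T) : (H.sys X).t t ≫ f = (H'.sys X).t t := by
  have := hf.cell 0 t 0
  rwa [R1.q_zero, R1.q_zero, _root_.one_mul, _root_.one_mul, R1.p_zero, R1.p_zero, _root_.mul_one,
    _root_.mul_one] at this

lemma Ev.w {X : Over S} : (H.sys X).w 1 ≫ f = (H'.sys X).w 1 := by
  have := hf.wcell 0 (1 : X ⟶ T) 0
  rwa [R1.q_zero, R1.q_zero, _root_.one_mul, _root_.one_mul, R1.p_zero, R1.p_zero, _root_.mul_one,
    _root_.mul_one, map_one, map_one, _root_.mul_one, _root_.mul_one] at this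

lemma Ev.q_cell {X : Over S} (a : Γ(X.left, ⊤)) {k : X ⟶ G} (hk : InCell H X k) :
    ((H.sys X).q a * k) ≫ f = (H'.sys X).q a * (k ≫ f) := by
  obtain ⟨b, t, c, rfl⟩ := hk
  rw [hf.cell, ← _root_.mul_assoc, ← _root_.mul_assoc, ← R1.q_add, hf.cell, R1.q_add]
  simp only [_root_.mul_assoc]

lemma Ev.t_cell {X : Over S} (s : X ⟶ T) {k : X ⟶ G} (hk : InCell H X k) :
    ((H.sys X).t s * k) ≫ f = (H'.sys X).t s * (k ≫ f) := by
  obtain ⟨b, t, c, rfl⟩ := hk
  have e : ∀ {Gr : Type u} [Group Gr] (D : R1 Γ(X.left, ⊤) Gr (X ⟶ T)),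
      D.ch = (H.sys X).ch → D.t s * (D.q b * D.t t * D.p c) =
        D.q (((D.ch s)⁻¹ : Γ(X.left, ⊤)ˣ) * b) * D.t (s * t) * D.p c := by
    intro Gr _ D _
    rw [← _root_.mul_assoc, ← _root_.mul_assoc, D.tq, map_mul]
    simp only [_root_.mul_assoc]
  rw [e (H.sys X) rfl, hf.cell, hf.cell, e (H'.sys X) rfl]
  rfl

lemma Ev.w_cell {X : Over S} {k : X ⟶ G} (hk : InCell H X k) :
    ((H.sys X).w 1 * k) ≫ f = (H'.sys X).w 1 * (k ≫ f) := by
  obtain ⟨b, t, c, rfl⟩ := hk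
  rw [hf.wcell, hf.cell]

/-- left multiplication by a natural family, reduced to the two cells -/
lemma mul_of_local (hΩ : IsOpenImmersion (cell i pp pm).left)
    [LocallyOfFiniteType G.hom] (hirr : ∀ s : S, IrreducibleSpace (Red.geomFibre s G).left)
    {X : Over S} (g : X ⟶ G)
    (h : ∀ (Y : Over S) (y : Y ⟶ X) (k : Y ⟶ G), (InCell H Y k ∨ InW H Y k) →
      ((y ≫ g) * k) ≫ f = ((y ≫ g) ≫ f) * (k ≫ f)) : Mul H f X g := by
  intro k
  refine K212.Gen.eq_of_flat _ _ fun pt => ?_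
  obtain ⟨Y, y, hy, hpt, hk⟩ := exists_open H hΩ hirr k pt
  refine ⟨Y, y, inferInstance, hpt, ?_⟩
  rw [← Category.assoc, MonObj.comp_mul, h Y y (y ≫ k) hk, MonObj.comp_mul, Category.assoc, Category.assoc]

omit hf

/-- a function which does not vanish at a point is a unit near the point -/
lemma exists_open_unit {X : Over S} (a : Γ(X.left, ⊤)) {x : X.left} (hx : x ∈ X.left.basicOpen a) :
    ∃ (Y : Over S) (y : Y ⟶ X), IsOpenImmersion y.left ∧ x ∈ Set.range y.left ∧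
      IsUnit (y.left.appTop a) := by
  refine ⟨Over.mk ((X.left.basicOpen a).ι ≫ X.hom), Over.homMk (X.left.basicOpen a).ι rfl, ?_, ?_, ?_⟩
  · change IsOpenImmersion (X.left.basicOpen a).ι
    infer_instance
  · change x ∈ Set.range (X.left.basicOpen a).ι
    rw [Scheme.Opens.range_ι]; exact hx
  · change IsUnit ((X.left.basicOpen a).ι.appTop a)
    have h1 : (X.left.basicOpen a).ι ⁻¹ᵁ X.left.basicOpen a =
        (X.left.basicOpen a).toScheme.basicOpen ((X.left.basicOpen a).ι.appTop a) :=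
      Scheme.preimage_basicOpen_top _ _
    rw [Scheme.Opens.ι_preimage_self] at h1
    refine RingedSpace.isUnit_of_isUnit_germ _ ⊤ _ fun z hz => ?_
    have h2 : z ∈ (X.left.basicOpen a).toScheme.basicOpen ((X.left.basicOpen a).ι.appTop a) := by
      rw [← h1]; trivial
    exact (Scheme.mem_basicOpen_top _ _ _).mp h2

/-- near every point `1 + a b` or `b` is a unit -/
lemma exists_open_or {X : Over S} (a b : Γ(X.left, ⊤)) (x : X.left) :
    ∃ (Y : Over S) (y : Y ⟶ X), IsOpenImmersion y.left ∧ x ∈ Set.range y.left ∧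
      (IsUnit (1 + y.left.appTop a * y.left.appTop b) ∨ IsUnit (y.left.appTop b)) := by
  have key : x ∈ X.left.basicOpen (1 + a * b) ∨ x ∈ X.left.basicOpen b := by
    rw [Scheme.mem_basicOpen_top, Scheme.mem_basicOpen_top]
    by_contra hcon
    rw [not_or] at hcon
    obtain ⟨h1, h2⟩ := hcon
    rw [map_add, map_one, map_mul] at h1
    have h3 : X.left.presheaf.germ ⊤ x trivial b ∈ IsLocalRing.maximalIdeal (X.left.presheaf.stalk x) :=
      (IsLocalRing.mem_maximalIdeal _).mpr h2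
    have h4 := Ideal.mul_mem_left (IsLocalRing.maximalIdeal (X.left.presheaf.stalk x))
      (X.left.presheaf.germ ⊤ x trivial a) h3
    have h5 := (IsLocalRing.mem_maximalIdeal _).mpr h1
    have h6 := (Submodule.add_mem_iff_left _ h4).mp h5
    exact (Ideal.ne_top_iff_one _).mp (IsLocalRing.maximalIdeal.isMaximal _).ne_top h6
  rcases key with h | h
  · obtain ⟨Y, y, hy, hx, hu⟩ := exists_open_unit _ h
    refine ⟨Y, y, hy, hx, Or.inl ?_⟩
    rwa [map_add, map_one, map_mul] at hu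
  · obtain ⟨Y, y, hy, hx, hu⟩ := exists_open_unit _ h
    exact ⟨Y, y, hy, hx, Or.inr hu⟩

include hf

lemma Ev.p_cell {X : Over S} (c : Γ(X.left, ⊤)) {k : X ⟶ G} (hk : InCell H X k) :
    ((H.sys X).p c * k) ≫ f = (H'.sys X).p c * (k ≫ f) := by
  obtain ⟨y, t, b, rfl⟩ := hk
  refine K212.Gen.eq_of_flat _ _ fun pt => ?_
  obtain ⟨Y, g, hg, hpt, hu⟩ := exists_open_or c y pt
  refine ⟨Y, g, inferInstance, hpt, ?_⟩
  rw [← Category.assoc]
  rw [hf.cell]
  simp only [MonObj.comp_mul, p_nat, q_nat, t_nat]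
  set c' := g.left.appTop c
  set y' := g.left.appTop y
  rcases hu with ⟨z, hz⟩ | ⟨z, hz⟩
  · rw [K212.R1Ext.p_cell H c' y' z hz, K212.R1Ext.p_cell H' c' y' z hz, hf.cell]
    rfl
  · rw [← hz, p_cell_unit H, p_cell_unit H', hf.wcell]
    rfl

end K212.R1Ext
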