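import Groth.Agent.Red.K212.R1Ext2

/-!
# A rank one group is generated by its torus and root groups: conclusion
-/

set_option autoImplicit false
universe u
open CategoryTheory MonoidalCategory CartesianMonoidalCategory MonObj GrpObj AlgebraicGeometry Limits

namespace K212.R1Ext

open Groth.Agent.Sga3B.DSPts Groth.Agent.Sga3B.GaPts Groth.Agent.Sga3.H811.Pts K212.R1Alg K212.R1Mk
open K212.R1Conj K212.R1Geo K212.Gen

variable {S : Scheme.{u}} {G T : Over S} [GrpObj G] [GrpObj T]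
  {i : T ⟶ G} {α : T ⟶ Red.Gm S} {pp pm : Red.Ga S ⟶ G} {av : Red.Gm S ⟶ T}
  {H : R1Hyp i α pp pm av}
  {G' : Over S} [GrpObj G'] {i' : T ⟶ G'} {pp' pm' : Red.Ga S ⟶ G'}
  {H' : R1Hyp i' α pp' pm' av} {f : G ⟶ G'} (hf : Ev H H' f)
  (hΩ : IsOpenImmersion (cell i pp pm).left)
  [LocallyOfFiniteType G.hom] (hirr : ∀ s : S, IrreducibleSpace (Red.geomFibre s G).left)

include hf hΩ hirr

omit [LocallyOfFiniteType G.hom] hirr hΩ in
/-- decomposition of a point of the translated cell -/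
lemma inW_cases {X : Over S} {k : X ⟶ G} (hk : InCell H X k ∨ InW H X k) :
    InCell H X k ∨ ∃ k', InCell H X k' ∧ k = (H.sys X).w 1 * k' := by
  rcases hk with h | h
  · exact Or.inl h
  · exact Or.inr ⟨_, h, (mul_inv_cancel_left _ _).symm⟩

lemma mul_w {X : Over S} : Mul H f X ((H.sys X).w 1) := by
  refine mul_of_local hf hΩ hirr _ fun Y y k hk => ?_
  rw [w_nat, map_one]
  rcases inW_cases hf hk with h | ⟨k', h, rfl⟩
  · rw [hf.w_cell h, hf.w]
  · rw [hf.w_cell h, hf.w, ← _root_.mul_assoc, ← _root_.mul_assoc, R1.w_sq, R1.w_sq, R1.h_apply,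
      hf.t_cell _ h, R1.h_apply]
    rfl

lemma mul_q {X : Over S} (a : Γ(X.left, ⊤)) : Mul H f X ((H.sys X).q a) := by
  refine mul_of_local hf hΩ hirr _ fun Y y k hk => ?_
  rw [q_nat]
  set b := y.left.appTop a
  rcases inW_cases hf hk with h | ⟨k', h, rfl⟩
  · rw [hf.q_cell b h, hf.q]
  · have e1 : (H.sys Y).q b * ((H.sys Y).w 1 * k') = (H.sys Y).w 1 * ((H.sys Y).p (-b) * k') := by
      rw [← _root_.mul_assoc, q_w, _root_.mul_assoc]
    have e2 : (H'.sys Y).q b * ((H'.sys Y).w 1 * (k' ≫ f)) =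
        (H'.sys Y).w 1 * ((H'.sys Y).p (-b) * (k' ≫ f)) := by
      rw [← _root_.mul_assoc, q_w, _root_.mul_assoc]
    rw [e1, mul_w hf hΩ hirr, hf.w, hf.p_cell _ h, hf.w_cell h, hf.q, e2]

lemma mul_p {X : Over S} (a : Γ(X.left, ⊤)) : Mul H f X ((H.sys X).p a) := by
  refine mul_of_local hf hΩ hirr _ fun Y y k hk => ?_
  rw [p_nat]
  set b := y.left.appTop a
  rcases inW_cases hf hk with h | ⟨k', h, rfl⟩
  · rw [hf.p_cell b h, hf.p]
  · have e1 : (H.sys Y).p b * ((H.sys Y).w 1 * k') = (H.sys Y).w 1 * ((H.sys Y).q (-b) * k') := by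
      rw [← _root_.mul_assoc, p_w, _root_.mul_assoc]
    have e2 : (H'.sys Y).p b * ((H'.sys Y).w 1 * (k' ≫ f)) =
        (H'.sys Y).w 1 * ((H'.sys Y).q (-b) * (k' ≫ f)) := by
      rw [← _root_.mul_assoc, p_w, _root_.mul_assoc]
    rw [e1, mul_w hf hΩ hirr, hf.w, hf.q_cell _ h, hf.w_cell h, hf.p, e2]

lemma mul_t {X : Over S} (s : X ⟶ T) : Mul H f X ((H.sys X).t s) := by
  refine mul_of_local hf hΩ hirr _ fun Y y k hk => ?_
  rw [t_nat]
  set b := y ≫ s
  rcases inW_cases hf hk with h | ⟨k', h, rfl⟩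
  · rw [hf.t_cell b h, hf.t]
  · have e1 : (H.sys Y).t b * ((H.sys Y).w 1 * k') =
        (H.sys Y).w 1 * ((H.sys Y).t (((H.sys Y).av ((H.sys Y).ch b))⁻¹ * b) * k') := by
      rw [← _root_.mul_assoc, t_w', _root_.mul_assoc]
    have e2 : (H'.sys Y).t b * ((H'.sys Y).w 1 * (k' ≫ f)) =
        (H'.sys Y).w 1 * ((H'.sys Y).t (((H'.sys Y).av ((H'.sys Y).ch b))⁻¹ * b) * (k' ≫ f)) := by
      rw [← _root_.mul_assoc, t_w', _root_.mul_assoc]
    rw [e1, mul_w hf hΩ hirr, hf.w, hf.t_cell _ h, hf.w_cell h, hf.t, e2]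
    rfl

theorem isMonHom_of_ev : IsMonHom f := by
  refine Groth.Agent.Sga3B.Pts.isMonHom_of_points _ fun X g k => ?_
  refine K212.Gen.eq_of_flat _ _ fun pt => ?_
  obtain ⟨Y, y, hy, hpt, hg⟩ := exists_open H hΩ hirr g pt
  refine ⟨Y, y, inferInstance, hpt, ?_⟩
  rw [← Category.assoc, MonObj.comp_mul, MonObj.comp_mul, ← Category.assoc, ← Category.assoc]
  have hc : ∀ g', InCell H Y g' → Mul H f Y g' := by
    rintro _ ⟨a, t, b, rfl⟩
    exact ((mul_q hf hΩ hirr a).mul (mul_t hf hΩ hirr t)).mul (mul_p hf hΩ hirr b)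
  rcases inW_cases hf hg with h | ⟨g', h, h'⟩
  · exact hc _ h _
  · rw [h']
    exact (mul_w hf hΩ hirr).mul (hc _ h) _

omit hf

variable (H H')

include H H' in
/-- **The extension theorem for rank one systems**: existence. -/
theorem exists_ext : ∃ f : G ⟶ G', IsMonHom f ∧ i ≫ f = i' ∧ pp ≫ f = pp' ∧ pm ≫ f = pm' := by
  obtain ⟨f, hf⟩ := K212.Glue.exists_glue (fun X g h => Rel H H' X g h) (fun {X X'} y g h r => Rel.nat H H' y r)
    (fun {X} g h h' r r' => Rel.func H H' hΩ g h h' r r') (fun x => by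
      obtain ⟨X, g, hg, hx, h⟩ := exists_open H hΩ hirr (𝟙 G) x
      refine ⟨X, g, hg, hx, ?_⟩
      rw [Category.comp_id] at h
      rcases h with ⟨a, t, b, rfl⟩ | ⟨a, t, b, h⟩
      · exact ⟨_, Or.inl ⟨a, t, b, rfl, rfl⟩⟩
      · exact ⟨_, Or.inr ⟨a, t, b, by rw [← h, mul_inv_cancel_left], rfl⟩⟩)
  have hev : Ev H H' f := ⟨fun {X} a t b => hf X _ _ (Or.inl ⟨a, t, b, rfl, rfl⟩),
    fun {X} a t b => hf X _ _ (Or.inr ⟨a, t, b, rfl, rfl⟩)⟩
  refine ⟨f, isMonHom_of_ev hev hΩ hirr, ?_, ?_, ?_⟩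
  · have h1 := hev.t (𝟙 T)
    rw [← comp_i H, ← comp_i H', Category.id_comp, Category.id_comp] at h1
    exact h1
  · have h1 := hev.p (Red.gaFn (𝟙 (Red.Ga S)))
    rw [← comp_pp H, ← comp_pp H', Category.id_comp, Category.id_comp] at h1
    exact h1
  · have h1 := hev.q (Red.gaFn (𝟙 (Red.Ga S)))
    rw [← comp_pm H, ← comp_pm H', Category.id_comp, Category.id_comp] at h1
    exact h1

include H in
/-- **The extension theorem for rank one systems**: uniqueness. -/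
theorem hom_ext {f f' : G ⟶ G'} [IsMonHom f] [IsMonHom f'] (hi : i ≫ f = i ≫ f') (hp : pp ≫ f = pp ≫ f')
    (hm : pm ≫ f = pm ≫ f') : f = f' := by
  refine K212.Gen.eq_of_flat _ _ fun x => ?_
  obtain ⟨X, g, hg, hx, h⟩ := exists_open H hΩ hirr (𝟙 G) x
  refine ⟨X, g, inferInstance, hx, ?_⟩
  rw [Category.comp_id] at h
  have ep : ∀ a : Γ(X.left, ⊤), (H.sys X).p a ≫ f = (H.sys X).p a ≫ f' := by
    intro a
    change (gaPt X a ≫ pp) ≫ f = (gaPt X a ≫ pp) ≫ f'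
    rw [Category.assoc, Category.assoc, hp]
  have eq : ∀ a : Γ(X.left, ⊤), (H.sys X).q a ≫ f = (H.sys X).q a ≫ f' := by
    intro a
    change (gaPt X a ≫ pm) ≫ f = (gaPt X a ≫ pm) ≫ f'
    rw [Category.assoc, Category.assoc, hm]
  have et : ∀ t : X ⟶ T, (H.sys X).t t ≫ f = (H.sys X).t t ≫ f' := by
    intro t
    rw [← comp_i H, Category.assoc, Category.assoc, hi]
  have hc : ∀ k : X ⟶ G, InCell H X k → k ≫ f = k ≫ f' := by
    rintro _ ⟨a, t, b, rfl⟩
    rw [MonObj.mul_comp, MonObj.mul_comp, MonObj.mul_comp, MonObj.mul_comp, ep, eq, et]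
  have hw : (H.sys X).w 1 ≫ f = (H.sys X).w 1 ≫ f' := by
    rw [R1.w_def, MonObj.mul_comp, MonObj.mul_comp, MonObj.mul_comp, MonObj.mul_comp, ep, eq]
  rcases h with h | h
  · exact hc _ h
  · have h1 := hc _ h
    rw [MonObj.mul_comp, MonObj.mul_comp, GrpObj.inv_comp, GrpObj.inv_comp, hw] at h1
    exact mul_left_cancel h1

end K212.R1Ext
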