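import Groth.Agent.Red.K212.Fn
import Groth.Agent.Red.K212.Kpt
import Groth.Agent.Red.K212.Weight
import Groth.Agent.Red.K212.R1Conj

/-!
# Geometry of rank one systems: `G = Ω ∪ wΩ`

For a rank one system (`R1Hyp`) with open cell `Ω = p₋ · T · p₊` in a group with irreducible geometric
fibres: `w ∉ Ω`, `p₊(x) p₋(y) ∈ Ω` iff `1 + xy` is a unit, `G = Ω ∪ w(1) Ω`.
-/

set_option autoImplicit false
universe u
open CategoryTheory MonoidalCategory CartesianMonoidalCategory MonObj GrpObj AlgebraicGeometry Limits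

namespace K212.R1Geo

open Groth.Agent.Sga3B.DSPts Groth.Agent.Sga3B.GaPts Groth.Agent.Sga3.H811.Pts K212.R1Alg K212.R1Mk
open K212.Gen K212.R1Conj K212.Weight K212.Fn K212.Kpt

variable {S : Scheme.{u}} {G T : Over S} [GrpObj G] [GrpObj T]
  {i : T ⟶ G} {α : T ⟶ Red.Gm S} {pp pm : Red.Ga S ⟶ G} {av : Red.Gm S ⟶ T}
  (H : R1Hyp i α pp pm av) (hΩ : IsOpenImmersion (cell i pp pm).left)

/-- being in the cell -/
def InCell (X : Over S) (g : X ⟶ G) : Prop :=
  ∃ (a : Γ(X.left, ⊤)) (t : X ⟶ T) (b : Γ(X.left, ⊤)),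
    g = (H.sys X).q a * (H.sys X).t t * (H.sys X).p b

lemma cell_eq {X : Over S} (a b : Γ(X.left, ⊤)) (t : X ⟶ T) :
    (H.sys X).q a * (H.sys X).t t * (H.sys X).p b = lift (lift (gaPt X a) t) (gaPt X b) ≫ cell i pp pm := by
  rw [lift_cell]
  rfl

include hΩ in
lemma inCell_iff {X : Over S} (g : X ⟶ G) :
    InCell H X g ↔ Set.range g.left ⊆ Set.range (cell i pp pm).left := by
  constructor
  · rintro ⟨a, t, b, rfl⟩
    rw [cell_eq]
    exact range_comp_subset _ _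
  · intro h
    obtain ⟨w, hw⟩ := exists_lift_cell g h
    refine ⟨Red.gaFn (w ≫ fst _ _ ≫ fst _ _), w ≫ fst _ _ ≫ snd _ _, Red.gaFn (w ≫ snd _ _), ?_⟩
    rw [← hw, comp_cell]
    change _ = (gaPt X _ ≫ pm) * (_ ≫ i) * (gaPt X _ ≫ pp)
    rw [gaPt_gaFn, gaPt_gaFn]

include hΩ in
lemma cell_inj {X : Over S} {a b a' b' : Γ(X.left, ⊤)} {t t' : X ⟶ T}
    (h : (H.sys X).q a * (H.sys X).t t * (H.sys X).p b =
      (H.sys X).q a' * (H.sys X).t t' * (H.sys X).p b') : a = a' ∧ t = t' ∧ b = b' := by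
  have hmono : Mono (cell i pp pm) := Over.mono_of_mono_left (cell i pp pm)
  rw [cell_eq, cell_eq, cancel_mono] at h
  have h2 := congrArg (fun k => k ≫ fst _ _ ≫ fst _ _) h
  have h3 := congrArg (fun k => k ≫ fst _ _ ≫ snd _ _) h
  have h4 := congrArg (fun k => k ≫ snd _ _) h
  simp only [lift_fst_assoc, lift_fst, lift_snd] at h2 h3 h4
  refine ⟨?_, h3, ?_⟩
  · have := congrArg Red.gaFn h2
    simpa using this
  · have := congrArg Red.gaFn h4
    simpa using this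

variable {H}

lemma InCell.nat {X X' : Over S} (f : X' ⟶ X) {g : X ⟶ G} (h : InCell H X g) : InCell H X' (f ≫ g) := by
  obtain ⟨a, t, b, rfl⟩ := h
  refine ⟨f.left.appTop a, f ≫ t, f.left.appTop b, ?_⟩
  rw [MonObj.comp_mul, MonObj.comp_mul, q_nat, t_nat, p_nat]

lemma inCell_one {X : Over S} : InCell H X 1 :=
  ⟨0, 1, 0, by rw [R1.q_zero, R1.p_zero, map_one, _root_.one_mul, _root_.one_mul]⟩

lemma InCell.mul_p {X : Over S} {g : X ⟶ G} (h : InCell H X g) (x : Γ(X.left, ⊤)) :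
    InCell H X (g * (H.sys X).p x) := by
  obtain ⟨a, t, b, rfl⟩ := h
  exact ⟨a, t, b + x, by rw [R1.p_add]; simp only [_root_.mul_assoc]⟩

lemma InCell.mul_t {X : Over S} {g : X ⟶ G} (h : InCell H X g) (s : X ⟶ T) :
    InCell H X (g * (H.sys X).t s) := by
  obtain ⟨a, t, b, rfl⟩ := h
  exact ⟨a, t * s, ((H.sys X).ch s)⁻¹ * b, by
    rw [_root_.mul_assoc _ ((H.sys X).p b), (H.sys X).pt, map_mul]
    simp only [_root_.mul_assoc]⟩

lemma InCell.q_mul {X : Over S} {g : X ⟶ G} (h : InCell H X g) (x : Γ(X.left, ⊤)) :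
    InCell H X ((H.sys X).q x * g) := by
  obtain ⟨a, t, b, rfl⟩ := h
  exact ⟨x + a, t, b, by rw [R1.q_add]; simp only [_root_.mul_assoc]⟩

lemma InCell.t_mul {X : Over S} {g : X ⟶ G} (h : InCell H X g) (s : X ⟶ T) :
    InCell H X ((H.sys X).t s * g) := by
  obtain ⟨a, t, b, rfl⟩ := h
  exact ⟨((H.sys X).ch s)⁻¹ * a, s * t, b, by
    rw [← _root_.mul_assoc, ← _root_.mul_assoc, (H.sys X).tq, map_mul]
    simp only [_root_.mul_assoc]⟩

lemma InCell.h_mul {X : Over S} {g : X ⟶ G} (h : InCell H X g) (z : Γ(X.left, ⊤)ˣ) :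
    InCell H X ((H.sys X).h z * g) := h.t_mul _

lemma InCell.mul_h {X : Over S} {g : X ⟶ G} (h : InCell H X g) (z : Γ(X.left, ⊤)ˣ) :
    InCell H X (g * (H.sys X).h z) := h.mul_t _

variable (H)

include hΩ in
/-- The Weyl elements are nowhere in the cell. -/
lemma w_not_inCell {X : Over S} (pt : X.left) (x : Γ(X.left, ⊤)ˣ) : ¬ InCell H X ((H.sys X).w x) := by
  rintro ⟨a, t, b, h⟩
  obtain ⟨X', f, v, hf, ⟨pt', -⟩, hv, hv', -⟩ := Fn.exists_generic X pt
  obtain ⟨v, rfl⟩ : IsUnit v := by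
    have := hv 0
    rwa [map_zero, sub_zero] at this
  have h1 := congrArg (fun k => f ≫ k) h
  simp only [MonObj.comp_mul, w_nat, q_nat, t_nat, p_nat] at h1
  set D := H.sys X' with hD
  have h2 : D.h v * D.w (uMap f x) * (D.h v)⁻¹ = D.h v * D.h v * D.w (uMap f x) := by
    have h3 := D.w_h (uMap f x) v⁻¹
    rw [map_inv, _root_.inv_inv] at h3
    rw [_root_.mul_assoc, h3, _root_.mul_assoc]
  rw [h1] at h2
  have h3 : D.h v * (D.q (f.left.appTop a) * D.t (f ≫ t) * D.p (f.left.appTop b)) * (D.h v)⁻¹ =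
      D.q (((v⁻¹ : Γ(X'.left, ⊤)ˣ) : Γ(X'.left, ⊤)) ^ 2 * f.left.appTop a) * D.t (f ≫ t) *
        D.p ((v : Γ(X'.left, ⊤)) ^ 2 * f.left.appTop b) := by
    rw [mul_inv_eq_iff_eq_mul, _root_.mul_assoc _ (D.p _) (D.h v), ← D.hp, ← _root_.mul_assoc, ← _root_.mul_assoc,
      D.hq, _root_.mul_assoc (D.q _) (D.h v), ← D.t_h, ← _root_.mul_assoc, ← _root_.mul_assoc]
  have h4 : D.h v * D.h v * (D.q (f.left.appTop a) * D.t (f ≫ t) * D.p (f.left.appTop b)) =
      D.q (((v⁻¹ : Γ(X'.left, ⊤)ˣ) : Γ(X'.left, ⊤)) ^ 2 *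
        (((v⁻¹ : Γ(X'.left, ⊤)ˣ) : Γ(X'.left, ⊤)) ^ 2 * f.left.appTop a)) *
        D.t (D.av v * D.av v * (f ≫ t)) * D.p (f.left.appTop b) := by
    rw [← _root_.mul_assoc, ← _root_.mul_assoc, _root_.mul_assoc (D.h v), D.hq, ← _root_.mul_assoc, D.hq, map_mul, map_mul]
    simp only [_root_.mul_assoc, R1.h_apply]
  rw [h3, h4] at h2
  obtain ⟨-, h5, -⟩ := cell_inj H hΩ h2
  have h6 : D.av v * D.av v = 1 := mul_eq_right.mp h5.symm
  have h7 := congrArg D.ch h6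
  rw [map_mul, D.ch_av, map_one, ← pow_add] at h7
  have h8 := congrArg Units.val h7
  rw [Units.val_pow_eq_pow_val, Units.val_one] at h8
  have h9 := hv' 4 (by norm_num)
  have h10 : (v : Γ(X'.left, ⊤)) ^ 4 - 1 = 0 := by
    rw [sub_eq_zero]; exact h8
  rw [h10] at h9
  exact Fn.not_isUnit_zero pt' h9

include hΩ in
/-- `p₊(x) p₋(y)` is in the cell iff `1 + x y` is a unit -/
theorem p_mul_q_inCell_iff {X : Over S} (x y : Γ(X.left, ⊤)) :
    InCell H X ((H.sys X).p x * (H.sys X).q y) ↔ IsUnit (1 + x * y) := by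
  constructor
  · intro h
    refine isUnit_of_ne_zero fun pt h0 => ?_
    obtain ⟨z⟩ := (isFld_rp X pt).ne
    set f := rf X pt
    rw [map_add, map_one, map_mul] at h0
    have hu : f.left.appTop x * (-f.left.appTop y) = 1 := by linear_combination -h0
    let x' : Γ((rp X pt).left, ⊤)ˣ := ⟨f.left.appTop x, -f.left.appTop y, hu, by rw [mul_comm]; exact hu⟩
    have h1 := h.nat f
    rw [MonObj.comp_mul, p_nat, q_nat] at h1
    have h2 := h1.mul_p (f.left.appTop x)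
    apply w_not_inCell H hΩ z x'
    rw [R1.w_def]
    have e1 : -((x'⁻¹ : Γ((rp X pt).left, ⊤)ˣ) : Γ((rp X pt).left, ⊤)) = f.left.appTop y := neg_neg _
    rw [e1]
    exact h2
  · rintro ⟨z, hz⟩
    rw [(H.sys X).F' x y z hz]
    exact ⟨_, _, _, rfl⟩

/-- being in the translate of the cell by `w(1)` -/
def InW (X : Over S) (g : X ⟶ G) : Prop := InCell H X (((H.sys X).w 1)⁻¹ * g)

variable {H}

lemma InW.nat {X X' : Over S} (f : X' ⟶ X) {g : X ⟶ G} (h : InW H X g) : InW H X' (f ≫ g) := by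
  have h1 := InCell.nat f h
  rw [MonObj.comp_mul, GrpObj.comp_inv, w_nat, map_one] at h1
  exact h1

variable (H)

/-- the points of the form `w(1) t p₊(b)` -/
def WB (X : Over S) (g : X ⟶ G) : Prop :=
  ∃ (t : X ⟶ T) (b : Γ(X.left, ⊤)), g = (H.sys X).w 1 * (H.sys X).t t * (H.sys X).p b

variable {H}

lemma WB.mul_p {X : Over S} {g : X ⟶ G} (h : WB H X g) (x : Γ(X.left, ⊤)) :
    WB H X (g * (H.sys X).p x) := by
  obtain ⟨t, b, rfl⟩ := h
  exact ⟨t, b + x, by rw [R1.p_add]; simp only [_root_.mul_assoc]⟩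

lemma WB.mul_t {X : Over S} {g : X ⟶ G} (h : WB H X g) (s : X ⟶ T) :
    WB H X (g * (H.sys X).t s) := by
  obtain ⟨t, b, rfl⟩ := h
  exact ⟨t * s, ((H.sys X).ch s)⁻¹ * b, by
    rw [_root_.mul_assoc _ ((H.sys X).p b), (H.sys X).pt, map_mul]
    simp only [_root_.mul_assoc]⟩

lemma q_w {X : Over S} (Y : Γ(X.left, ⊤)) : (H.sys X).q Y * (H.sys X).w 1 =
    (H.sys X).w 1 * (H.sys X).p (-Y) := by
  have := w_p H (X := X) 1 (-Y)
  rw [inv_one, Units.val_one, one_pow, _root_.one_mul, neg_neg] at this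
  exact this.symm

lemma p_w {X : Over S} (Y : Γ(X.left, ⊤)) : (H.sys X).p Y * (H.sys X).w 1 =
    (H.sys X).w 1 * (H.sys X).q (-Y) := by
  have := w_q H (X := X) 1 (-Y)
  rw [Units.val_one, one_pow, _root_.one_mul, neg_neg] at this
  exact this.symm

lemma t_w' {X : Over S} (s : X ⟶ T) : (H.sys X).t s * (H.sys X).w 1 =
    (H.sys X).w 1 * (H.sys X).t (((H.sys X).av ((H.sys X).ch s))⁻¹ * s) := by
  have h1 := (H.sys X).t_w s 1
  have h2 := (H.sys X).w_mul' ((H.sys X).ch s) 1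
  rw [h1, h2, map_mul, map_inv, ← R1.h_apply, _root_.mul_assoc]

lemma WB.q_mul {X : Over S} {g : X ⟶ G} (h : WB H X g) (x : Γ(X.left, ⊤)) :
    WB H X ((H.sys X).q x * g) := by
  obtain ⟨t, b, rfl⟩ := h
  have h1 : (H.sys X).q x * ((H.sys X).w 1 * (H.sys X).t t * (H.sys X).p b) =
      (H.sys X).w 1 * (H.sys X).t 1 * (H.sys X).p (-x) * (H.sys X).t t * (H.sys X).p b := by
    rw [← _root_.mul_assoc, ← _root_.mul_assoc, q_w, map_one, _root_.mul_one]
  rw [h1]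
  have h2 : WB H X ((H.sys X).w 1 * (H.sys X).t 1 * (H.sys X).p (-x)) := ⟨_, _, rfl⟩
  exact (h2.mul_t t).mul_p b

lemma WB.t_mul {X : Over S} {g : X ⟶ G} (h : WB H X g) (s : X ⟶ T) :
    WB H X ((H.sys X).t s * g) := by
  obtain ⟨t, b, rfl⟩ := h
  refine ⟨((H.sys X).av ((H.sys X).ch s))⁻¹ * s * t, b, ?_⟩
  rw [← _root_.mul_assoc, ← _root_.mul_assoc, t_w', map_mul (H.sys X).t (_ * s) t]
  simp only [_root_.mul_assoc]

lemma WB.inW {X : Over S} {g : X ⟶ G} (h : WB H X g) : InW H X g := by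
  obtain ⟨t, b, rfl⟩ := h
  refine ⟨0, t, b, ?_⟩
  rw [R1.q_zero, _root_.one_mul]
  simp only [_root_.mul_assoc, inv_mul_cancel_left]

variable (H)

/-- over a field-like base, a product of two elements of the cell is in the cell or in `w(1) T U₊` -/
lemma mul_inCell_of_fld {X : Over S} (hX : IsFld X) {g g' : X ⟶ G} (h : InCell H X g)
    (h' : InCell H X g') : InCell H X (g * g') ∨ WB H X (g * g') := by
  obtain ⟨y, t, x, rfl⟩ := h
  obtain ⟨y', t', x', rfl⟩ := h'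
  set D := H.sys X with hD
  have e0 : D.q y * D.t t * D.p x * (D.q y' * D.t t' * D.p x') =
      D.q y * (D.t t * ((D.p x * D.q y') * D.t t' * D.p x')) := by
    simp only [_root_.mul_assoc]
  rw [e0]
  rcases hX.fn (1 + x * y') with h0 | ⟨z, hz⟩
  · right
    have hu : x * (-y') = 1 := by linear_combination -h0
    let xu : Γ(X.left, ⊤)ˣ := ⟨x, -y', hu, by rw [mul_comm]; exact hu⟩
    have e1 : D.p x * D.q y' = D.h xu * (D.w 1 * D.t 1 * D.p (-x)) := by
      have h1 := D.w_mul xu 1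
      rw [_root_.mul_one] at h1
      rw [map_one, _root_.mul_one, ← _root_.mul_assoc, ← h1, R1.w_def, R1.p_neg]
      have e2 : -((xu⁻¹ : Γ(X.left, ⊤)ˣ) : Γ(X.left, ⊤)) = y' := neg_neg _
      rw [e2]
      change _ = D.p x * D.q y' * D.p x * _
      rw [mul_inv_cancel_right]
    have h2 : WB H X (D.w 1 * D.t 1 * D.p (-x)) := ⟨_, _, rfl⟩
    rw [e1]
    exact ((((h2.t_mul _).mul_t t').mul_p x').t_mul t).q_mul y
  · left
    rw [D.F' x y' z hz]
    have h1 : InCell H X (D.q ((z⁻¹ : Γ(X.left, ⊤)ˣ) * y') * D.h z * D.p ((z⁻¹ : Γ(X.left, ⊤)ˣ) * x)) :=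
      ⟨_, _, _, rfl⟩
    exact (((h1.mul_t t').mul_p x').t_mul t).q_mul y

/-- the Weyl element as an `S`-point -/
noncomputable def w₀ : 𝟙_ (Over S) ⟶ G := (H.sys _).w 1

lemma toUnit_w₀ (X : Over S) : toUnit X ≫ w₀ H = (H.sys X).w 1 := by
  rw [w₀, w_nat, map_one]

/-- the translated cell -/
noncomputable def wcell : (Red.Ga S ⊗ T) ⊗ Red.Ga S ⟶ G := (toUnit _ ≫ w₀ H) * cell i pp pm

/-- left translation by `w₀` -/
noncomputable def lw : G ⟶ G := (toUnit _ ≫ w₀ H) * 𝟙 G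

/-- left translation by `w₀⁻¹` -/
noncomputable def lw' : G ⟶ G := (toUnit _ ≫ w₀ H)⁻¹ * 𝟙 G

lemma comp_lw {X : Over S} (g : X ⟶ G) : g ≫ lw H = (H.sys X).w 1 * g := by
  rw [lw, MonObj.comp_mul, Category.comp_id, ← Category.assoc, toUnit_unique (g ≫ toUnit _) (toUnit _),
    toUnit_w₀]

lemma comp_lw' {X : Over S} (g : X ⟶ G) : g ≫ lw' H = ((H.sys X).w 1)⁻¹ * g := by
  rw [lw', MonObj.comp_mul, Category.comp_id, GrpObj.comp_inv, ← Category.assoc,
    toUnit_unique (g ≫ toUnit _) (toUnit _), toUnit_w₀]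

lemma lw_lw' : lw H ≫ lw' H = 𝟙 G := by
  rw [comp_lw']
  have h1 := comp_lw H (𝟙 G)
  rw [Category.id_comp] at h1
  rw [h1, inv_mul_cancel_left]

lemma lw'_lw : lw' H ≫ lw H = 𝟙 G := by
  rw [comp_lw]
  have h1 := comp_lw' H (𝟙 G)
  rw [Category.id_comp] at h1
  rw [h1, mul_inv_cancel_left]

/-- left translation by `w₀` as an isomorphism -/
noncomputable def lwIso : G ≅ G := ⟨lw H, lw' H, lw_lw' H, lw'_lw H⟩

include hΩ in
lemma inW_iff {X : Over S} (g : X ⟶ G) :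
    InW H X g ↔ Set.range g.left ⊆ (lw' H).left ⁻¹' Set.range (cell i pp pm).left := by
  rw [InW, ← comp_lw', inCell_iff H hΩ]
  constructor
  · rintro h _ ⟨x, rfl⟩
    have := h ⟨x, rfl⟩
    rw [Over.comp_left, Scheme.Hom.comp_apply] at this
    exact this
  · rintro h _ ⟨x, rfl⟩
    rw [Over.comp_left, Scheme.Hom.comp_apply]
    exact h ⟨x, rfl⟩

lemma isFld_kp (s : S) : IsFld (kp s) := isFld_of_spec (K s) rfl

variable [LocallyOfFiniteType G.hom] (hirr : ∀ s : S, IrreducibleSpace (Red.geomFibre s G).left)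

include hΩ hirr

/-- the covering `G = Ω ∪ wΩ`, topologically -/
theorem cover (u : G.left) : u ∈ Set.range (cell i pp pm).left ∨
    (lw' H).left u ∈ Set.range (cell i pp pm).left := by
  by_contra hu
  rw [not_or] at hu
  have hop : IsOpen (Set.range (cell i pp pm).left) := hΩ.isOpen_range
  let Z : Set G.left := (Set.range (cell i pp pm).left)ᶜ ∩
    ((lw' H).left ⁻¹' Set.range (cell i pp pm).left)ᶜ
  have hZ : IsClosed Z := hop.isClosed_compl.inter ((hop.preimage (lw' H).left.continuous).isClosed_compl)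
  obtain ⟨x, hx1, hx2⟩ := exists_pt' (s := G.hom u) hZ.isLocallyClosed (u := u) hu rfl
  have := hirr (G.hom u)
  have h1 : pt (1 : kp (G.hom u) ⟶ G) ∈ Set.range (cell i pp pm).left :=
    (inCell_iff H hΩ _).1 inCell_one ⟨_, rfl⟩
  obtain ⟨a, b, ha, hb, rfl⟩ := exists_mul hop h1 x
  have ha' : InCell H _ a := by
    rw [inCell_iff H hΩ, range_eq]
    exact Set.singleton_subset_iff.mpr ha
  have hb' : InCell H _ b := by
    rw [inCell_iff H hΩ, range_eq]
    exact Set.singleton_subset_iff.mpr hb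
  rcases mul_inCell_of_fld H (isFld_kp _) ha' hb' with h | h
  · exact hx1 ((inCell_iff H hΩ _).1 h ⟨_, rfl⟩)
  · exact hx2 ((inW_iff H hΩ _).1 h.inW ⟨_, rfl⟩)

/-- over a test object with one point, `G = Ω ∪ w T U₊` -/
theorem inCell_or_wB {X : Over S} (hX : IsFld X) (g : X ⟶ G) : InCell H X g ∨ WB H X g := by
  by_cases h : InCell H X g
  · exact Or.inl h
  right
  obtain ⟨x⟩ := hX.ne
  have hr : ∀ z : X.left, z = x := fun z => hX.sub z x
  have hW : InW H X g := by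
    rw [inW_iff H hΩ]
    rintro _ ⟨z, rfl⟩
    rcases cover H hΩ hirr (g.left z) with h1 | h1
    · exfalso
      apply h
      rw [inCell_iff H hΩ]
      rintro _ ⟨z', rfl⟩
      rw [hr z', ← hr z]
      exact h1
    · exact h1
  obtain ⟨a, t, b, hab⟩ := hW
  rw [inv_mul_eq_iff_eq_mul] at hab
  rcases hX.fn a with h0 | ⟨c, hc⟩
  · refine ⟨t, b, ?_⟩
    rw [hab, h0, R1.q_zero, _root_.one_mul, ← _root_.mul_assoc]
  · exfalso
    apply h
    rw [hab, ← _root_.mul_assoc, ← _root_.mul_assoc, ← hc, w_q_cell H 1 c]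
    have h1 : InCell H X ((H.sys X).q (-((1⁻¹ ^ 2 * c⁻¹ : Γ(X.left, ⊤)ˣ) : Γ(X.left, ⊤))) *
      (H.sys X).h (1 * c) * (H.sys X).p ((c⁻¹ : Γ(X.left, ⊤)ˣ) : Γ(X.left, ⊤))) := ⟨_, _, _, rfl⟩
    exact (h1.mul_t t).mul_p b

omit hirr [LocallyOfFiniteType G.hom] in
/-- the two possibilities exclude each other -/
theorem not_both {X : Over S} (x : X.left) {g : X ⟶ G} (h : InCell H X g) (h' : WB H X g) : False := by
  obtain ⟨t, b, rfl⟩ := h'
  have h1 := (h.mul_p (-b)).mul_t t⁻¹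
  rw [R1.p_neg, mul_inv_cancel_right, map_inv, mul_inv_cancel_right] at h1
  exact w_not_inCell H hΩ x 1 h1

/-- every point of `G` is Zariski-locally in `Ω` or in `wΩ` -/
theorem exists_open {X : Over S} (g : X ⟶ G) (x : X.left) : ∃ (X' : Over S) (f : X' ⟶ X),
    IsOpenImmersion f.left ∧ x ∈ Set.range f.left ∧ (InCell H X' (f ≫ g) ∨ InW H X' (f ≫ g)) := by
  have hop : IsOpen (Set.range (cell i pp pm).left) := hΩ.isOpen_range
  have key : ∀ (U : X.left.Opens), x ∈ U → ∃ (X' : Over S) (f : X' ⟶ X), IsOpenImmersion f.left ∧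
      x ∈ Set.range f.left ∧ Set.range f.left ⊆ (U : Set X.left) := by
    intro U hU
    refine ⟨Over.mk (U.ι ≫ X.hom), Over.homMk U.ι rfl, ?_, ?_, ?_⟩
    · change IsOpenImmersion U.ι
      infer_instance
    · change x ∈ Set.range U.ι
      rw [Scheme.Opens.range_ι]; exact hU
    · change Set.range U.ι ⊆ _
      rw [Scheme.Opens.range_ι]
  rcases cover H hΩ hirr (g.left x) with h1 | h1
  · obtain ⟨X', f, hf, hx, hU⟩ := key ⟨g.left ⁻¹' Set.range (cell i pp pm).left, hop.preimage g.left.continuous⟩ h1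
    refine ⟨X', f, hf, hx, Or.inl ?_⟩
    rw [inCell_iff H hΩ]
    rintro _ ⟨z, rfl⟩
    rw [Over.comp_left, Scheme.Hom.comp_apply]
    exact hU ⟨z, rfl⟩
  · obtain ⟨X', f, hf, hx, hU⟩ := key ⟨g.left ⁻¹' ((lw' H).left ⁻¹' Set.range (cell i pp pm).left),
      (hop.preimage (lw' H).left.continuous).preimage g.left.continuous⟩ h1
    refine ⟨X', f, hf, hx, Or.inr ?_⟩
    rw [inW_iff H hΩ]
    rintro _ ⟨z, rfl⟩
    rw [Over.comp_left, Scheme.Hom.comp_apply]
    exact hU ⟨z, rfl⟩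

end K212.R1Geo
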