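import Groth.Agent.Red.K212.R1Cent
import Groth.Agent.Red.K212.Rescale
import Groth.Agent.Red.K212.GmTor

/-!
# Homomorphisms between rank one systems

`Good H H' q f c`: `f(p₊(x)) = p'₊(c x^q)` and `f(p₋(y)) = p'₋(c⁻¹ y^q)`.
* `Good.map_w`, `Good.map_h`: the images of the Weyl elements and of the coroot.
* `Good.exists_fT`: such an `f` restricts to the tori.
* `exists_good`: a homomorphism compatible with the tori is good for some `c`.
-/

set_option autoImplicit false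
universe u
open CategoryTheory MonoidalCategory CartesianMonoidalCategory MonObj GrpObj AlgebraicGeometry Limits

namespace K212.R1Hom

open Groth.Agent.Sga3B.DSPts Groth.Agent.Sga3B.GaPts Groth.Agent.Sga3.H811.Pts K212.R1Alg K212.R1Mk
open K212.R1Conj K212.R1Geo K212.Rescale K212.R1Cent

variable {S : Scheme.{u}} {G T : Over S} [GrpObj G] [GrpObj T]
  {i : T ⟶ G} {α : T ⟶ Red.Gm S} {pp pm : Red.Ga S ⟶ G} {av : Red.Gm S ⟶ T}
  (H : R1Hyp i α pp pm av)
  {G' T' : Over S} [GrpObj G'] [GrpObj T']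
  {i' : T' ⟶ G'} {α' : T' ⟶ Red.Gm S} {pp' pm' : Red.Ga S ⟶ G'} {av' : Red.Gm S ⟶ T'}
  (H' : R1Hyp i' α' pp' pm' av')

/-- additivity of the `q`-th power -/
def Add (S : Scheme.{u}) (q : ℕ) : Prop :=
  ∀ (X : Over S) (a b : Γ(X.left, ⊤)), (a + b) ^ q = a ^ q + b ^ q

lemma Add.neg {q : ℕ} (hq0 : 0 < q) (hq : Add S q) {X : Over S} (a : Γ(X.left, ⊤)) :
    (-a) ^ q = -a ^ q := by
  have h1 := hq X a (-a)
  rw [add_neg_cancel, zero_pow hq0.ne'] at h1
  linear_combination -h1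

lemma Add.sub {q : ℕ} (hq0 : 0 < q) (hq : Add S q) {X : Over S} (a b : Γ(X.left, ⊤)) :
    (a - b) ^ q = a ^ q - b ^ q := by
  rw [sub_eq_add_neg, hq, Add.neg hq0 hq, sub_eq_add_neg]

/-- `f` maps the root groups to the root groups, through `x ↦ c x^q` and `y ↦ c⁻¹ y^q`. -/
structure Good (q : ℕ) (f : G ⟶ G') (c : 𝟙_ (Over S) ⟶ Red.Gm S) : Prop where
  p : ∀ (X : Over S) (x : Γ(X.left, ⊤)), (H.sys X).p x ≫ f = (H'.sys X).p (cst c X * x ^ q)
  q : ∀ (X : Over S) (x : Γ(X.left, ⊤)), (H.sys X).q x ≫ f =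
    (H'.sys X).q (((cst c X)⁻¹ : Γ(X.left, ⊤)ˣ) * x ^ q)

variable {H H'} {q : ℕ} {f : G ⟶ G'} {c : 𝟙_ (Over S) ⟶ Red.Gm S}

lemma Good.map_w [IsMonHom f] (hq0 : 0 < q) (hq : Add S q) (hf : Good H H' q f c) {X : Over S}
    (x : Γ(X.left, ⊤)ˣ) : (H.sys X).w x ≫ f = (H'.sys X).w (cst c X * x ^ q) := by
  rw [R1.w_def, R1.w_def, MonObj.mul_comp, MonObj.mul_comp, hf.p, hf.q, Add.neg hq0 hq, Units.val_mul,
    Units.val_pow_eq_pow_val]
  congr 3
  rw [_root_.mul_inv_rev, ← inv_pow, Units.val_mul, Units.val_pow_eq_pow_val]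
  ring

lemma Good.map_h [IsMonHom f] (hq0 : 0 < q) (hq : Add S q) (hf : Good H H' q f c) {X : Over S}
    (z : Γ(X.left, ⊤)ˣ) : (H.sys X).h z ≫ f = (H'.sys X).h (z ^ q) := by
  have h1 := (H.sys X).F' ((z : Γ(X.left, ⊤)) - 1) 1 z (by ring)
  have h2 := congrArg (fun k => k ≫ f) h1
  simp only [MonObj.mul_comp, hf.p, hf.q] at h2
  have h3 := (H'.sys X).F' (cst c X * ((z : Γ(X.left, ⊤)) - 1) ^ q) (((cst c X)⁻¹ : Γ(X.left, ⊤)ˣ) * 1 ^ q) (z ^ q) (by
    rw [Add.sub hq0 hq, one_pow, Units.val_pow_eq_pow_val]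
    have := Units.mul_inv (cst c X)
    linear_combination (1 - (z : Γ(X.left, ⊤)) ^ q) * this)
  rw [h3] at h2
  have e1 : (((z ^ q)⁻¹ : Γ(X.left, ⊤)ˣ) : Γ(X.left, ⊤)) * (((cst c X)⁻¹ : Γ(X.left, ⊤)ˣ) * 1 ^ q) =
      ((cst c X)⁻¹ : Γ(X.left, ⊤)ˣ) * (((z⁻¹ : Γ(X.left, ⊤)ˣ) : Γ(X.left, ⊤)) * 1) ^ q := by
    rw [mul_pow, ← inv_pow, Units.val_pow_eq_pow_val]; ring
  have e2 : (((z ^ q)⁻¹ : Γ(X.left, ⊤)ˣ) : Γ(X.left, ⊤)) * (cst c X * ((z : Γ(X.left, ⊤)) - 1) ^ q) =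
      cst c X * (((z⁻¹ : Γ(X.left, ⊤)ˣ) : Γ(X.left, ⊤)) * ((z : Γ(X.left, ⊤)) - 1)) ^ q := by
    rw [mul_pow, ← inv_pow, Units.val_pow_eq_pow_val]; ring
  rw [e1, e2] at h2
  exact (mul_left_cancel (mul_right_cancel h2)).symm

/-- A good homomorphism restricts to the tori. -/
theorem Good.exists_fT [IsMonHom f] [Mono pp'] [Mono i'] (hΩ' : IsOpenImmersion (cell i' pp' pm').left)
    [LocallyOfFiniteType G'.hom] (hirr' : ∀ s : S, IrreducibleSpace (Red.geomFibre s G').left)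
    (hq0 : 0 < q) (hq : Add S q) (hf : Good H H' q f c) :
    ∃ fT : T ⟶ T', IsMonHom fT ∧ i ≫ f = fT ≫ i' ∧ fT ≫ α' = α ^ q ∧ av ≫ fT = av' ^ q := by
  have := H.mi; have := H.ma; have := H.mav; have := H'.mi; have := H'.ma; have := H'.mav
  obtain ⟨fT, hfT⟩ := exists_of_comm H' hΩ' hirr' (m := q) hq0.ne' (g := i ≫ f) (by
    intro X y u
    rw [← hf.map_h hq0 hq, ← Category.assoc, ← MonObj.mul_comp, ← MonObj.mul_comp, comp_i H, R1.t_h])
  have hmon : IsMonHom fT := Groth.Agent.Sga3B.Pts.isMonHom_of_points _ fun X x y => by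
    rw [← cancel_mono i', MonObj.mul_comp (x ≫ fT) (y ≫ fT) i', Category.assoc, Category.assoc,
      Category.assoc, hfT, ← Category.assoc, MonObj.mul_comp, MonObj.mul_comp, Category.assoc, Category.assoc]
  have hfT' : ∀ {X : Over S} (t : X ⟶ T), (H.sys X).t t ≫ f = (H'.sys X).t (t ≫ fT) := by
    intro X t
    rw [← comp_i H, ← comp_i H', Category.assoc, Category.assoc, hfT]
  refine ⟨fT, hmon, hfT.symm, ?_, ?_⟩
  · -- the root
    have key : ∀ {X : Over S} (t : X ⟶ T), t ≫ fT ≫ α' = t ≫ α ^ q := by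
      intro X t
      have h1 := (H.sys X).tp t 1
      have h2 := congrArg (fun k => k ≫ f) h1
      simp only [MonObj.mul_comp, hf.p, hfT'] at h2
      rw [(H'.sys X).tp, mul_left_inj] at h2
      have h3 := congrArg Red.gaFn ((cancel_mono pp').mp h2)
      rw [gaFn_gaPt, gaFn_gaPt, one_pow, _root_.mul_one, _root_.mul_one, mul_comm] at h3
      have h4 := (cst c X).isUnit.mul_left_cancel h3
      apply gmFn_injective
      rw [MonObj.comp_pow, gmFn_pow, ← ch_val H t, ← h4, ch_val, Category.assoc]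
    have := key (𝟙 T)
    rwa [Category.id_comp, Category.id_comp] at this
  · -- the coroot
    have key : ∀ {X : Over S} (z : X ⟶ Red.Gm S), z ≫ av ≫ fT = z ≫ av' ^ q := by
      intro X z
      rw [← cancel_mono i', Category.assoc, Category.assoc, hfT]
      have h1 := hf.map_h hq0 hq (uPt z)
      rw [← comp_av_i H] at h1
      rw [MonObj.comp_pow, MonObj.pow_comp, comp_av H', comp_i H', ← map_pow, ← map_pow, ← R1.h_apply, ← h1]
      simp only [Category.assoc]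
    have := key (𝟙 _)
    rwa [Category.id_comp, Category.id_comp] at this

end K212.R1Hom
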