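import Groth.Agent.Red.K212.R1Hom

/-!
# Homomorphisms between rank one systems compatible with the coroots are good
-/

set_option autoImplicit false
universe u
open CategoryTheory MonoidalCategory CartesianMonoidalCategory MonObj GrpObj AlgebraicGeometry Limits

namespace K212.R1Hom

open Groth.Agent.Sga3B.DSPts Groth.Agent.Sga3B.GaPts Groth.Agent.Sga3.H811.Pts K212.R1Alg K212.R1Mk
open K212.R1Conj K212.R1Geo K212.Rescale K212.R1Cent K212.Weight K212.Fn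

variable {S : Scheme.{u}} {G T : Over S} [GrpObj G] [GrpObj T]
  {i : T ⟶ G} {α : T ⟶ Red.Gm S} {pp pm : Red.Ga S ⟶ G} {av : Red.Gm S ⟶ T}
  (H : R1Hyp i α pp pm av)
  {G' T' : Over S} [GrpObj G'] [GrpObj T']
  {i' : T' ⟶ G'} {α' : T' ⟶ Red.Gm S} {pp' pm' : Red.Ga S ⟶ G'} {av' : Red.Gm S ⟶ T'}
  (H' : R1Hyp i' α' pp' pm' av')
  {q : ℕ} {f : G ⟶ G'} [IsMonHom f]
  (hh : ∀ (X : Over S) (z : Γ(X.left, ⊤)ˣ), (H.sys X).h z ≫ f = (H'.sys X).h (z ^ q))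
  (hΩ' : IsOpenImmersion (cell i' pp' pm').left)

include H H' hh hΩ'

/-- the image of the positive root group -/
lemma exists_nu_pos : ∃ ν : 𝟙_ (Over S) ⟶ Red.Ga S, ∀ (X : Over S) (x : Γ(X.left, ⊤)),
    (H.sys X).p x ≫ f = (H'.sys X).p (Red.gaFn (toUnit X ≫ ν) * x ^ q) := by
  have := H.mpp; have := H'.mi; have := H'.ma; have := H'.mav; have := H'.mpp; have := H'.mpm
  have hw : HasWeight i' α' av' q (pp ≫ f) := by
    intro X t x x' hx
    rw [H'.h2, MonObj.comp_pow, gmFn_pow, Category.comp_id] at hx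
    have e1 : t ≫ av' ≫ i' = (H'.sys X).h (uPt t) := comp_av_i H' t
    have e2 : x' ≫ pp ≫ f = ((H.sys X).h (uPt t) * (x ≫ pp) * ((H.sys X).h (uPt t))⁻¹) ≫ f := by
      rw [← Category.assoc, comp_pp H x, (H.sys X).hp, mul_inv_cancel_right, uPt_val, ← hx, ← comp_pp H x']
    rw [e1, e2, MonObj.mul_comp, MonObj.mul_comp, GrpObj.inv_comp, hh, map_pow, Category.assoc]
  obtain ⟨ν, hν⟩ := exists_nu (Q := Red.Gm S) (j := av') H'.tcomm H'.hpp H'.hpm hΩ' (GmTor.isTorus_Gm S)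
    (fun s => by rw [H'.h2]; exact GmTor.map_sq_ne_one s) hw
  refine ⟨ν, fun X x => ?_⟩
  have := hν X x
  rw [← Category.assoc] at this
  exact this

/-- the image of the negative root group -/
lemma exists_nu_neg : ∃ ν : 𝟙_ (Over S) ⟶ Red.Ga S, ∀ (X : Over S) (x : Γ(X.left, ⊤)),
    (H.sys X).q x ≫ f = (H'.sys X).q (Red.gaFn (toUnit X ≫ ν) * x ^ q) := by
  have := H.mpm; have := H'.mi; have := H'.ma; have := H'.mav; have := H'.mpp; have := H'.mpm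
  let P : Red.Ga S ⟶ G' := (toUnit _ ≫ w₀ H') * (pm ≫ f) * (toUnit _ ≫ w₀ H')⁻¹
  have hP : ∀ {X : Over S} (x : X ⟶ Red.Ga S), x ≫ P =
      (H'.sys X).w 1 * (x ≫ pm ≫ f) * ((H'.sys X).w 1)⁻¹ := by
    intro X x
    change x ≫ ((toUnit _ ≫ w₀ H') * (pm ≫ f) * (toUnit _ ≫ w₀ H')⁻¹) = _
    rw [MonObj.comp_mul, MonObj.comp_mul, GrpObj.comp_inv, ← Category.assoc x (toUnit _),
      toUnit_unique (x ≫ toUnit _) (toUnit X), toUnit_w₀]
  have hPm : IsMonHom P := Groth.Agent.Sga3B.Pts.isMonHom_of_points _ fun X x y => by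
    rw [hP, hP, hP, MonObj.mul_comp]
    group
  have hw : HasWeight i' α' av' q P := by
    intro X t x x' hx
    rw [H'.h2, MonObj.comp_pow, gmFn_pow, Category.comp_id] at hx
    have e1 : t ≫ av' ≫ i' = (H'.sys X).h (uPt t) := comp_av_i H' t
    have e2 : x' ≫ pm ≫ f = (((H.sys X).h (uPt t))⁻¹ * (x ≫ pm) * (H.sys X).h (uPt t)) ≫ f := by
      rw [← Category.assoc, comp_pm H x, _root_.mul_assoc, (H.sys X).qh, inv_mul_cancel_left, uPt_val, ← hx,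
        ← comp_pm H x']
    rw [e1, hP, hP, e2, MonObj.mul_comp, MonObj.mul_comp, GrpObj.inv_comp, hh, Category.assoc, ← map_pow]
    have e3 := (H'.sys X).w_h 1 ((uPt t ^ q)⁻¹)
    rw [map_inv, _root_.inv_inv] at e3
    have e4 : (H'.sys X).w 1 * (((H'.sys X).h (uPt t ^ q))⁻¹ * (x ≫ pm ≫ f) * (H'.sys X).h (uPt t ^ q)) *
        ((H'.sys X).w 1)⁻¹ = ((H'.sys X).w 1 * ((H'.sys X).h (uPt t ^ q))⁻¹) * (x ≫ pm ≫ f) *
        ((H'.sys X).w 1 * ((H'.sys X).h (uPt t ^ q))⁻¹)⁻¹ := by group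
    rw [e4, e3]
    group
  obtain ⟨ν, hν⟩ := exists_nu (Q := Red.Gm S) (j := av') H'.tcomm H'.hpp H'.hpm hΩ' (GmTor.isTorus_Gm S)
    (fun s => by rw [H'.h2]; exact GmTor.map_sq_ne_one s) hw
  refine ⟨ν⁻¹, fun X x => ?_⟩
  have h1 := hν X x
  rw [hP] at h1
  have h2 : (H.sys X).q x ≫ f = ((H'.sys X).w 1)⁻¹ * ((H'.sys X).p (Red.gaFn (toUnit X ≫ ν) * x ^ q) *
      (H'.sys X).w 1) := by
    rw [eq_inv_mul_iff_mul_eq, ← mul_inv_eq_iff_eq_mul]
    exact (by rw [← Category.assoc] at h1; exact h1)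
  rw [h2, p_w, inv_mul_cancel_left, GrpObj.comp_inv, gaFn_inv, neg_mul]

omit hΩ' in
/-- the comparison of the commutation rules -/
lemma rel (hΩ' : IsOpenImmersion (cell i' pp' pm').left) {X : Over S} {N M : Γ(X.left, ⊤)}
    (hN : ∀ x, (H.sys X).p x ≫ f = (H'.sys X).p (N * x ^ q))
    (hM : ∀ x, (H.sys X).q x ≫ f = (H'.sys X).q (M * x ^ q)) (x y : Γ(X.left, ⊤)) (z : Γ(X.left, ⊤)ˣ)
    (hz : (z : Γ(X.left, ⊤)) = 1 + x * y) :
    ∃ z' : Γ(X.left, ⊤)ˣ, (z' : Γ(X.left, ⊤)) = 1 + (N * x ^ q) * (M * y ^ q) ∧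
      z' ^ 2 = (z ^ q) ^ 2 ∧ (z' : Γ(X.left, ⊤)) * (M * y ^ q) = (z : Γ(X.left, ⊤)) ^ q * (M * y ^ q) := by
  have h1 := (H.sys X).F' x y z hz
  have h2 := congrArg (fun k => k ≫ f) h1
  simp only [MonObj.mul_comp, hN, hM, hh] at h2
  have h3 : IsUnit (1 + (N * x ^ q) * (M * y ^ q)) := by
    rw [← p_mul_q_inCell_iff H' hΩ', h2]
    exact ⟨_, _, _, rfl⟩
  obtain ⟨z', hz'⟩ := h3
  refine ⟨z', hz', ?_⟩
  rw [(H'.sys X).F' _ _ z' hz'] at h2
  obtain ⟨h4, h5, -⟩ := cell_inj H' hΩ' h2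
  refine ⟨?_, ?_⟩
  · have h6 := congrArg (H'.sys X).ch h5
    rwa [(H'.sys X).ch_av, (H'.sys X).ch_av] at h6
  · rw [mul_pow, ← Units.val_pow_eq_pow_val, inv_pow] at h4
    have e1 := Units.mul_inv z'
    have e2 := Units.mul_inv (z ^ q)
    rw [← Units.val_pow_eq_pow_val]
    linear_combination (-(z' : Γ(X.left, ⊤)) * ((z ^ q : Γ(X.left, ⊤)ˣ) : Γ(X.left, ⊤))) * h4 +
      (((z ^ q : Γ(X.left, ⊤)ˣ) : Γ(X.left, ⊤)) * (M * y ^ q)) * e1 -
      ((z' : Γ(X.left, ⊤)) * (M * y ^ q)) * e2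

/-- A homomorphism compatible with the coroots is good. -/
theorem exists_good (hq0 : 0 < q) (hq : Add S q) : ∃ c, Good H H' q f c := by
  obtain ⟨ν, hν⟩ := exists_nu_pos H H' hh hΩ'
  obtain ⟨μ', hμ⟩ := exists_nu_neg H H' hh hΩ'
  let N : ∀ X : Over S, Γ(X.left, ⊤) := fun X => Red.gaFn (toUnit X ≫ ν)
  let M : ∀ X : Over S, Γ(X.left, ⊤) := fun X => Red.gaFn (toUnit X ≫ μ')
  have hN : ∀ {X X' : Over S} (g : X' ⟶ X), g.left.appTop (N X) = N X' := by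
    intro X X' g
    change g.left.appTop (Red.gaFn (toUnit X ≫ ν)) = Red.gaFn (toUnit X' ≫ ν)
    rw [← gaFn_comp, ← Category.assoc, toUnit_unique (g ≫ toUnit X) (toUnit X')]
  have hM : ∀ {X X' : Over S} (g : X' ⟶ X), g.left.appTop (M X) = M X' := by
    intro X X' g
    change g.left.appTop (Red.gaFn (toUnit X ≫ μ')) = Red.gaFn (toUnit X' ≫ μ')
    rw [← gaFn_comp, ← Category.assoc, toUnit_unique (g ≫ toUnit X) (toUnit X')]
  -- `M N M = M`
  have hMN : ∀ X, M X * (N X * M X) = M X := by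
    intro X
    refine Gen2.fn_ext fun x => ?_
    obtain ⟨X', g, v, hg, hx, hv⟩ := Gen.exists_generic X x
    refine ⟨X', g, hg, hx, ?_⟩
    rw [map_mul, map_mul, hM, hN]
    obtain ⟨v, rfl⟩ : IsUnit v := by
      have := hv 0
      rwa [map_zero, sub_zero] at this
    obtain ⟨z, hz⟩ : IsUnit (1 + (v : Γ(X'.left, ⊤)) * 1) := by
      have := hv (-1)
      rw [map_neg, map_one] at this
      rw [_root_.mul_one, add_comm]
      rwa [sub_neg_eq_add] at this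
    obtain ⟨z', h1, -, h3⟩ := rel H H' hh hΩ' (hν X') (hμ X') v 1 z hz
    change (z' : Γ(X'.left, ⊤)) = 1 + (N X' * v ^ q) * (M X' * 1 ^ q) at h1
    change (z' : Γ(X'.left, ⊤)) * (M X' * 1 ^ q) = (z : Γ(X'.left, ⊤)) ^ q * (M X' * 1 ^ q) at h3
    rw [h1, hz, _root_.mul_one, hq, one_pow, _root_.mul_one] at h3
    have h4 : (v : Γ(X'.left, ⊤)) ^ q * (M X' * (N X' * M X')) = (v : Γ(X'.left, ⊤)) ^ q * M X' := by
      linear_combination h3
    exact (v.isUnit.pow q).mul_left_cancel h4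
  -- `N M` is a unit
  have hu : ∀ X, IsUnit (N X * M X) := by
    intro X
    refine isUnit_of_ne_zero fun x h0 => ?_
    rw [map_mul, hN, hM] at h0
    obtain ⟨z₀⟩ := (isFld_rp X x).ne
    obtain ⟨X', g, v, hg, ⟨pt', -⟩, hv, hv', -⟩ := Fn.exists_generic (rp X x) z₀
    obtain ⟨v, rfl⟩ : IsUnit v := by
      have := hv 0
      rwa [map_zero, sub_zero] at this
    have h1 : N X' * M X' = 0 := by
      rw [← hN g, ← hM g, ← map_mul, h0, map_zero]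
    obtain ⟨z', h2, h3, -⟩ := rel H H' hh hΩ' (hν X') (hμ X') ((v : Γ(X'.left, ⊤)) - 1) 1 v (by ring)
    change (z' : Γ(X'.left, ⊤)) = 1 + (N X' * _) * (M X' * 1 ^ q) at h2
    have h4 : z' = 1 := by
      apply Units.ext
      rw [h2, Units.val_one]
      linear_combination (((v : Γ(X'.left, ⊤)) - 1) ^ q * 1 ^ q) * h1
    rw [h4, one_pow, ← pow_mul] at h3
    have h5 := congrArg Units.val h3
    rw [Units.val_one, Units.val_pow_eq_pow_val] at h5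
    have h6 := hv' (q * 2) (by positivity)
    rw [← h5, sub_self] at h6
    exact Fn.not_isUnit_zero pt' h6
  have h1 : ∀ X, N X * M X = 1 := by
    intro X
    have h2 : (N X * M X) * (N X * M X) = (N X * M X) * 1 := by
      linear_combination (N X) * hMN X
    exact (hu X).mul_left_cancel h2
  let a : Γ((𝟙_ (Over S)).left, ⊤)ˣ := ⟨N _, M _, h1 _, by rw [mul_comm]; exact h1 _⟩
  have ha : ∀ X : Over S, ((cst (gmPt _ a) X : Γ(X.left, ⊤)ˣ) : Γ(X.left, ⊤)) = N X := by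
    intro X
    rw [cst_val, gmFn_comp, gmFn_gmPt]
    exact hN _
  have ha' : ∀ X : Over S, (((cst (gmPt _ a) X)⁻¹ : Γ(X.left, ⊤)ˣ) : Γ(X.left, ⊤)) = M X := by
    intro X
    rw [← Units.mul_right_inj (cst (gmPt _ a) X), Units.mul_inv, ha, h1]
  refine ⟨gmPt _ a, ⟨fun X x => ?_, fun X x => ?_⟩⟩
  · rw [hν, ha]
  · rw [hμ, ha']

end K212.R1Hom
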