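import Groth.Agent.Red.K212.R1Hom2

/-!
# Good homomorphisms: translation to the form used in the statements
-/

set_option autoImplicit false
universe u
open CategoryTheory MonoidalCategory CartesianMonoidalCategory MonObj GrpObj AlgebraicGeometry Limits

namespace K212.R1Hom

open Groth.Agent.Sga3B.DSPts Groth.Agent.Sga3B.GaPts Groth.Agent.Sga3.H811.Pts K212.R1Alg K212.R1Mk
open K212.R1Conj K212.R1Geo K212.Rescale K212.R1Cent K212.Weight K212.Fn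

variable {S : Scheme.{u}} {G T : Over S} [GrpObj G] [GrpObj T]
  {i : T ⟶ G} {α : T ⟶ Red.Gm S} {pp pm : Red.Ga S ⟶ G} {av : Red.Gm S ⟶ T}
  (H : R1Hyp i α pp pm av)
  {G' T' : Over S} [GrpObj G'] [GrpObj T']
  {i' : T' ⟶ G'} {α' : T' ⟶ Red.Gm S} {pp' pm' : Red.Ga S ⟶ G'} {av' : Red.Gm S ⟶ T'}
  (H' : R1Hyp i' α' pp' pm' av')
  {q : ℕ} {f : G ⟶ G'} {c : 𝟙_ (Over S) ⟶ Red.Gm S}

lemma good_p_iff : (∀ (X : Over S) (x : Γ(X.left, ⊤)), (H.sys X).p x ≫ f = (H'.sys X).p (cst c X * x ^ q)) ↔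
    ∀ (X : Over S) (x y : X ⟶ Red.Ga S), Red.gaFn y = Red.gmFn (toUnit X ≫ c) * Red.gaFn x ^ q →
          (x ≫ pp) ≫ f = y ≫ pp' := by
  constructor
  · intro h X x y hy
    rw [comp_pp H, comp_pp H', h, hy]
    rfl
  · intro h X x
    exact h X (gaPt X x) (gaPt X _) (by rw [gaFn_gaPt, gaFn_gaPt]; rfl)

lemma good_q_iff : (∀ (X : Over S) (x : Γ(X.left, ⊤)), (H.sys X).q x ≫ f =
      (H'.sys X).q (((cst c X)⁻¹ : Γ(X.left, ⊤)ˣ) * x ^ q)) ↔
    ∀ (X : Over S) (x y : X ⟶ Red.Ga S), Red.gaFn y * Red.gmFn (toUnit X ≫ c) = Red.gaFn x ^ q →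
          (x ≫ pm) ≫ f = y ≫ pm' := by
  constructor
  · intro h X x y hy
    rw [comp_pm H, comp_pm H', h, ← hy, ← cst_val]
    congr 1
    have := Units.mul_inv (cst c X)
    linear_combination (Red.gaFn y) * this
  · intro h X x
    refine h X (gaPt X x) (gaPt X _) ?_
    rw [gaFn_gaPt, gaFn_gaPt, ← cst_val]
    have := Units.mul_inv (cst c X)
    linear_combination (x ^ q) * this

lemma good_iff : Good H H' q f c ↔
    (∀ (X : Over S) (x y : X ⟶ Red.Ga S), Red.gaFn y = Red.gmFn (toUnit X ≫ c) * Red.gaFn x ^ q →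
          (x ≫ pp) ≫ f = y ≫ pp') ∧
    (∀ (X : Over S) (x y : X ⟶ Red.Ga S), Red.gaFn y * Red.gmFn (toUnit X ≫ c) = Red.gaFn x ^ q →
          (x ≫ pm) ≫ f = y ≫ pm') := by
  rw [← good_p_iff H H', ← good_q_iff H H']
  exact ⟨fun h => ⟨h.p, h.q⟩, fun h => ⟨h.1, h.2⟩⟩

variable {H H'}

lemma eq_of_cst_eq {c c' : 𝟙_ (Over S) ⟶ Red.Gm S} (h : cst c (𝟙_ (Over S)) = cst c' (𝟙_ (Over S))) : c = c' := by
  have h2 := congrArg Units.val h
  rw [cst_val, cst_val, toUnit_unique (toUnit (𝟙_ (Over S))) (𝟙 _), Category.id_comp, Category.id_comp] at h2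
  exact gmFn_injective _ h2

lemma Good.unique [Mono pp'] {c' : 𝟙_ (Over S) ⟶ Red.Gm S} (h : Good H H' q f c) (h' : Good H H' q f c') :
    c = c' := by
  have h1 := (h.p (𝟙_ (Over S)) 1).symm.trans (h'.p (𝟙_ (Over S)) 1)
  have h2 := congrArg Red.gaFn ((cancel_mono pp').mp h1)
  rw [gaFn_gaPt, gaFn_gaPt, one_pow, _root_.mul_one, _root_.mul_one] at h2
  exact eq_of_cst_eq (Units.ext h2)

end K212.R1Hom
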