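import Groth.Agent.Red.K212.R1Ext3
import Groth.Agent.Red.K212.R1Hom3

/-!
# Twisting a rank one system by a homomorphism of tori and a power map; the isomorphism theorem in rank one
-/

set_option autoImplicit false
universe u
open CategoryTheory MonoidalCategory CartesianMonoidalCategory MonObj GrpObj AlgebraicGeometry Limits

namespace K212.Twist

open Groth.Agent.Sga3B.DSPts Groth.Agent.Sga3B.GaPts Groth.Agent.Sga3.H811.Pts K212.R1Alg K212.R1Mk
open K212.R1Conj K212.R1Geo K212.Rescale K212.R1Hom K212.R1Ext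

variable {S : Scheme.{u}}

/-- the power map -/
noncomputable def pw (S : Scheme.{u}) (q : ℕ) : Red.Ga S ⟶ Red.Ga S := gaPt _ (Red.gaFn (𝟙 (Red.Ga S)) ^ q)

lemma comp_pw (q : ℕ) {X : Over S} (x : X ⟶ Red.Ga S) : x ≫ pw S q = gaPt X (Red.gaFn x ^ q) := by
  rw [pw, comp_gaPt, map_pow, ← gaFn_comp, Category.comp_id]

lemma isMonHom_pw {q : ℕ} (hq : Add S q) : IsMonHom (pw S q) :=
  Groth.Agent.Sga3B.Pts.isMonHom_of_points _ fun X x y => by
    apply gaFn_injective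
    rw [comp_pw, comp_pw, comp_pw, gaFn_gaPt, gaFn_mul, gaFn_mul, gaFn_gaPt, gaFn_gaPt, hq]

variable {G T : Over S} [GrpObj G] [GrpObj T]
  {i : T ⟶ G} {α : T ⟶ Red.Gm S} {pp pm : Red.Ga S ⟶ G} {av : Red.Gm S ⟶ T}
  (H : R1Hyp i α pp pm av)
  {G' T' : Over S} [GrpObj G'] [GrpObj T']
  {i' : T' ⟶ G'} {α' : T' ⟶ Red.Gm S} {pp' pm' : Red.Ga S ⟶ G'} {av' : Red.Gm S ⟶ T'}
  (H' : R1Hyp i' α' pp' pm' av')
  {q : ℕ} (hq : Add S q) (c : 𝟙_ (Over S) ⟶ Red.Gm S) (fT : T ⟶ T') [IsMonHom fT]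
  (hfTα : fT ≫ α' = α ^ q) (hfTav : av ≫ fT = av' ^ q)

/-- the twisted positive root homomorphism -/
noncomputable def tp (q : ℕ) (c : 𝟙_ (Over S) ⟶ Red.Gm S) (pp' : Red.Ga S ⟶ G') : Red.Ga S ⟶ G' :=
  pw S q ≫ scale c ≫ pp'

/-- the twisted negative root homomorphism -/
noncomputable def tm (q : ℕ) (c : 𝟙_ (Over S) ⟶ Red.Gm S) (pm' : Red.Ga S ⟶ G') : Red.Ga S ⟶ G' :=
  pw S q ≫ scale c⁻¹ ≫ pm'

lemma comp_tp {X : Over S} (x : X ⟶ Red.Ga S) : x ≫ tp q c pp' = (H'.sys X).p (cst c X * Red.gaFn x ^ q) := by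
  rw [tp, ← Category.assoc, ← Category.assoc, comp_pw, gaPt_scale]
  rfl

lemma comp_tm {X : Over S} (x : X ⟶ Red.Ga S) :
    x ≫ tm q c pm' = (H'.sys X).q (((cst c X)⁻¹ : Γ(X.left, ⊤)ˣ) * Red.gaFn x ^ q) := by
  rw [tm, ← Category.assoc, ← Category.assoc, comp_pw, gaPt_scale, cst_inv]
  rfl

include hfTα in
omit [IsMonHom fT] in
lemma ch_fT [IsMonHom α'] {X : Over S} (t : X ⟶ T) : (H'.sys X).ch (t ≫ fT) = uPt (t ≫ α) ^ q := by
  apply Units.ext
  rw [ch_val, Category.assoc, hfTα, MonObj.comp_pow, gmFn_pow, Units.val_pow_eq_pow_val, uPt_val]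

include H H' hfTα hfTav hq in
/-- the twisted system -/
theorem twist : R1Hyp (fT ≫ i') α (tp q c pp') (tm q c pm') av where
  mi := by have := H'.mi; infer_instance
  ma := H.ma
  mpp := by have := H'.mpp; have := isMonHom_pw hq; unfold tp; infer_instance
  mpm := by have := H'.mpm; have := isMonHom_pw hq; unfold tm; infer_instance
  mav := H.mav
  tcomm := H.tcomm
  hpp X t x := by
    have := H'.ma
    refine ⟨gaPt X (Red.gmFn (t ≫ α) * Red.gaFn x), ?_, gaFn_gaPt _ _⟩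
    rw [comp_tp H', comp_tp H', gaFn_gaPt, ← Category.assoc, comp_i H', (H'.sys X).tp, mul_inv_cancel_right,
      ch_fT H' fT hfTα, mul_pow, Units.val_pow_eq_pow_val, uPt_val, mul_left_comm]
  hpm X t y := by
    have := H'.ma
    refine ⟨gaPt X (((uPt (t ≫ α))⁻¹ : Γ(X.left, ⊤)ˣ) * Red.gaFn y), ?_, ?_⟩
    · rw [comp_tm H', comp_tm H', gaFn_gaPt, ← Category.assoc, comp_i H', (H'.sys X).tq, mul_inv_cancel_right,
        ch_fT H' fT hfTα, mul_pow, ← inv_pow, Units.val_pow_eq_pow_val, mul_left_comm]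
    · rw [gaFn_gaPt, mul_right_comm, ← uPt_val, Units.inv_mul, _root_.one_mul]
  h2 := H.h2
  hF X x y hu := by
    obtain ⟨z, hz⟩ := hu
    refine ⟨gaPt X ((z⁻¹ : Γ(X.left, ⊤)ˣ) * Red.gaFn x), gaPt X ((z⁻¹ : Γ(X.left, ⊤)ˣ) * Red.gaFn y), gmPt X z,
      by rw [gmFn_gmPt, hz], ?_, ?_, ?_⟩
    · rw [gaFn_gaPt, gmFn_gmPt, mul_right_comm, Units.inv_mul, _root_.one_mul]
    · rw [gaFn_gaPt, gmFn_gmPt, mul_right_comm, Units.inv_mul, _root_.one_mul]
    · have := H'.mi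
      have h1 := (H'.sys X).F' (cst c X * Red.gaFn x ^ q) (((cst c X)⁻¹ : Γ(X.left, ⊤)ˣ) * Red.gaFn y ^ q) (z ^ q) (by
        rw [Units.val_pow_eq_pow_val, hz, hq, one_pow, mul_pow]
        have := Units.mul_inv (cst c X)
        linear_combination (-(Red.gaFn x ^ q * Red.gaFn y ^ q)) * this)
      rw [comp_tp H', comp_tm H', comp_tp H', comp_tm H', gaFn_gaPt, gaFn_gaPt, h1]
      have e1 : gmPt X z ≫ av ≫ fT ≫ i' = (H'.sys X).h (z ^ q) := by
        rw [← Category.assoc av, hfTav, MonObj.pow_comp, MonObj.comp_pow, comp_av_i H', uPt_gmPt, map_pow]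
      rw [e1]
      congr 2
      · congr 1
        rw [mul_pow, ← inv_pow, Units.val_pow_eq_pow_val]; ring_nf
      · rw [mul_pow, ← inv_pow, Units.val_pow_eq_pow_val]; ring_nf

variable (hΩ : IsOpenImmersion (cell i pp pm).left)
  [LocallyOfFiniteType G.hom] (hirr : ∀ s : S, IrreducibleSpace (Red.geomFibre s G).left)

include hΩ hirr H H' hq hfTα hfTav in
/-- existence in the isomorphism theorem in rank one -/
theorem exists_good : ∃ f : G ⟶ G', IsMonHom f ∧ i ≫ f = fT ≫ i' ∧ Good H H' q f c := by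
  obtain ⟨f, hf, h1, h2, h3⟩ := exists_ext H (twist H H' hq c fT hfTα hfTav) hΩ hirr
  refine ⟨f, hf, h1, ⟨fun X x => ?_, fun X x => ?_⟩⟩
  · change (gaPt X x ≫ pp) ≫ f = _
    rw [Category.assoc, h2, comp_tp H', gaFn_gaPt]
  · change (gaPt X x ≫ pm) ≫ f = _
    rw [Category.assoc, h3, comp_tm H', gaFn_gaPt]

variable {H H'} {f : G ⟶ G'} [IsMonHom f] {c}

omit [IsMonHom fT] [LocallyOfFiniteType G.hom] in
include hfTav in
lemma hh_of [IsMonHom i'] (hfT : i ≫ f = fT ≫ i') (X : Over S) (z : Γ(X.left, ⊤)ˣ) :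
    (H.sys X).h z ≫ f = (H'.sys X).h (z ^ q) := by
  change ((gmPt X z ≫ av) ≫ i) ≫ f = _
  rw [Category.assoc, Category.assoc, hfT, ← Category.assoc av, hfTav, ← Category.assoc, MonObj.comp_pow,
    MonObj.pow_comp, map_pow]
  rfl

omit [IsMonHom fT] [LocallyOfFiniteType G.hom] in
include hfTav in
/-- a homomorphism compatible with the tori and the positive root groups is good -/
theorem good_of [Mono pp'] (hΩ' : IsOpenImmersion (cell i' pp' pm').left) (hfT : i ≫ f = fT ≫ i')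
    (hq0 : 0 < q) (hq : Add S q)
    (hp : ∀ (X : Over S) (x : Γ(X.left, ⊤)), (H.sys X).p x ≫ f = (H'.sys X).p (cst c X * x ^ q)) :
    Good H H' q f c := by
  have := H'.mi
  obtain ⟨c₁, hc₁⟩ := R1Hom.exists_good H H' (hh_of fT hfTav hfT) hΩ' hq0 hq
  have h1 := (hc₁.p (𝟙_ (Over S)) 1).symm.trans (hp (𝟙_ (Over S)) 1)
  have h2 := congrArg Red.gaFn ((cancel_mono pp').mp h1)
  rw [gaFn_gaPt, gaFn_gaPt, one_pow, _root_.mul_one, _root_.mul_one] at h2
  rw [← eq_of_cst_eq (Units.ext h2)]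
  exact hc₁

omit [IsMonHom fT] in
include hΩ hirr in
/-- uniqueness in the isomorphism theorem in rank one -/
theorem good_unique {f' : G ⟶ G'} [IsMonHom f'] (hfT : i ≫ f = fT ≫ i') (hfT' : i ≫ f' = fT ≫ i')
    (h : Good H H' q f c) (h' : Good H H' q f' c) : f = f' := by
  refine R1Ext.hom_ext H hΩ hirr (hfT.trans hfT'.symm) ?_ ?_
  · refine ga_hom_ext fun X x => ?_
    rw [← Category.assoc, ← Category.assoc]
    exact (h.p X x).trans (h'.p X x).symm
  · refine ga_hom_ext fun X x => ?_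
    rw [← Category.assoc, ← Category.assoc]
    exact (h.q X x).trans (h'.q X x).symm

end K212.Twist
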